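import Cfsg.Agent.Lib.FGS.RegClass
import Cfsg.Agent.Lib.Solv.Nilp
import Cfsg.Agent.Lib.Solv.CoprimeSylow
import Cfsg.Agent.Lib.Lead.CardMul

/-!
Thompson's `A × B` lemma for a single pair of commuting elements, and `p`-elements with classes of
`p`-power size.
-/

set_option autoImplicit false
set_option linter.unusedSectionVars false

open Pointwise
open scoped commutatorElement

namespace CfsgLib.FGS

open Subgroup

universe u

variable {G : Type u} [Group G] [Finite G] {p : ℕ} [hp : Fact p.Prime]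

/-- Thompson's `A × B` lemma: a `p'`-element `h` commuting with a `p`-element `x`, both normalizing
the `p`-group `O`, with `C_O(x) ≤ C(h)`, centralizes `O`. -/
theorem ab_lemma {O : Subgroup G} (hO : IsPGroup p O) {h x : G} (hhO : h ∈ normalizer (O : Set G))
    (hxO : x ∈ normalizer (O : Set G)) (hc : h * x = x * h) (hh : (orderOf h).Coprime p)
    (hx : IsPGroup p (zpowers x)) (hfix : ∀ y ∈ O, x * y = y * x → h * y = y * h) :
    ∀ y ∈ O, h * y = y * h := by
  classical
  set D : Subgroup G := O ⊓ centralizer ({h} : Set G) with hD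
  have hDmem : ∀ y, y ∈ D ↔ y ∈ O ∧ h * y = y * h := by
    intro y
    rw [hD, mem_inf, mem_centralizer_singleton_iff]
    exact and_congr_right fun _ => eq_comm
  by_contra hcon
  have hDO : D < O := by
    refine lt_of_le_of_ne inf_le_left ?_
    intro he
    apply hcon
    intro y hy
    rw [← he] at hy
    exact ((hDmem y).mp hy).2
  obtain ⟨y0, hy0O, hy0D, hy0N⟩ := exists_mem_normalizer_of_lt hO hDO
  set E : Subgroup G := O ⊓ normalizer (D : Set G) with hE
  have hDE : D < E := by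
    refine lt_of_le_of_ne (le_inf inf_le_left le_normalizer) ?_
    intro he
    exact hy0D (by rw [he]; exact ⟨hy0O, hy0N⟩)
  have hxD : x ∈ normalizer (D : Set G) := by
    apply mem_normalizer_of_conj_le
    intro y hy
    obtain ⟨hyO, hyC⟩ := (hDmem y).mp hy
    refine (hDmem _).mpr ⟨(mem_normalizer_iff.mp hxO y).mp hyO, ?_⟩
    have h1 : h * x⁻¹ = x⁻¹ * h := by
      rw [eq_inv_mul_iff_mul_eq, ← mul_assoc, ← hc, mul_assoc, mul_inv_cancel, mul_one]
    calc h * (x * y * x⁻¹) = (h * x) * y * x⁻¹ := by group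
      _ = x * (h * y) * x⁻¹ := by rw [hc]; group
      _ = x * (y * h) * x⁻¹ := by rw [hyC]
      _ = x * y * (h * x⁻¹) := by group
      _ = x * y * x⁻¹ * h := by rw [h1]; group
  have hhD : h ∈ normalizer (D : Set G) := by
    apply mem_normalizer_of_conj_le
    intro y hy
    obtain ⟨hyO, hyC⟩ := (hDmem y).mp hy
    have h1 : h * y * h⁻¹ = y := by rw [hyC]; group
    rw [h1]
    exact hy
  have hxE : x ∈ normalizer (E : Set G) := by
    apply mem_normalizer_of_conj_le
    rintro y ⟨hyO, hyN⟩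
    refine ⟨(mem_normalizer_iff.mp hxO y).mp hyO, ?_⟩
    exact (normalizer (D : Set G)).mul_mem ((normalizer (D : Set G)).mul_mem hxD hyN)
      ((normalizer (D : Set G)).inv_mem hxD)
  have hhE : h ∈ normalizer (E : Set G) := by
    apply mem_normalizer_of_conj_le
    rintro y ⟨hyO, hyN⟩
    refine ⟨(mem_normalizer_iff.mp hhO y).mp hyO, ?_⟩
    exact (normalizer (D : Set G)).mul_mem ((normalizer (D : Set G)).mul_mem hhD hyN)
      ((normalizer (D : Set G)).inv_mem hhD)
  have hEp : IsPGroup p E := hO.to_le inf_le_left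
  let T : Subgroup G := zpowers x ⊔ E
  have hzE : zpowers x ≤ normalizer (E : Set G) := by
    rw [zpowers_le]; exact hxE
  have hT : IsPGroup p T := CfsgLib.Solv.isPGroup_sup_of_le_normalizer hx hEp hzE
  have hTD : T ≤ normalizer (D : Set G) := by
    refine sup_le ?_ inf_le_right
    rw [zpowers_le]; exact hxD
  have hTE : T ≤ normalizer (E : Set G) := by
    refine sup_le hzE le_normalizer
  obtain ⟨y, hyE, hyD, hcen⟩ := CfsgLib.Solv.exists_central_mod_in (T := T) (V := D) (R := E)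
    hT.isNilpotent (hDE.le.trans le_sup_right) le_sup_right hTD hTE hDE
  have hd : ⁅y, x⁆ ∈ D := hcen x (mem_sup_left (mem_zpowers x))
  set e : G := ⁅y, x⁆⁻¹ with he
  have heD : e ∈ D := D.inv_mem hd
  have hxy : x * y * x⁻¹ = e * y := by
    rw [he, commutatorElement_def]; group
  have heh : ∀ a ∈ zpowers h, a * e = e * a := by
    intro a ha
    obtain ⟨n, rfl⟩ := mem_zpowers_iff.mp ha
    have h1 : Commute h e := ((hDmem e).mp heD).2
    exact (h1.zpow_left n).eq
  have hxa : ∀ a ∈ zpowers h, a * x = x * a := by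
    intro a ha
    obtain ⟨n, rfl⟩ := mem_zpowers_iff.mp ha
    have h1 : Commute h x := hc
    exact (h1.zpow_left n).eq
  have haO : ∀ a ∈ zpowers h, a ∈ normalizer (O : Set G) := by
    intro a ha
    exact (zpowers_le.mpr hhO) ha
  have hw : ∀ a ∈ zpowers h, y⁻¹ * (a * y * a⁻¹) ∈ D := by
    intro a ha
    have hwO : y⁻¹ * (a * y * a⁻¹) ∈ O :=
      O.mul_mem (O.inv_mem hyE.1) ((mem_normalizer_iff.mp (haO a ha) y).mp hyE.1)
    refine (hDmem _).mpr ⟨hwO, ?_⟩
    have hcomm : x * (y⁻¹ * (a * y * a⁻¹)) * x⁻¹ = y⁻¹ * (a * y * a⁻¹) := by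
      have h1 : x * y⁻¹ * x⁻¹ = y⁻¹ * e⁻¹ := by
        have : (x * y * x⁻¹)⁻¹ = x * y⁻¹ * x⁻¹ := by group
        rw [← this, hxy]; group
      have h2 : x * (a * y * a⁻¹) * x⁻¹ = e * (a * y * a⁻¹) := by
        have h3 : x * a = a * x := (hxa a ha).symm
        have h4 : a⁻¹ * x⁻¹ = x⁻¹ * a⁻¹ := by
          rw [← mul_inv_rev, h3, mul_inv_rev]
        calc x * (a * y * a⁻¹) * x⁻¹ = (x * a) * y * (a⁻¹ * x⁻¹) := by group
          _ = a * (x * y * x⁻¹) * a⁻¹ := by rw [h3, h4]; group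
          _ = a * (e * y) * a⁻¹ := by rw [hxy]
          _ = (a * e) * y * a⁻¹ := by group
          _ = e * (a * y * a⁻¹) := by rw [heh a ha]; group
      calc x * (y⁻¹ * (a * y * a⁻¹)) * x⁻¹
          = (x * y⁻¹ * x⁻¹) * (x * (a * y * a⁻¹) * x⁻¹) := by group
        _ = y⁻¹ * (a * y * a⁻¹) := by rw [h1, h2]; group
    have hcomm' : x * (y⁻¹ * (a * y * a⁻¹)) = (y⁻¹ * (a * y * a⁻¹)) * x := by
      calc x * (y⁻¹ * (a * y * a⁻¹)) = (x * (y⁻¹ * (a * y * a⁻¹)) * x⁻¹) * x := by group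
        _ = (y⁻¹ * (a * y * a⁻¹)) * x := by rw [hcomm]
    exact hfix _ hwO hcomm'
  have hcard : (Nat.card (zpowers h)).Coprime (Nat.card E) := by
    rw [Nat.card_zpowers]
    obtain ⟨k, hk⟩ := IsPGroup.iff_card.mp hEp
    rw [hk]
    exact Nat.Coprime.pow_right _ hh
  obtain ⟨c, hc1, hc2⟩ := CfsgLib.Solv.coprime_fixed_coset (zpowers h) E (zpowers_le.mpr hhE) hcard
    (Or.inr (by haveI := hEp.isNilpotent; infer_instance)) D hDE.le
    inf_le_right (zpowers_le.mpr hhD) y⁻¹ (E.inv_mem hyE) (by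
      intro a ha
      have h1 := D.inv_mem (hw a ha)
      have h2 : (y⁻¹ * (a * y * a⁻¹))⁻¹ = a * y⁻¹ * a⁻¹ * y⁻¹⁻¹ := by group
      rwa [h2] at h1)
  have hcD : c ∈ D := by
    refine (hDmem c).mpr ⟨hc1.1.1, ?_⟩
    have h5 : c ∈ centralizer ((zpowers h : Subgroup G) : Set G) := hc1.2
    rw [mem_centralizer_iff] at h5
    exact h5 h (mem_zpowers h)
  apply hyD
  have h3 : y⁻¹⁻¹ * c ∈ D := hc2
  rw [inv_inv] at h3
  have h4 : y = (y * c) * c⁻¹ := by group
  rw [h4]
  exact D.mul_mem h3 (D.inv_mem hcD)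

/-- A group is the product of a Sylow subgroup and a subgroup of `p`-power index. -/
theorem eq_mul_of_index_pow (C : Subgroup G) {a : ℕ} (hC : C.index = p ^ a) (P : Sylow p G) (g : G) :
    ∃ u ∈ (P : Subgroup G), ∃ c ∈ C, g = u * c := by
  classical
  have h1 := CfsgLib.Lead.card_mul_card_eq_card_mul_mul_card_inf (P : Subgroup G) C
  have hGc : Nat.card G = p ^ a * Nat.card C := by
    rw [← hC]; exact (C.index_mul_card).symm
  have h2 : IsPGroup p ↥((P : Subgroup G) ⊓ C) := P.isPGroup'.to_le inf_le_left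
  obtain ⟨f, hf⟩ := IsPGroup.iff_card.mp h2
  have h3 : p ^ f ∣ Nat.card C := by
    rw [← hf]
    exact Subgroup.card_dvd_of_le inf_le_right
  have h4 : p ^ (a + f) ∣ Nat.card G := by
    rw [hGc, pow_add]
    exact mul_dvd_mul_left _ h3
  have h5 : p ^ (a + f) ∣ Nat.card (P : Subgroup G) := P.pow_dvd_card_of_pow_dvd_card h4
  have h6 : p ^ a * Nat.card ↥((P : Subgroup G) ⊓ C) ≤ Nat.card (P : Subgroup G) := by
    rw [hf, ← pow_add]
    exact Nat.le_of_dvd Nat.card_pos h5
  set S : Set G := ((P : Subgroup G) : Set G) * (C : Set G) with hS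
  have h7 : Nat.card G ≤ Nat.card S := by
    have hpos : 0 < Nat.card ↥((P : Subgroup G) ⊓ C) := Nat.card_pos
    have h8 : Nat.card G * Nat.card ↥((P : Subgroup G) ⊓ C) ≤ Nat.card S * Nat.card ↥((P : Subgroup G) ⊓ C) := by
      rw [← h1, hGc]
      calc p ^ a * Nat.card C * Nat.card ↥((P : Subgroup G) ⊓ C)
          = (p ^ a * Nat.card ↥((P : Subgroup G) ⊓ C)) * Nat.card C := by ring
        _ ≤ Nat.card (P : Subgroup G) * Nat.card C := Nat.mul_le_mul_right _ h6
    exact Nat.le_of_mul_le_mul_right h8 hpos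
  have h9 : S = Set.univ := by
    apply Set.eq_of_subset_of_ncard_le (Set.subset_univ _)
    rw [Set.ncard_univ, ← Nat.card_coe_set_eq]
    exact h7
  have hg : g ∈ S := by rw [h9]; trivial
  obtain ⟨u, hu, c, hc, rfl⟩ := Set.mem_mul.mp hg
  exact ⟨u, hu, c, hc, rfl⟩

end CfsgLib.FGS
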