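import Cfsg.Agent.Lib.Solv.PGroup
import Mathlib

/-!
Automorphism groups of `p`-groups acting on generating tuples.
-/

set_option autoImplicit false
set_option linter.unusedSectionVars false

namespace CfsgLib.FGS

open Subgroup

universe u

/-- A free action on a finite set gives a divisibility. -/
theorem card_dvd_of_free {A X : Type*} [Group A] [MulAction A X] [Finite A] [Finite X]
    (h : ∀ (x : X) (a : A), a • x = x → a = 1) : Nat.card A ∣ Nat.card X := by
  have e := MulAction.selfEquivOrbitsQuotientProd (G := A) (X := X) (fun b => by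
    rw [eq_bot_iff]
    intro a ha
    exact Subgroup.mem_bot.2 (h b a ha))
  rw [Nat.card_congr e, Nat.card_prod]
  exact dvd_mul_left _ _

variable {P : Type u} [Group P] [Finite P]

/-- Changing a generating tuple modulo the Frattini subgroup keeps it generating. -/
theorem generating_of_frattini_congr {r : ℕ} {x y : Fin r → P}
    (hx : closure (Set.range x) = ⊤) (hy : ∀ i, y i * (x i)⁻¹ ∈ frattini P) :
    closure (Set.range y) = ⊤ := by
  apply frattini_nongenerating
  rw [eq_top_iff, ← hx, closure_le]
  rintro _ ⟨i, rfl⟩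
  have e : x i = (y i * (x i)⁻¹)⁻¹ * y i := by group
  rw [e]
  exact Subgroup.mul_mem _ (Subgroup.mem_sup_right (Subgroup.inv_mem _ (hy i)))
    (Subgroup.mem_sup_left (subset_closure ⟨i, rfl⟩))

/-- An automorphism fixing a generating tuple is trivial. -/
theorem aut_eq_one_of_fix_generating {r : ℕ} {y : Fin r → P} (hy : closure (Set.range y) = ⊤)
    (a : MulAut P) (h : ∀ i, a (y i) = y i) : a = 1 := by
  have h1 : (a.toMonoidHom) = MonoidHom.id P := by
    apply MonoidHom.eq_of_eqOn_dense hy
    rintro _ ⟨i, rfl⟩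
    simpa using h i
  ext x
  have := DFunLike.congr_fun h1 x
  simpa using this

/-- A tuple enumerating a Burnside basis. -/
theorem exists_generating_tuple {p : ℕ} [Fact p.Prime] (hG : IsPGroup p P) {r : ℕ}
    (hr : (frattini P).index = p ^ r) : ∃ x : Fin r → P, closure (Set.range x) = ⊤ := by
  classical
  haveI := Fintype.ofFinite P
  obtain ⟨T, -, hTc, hT⟩ := CfsgLib.Solv.burnside_basis_exists hG r hr Finset.univ (by simp)
  have e : T ≃ Fin r := (T.equivFinOfCardEq hTc)
  refine ⟨fun i => (e.symm i : P), ?_⟩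
  have : Set.range (fun i => (e.symm i : P)) = (T : Set P) := by
    ext a
    constructor
    · rintro ⟨i, rfl⟩
      exact (e.symm i).2
    · intro ha
      exact ⟨e ⟨a, ha⟩, by simp⟩
  rw [this, hT]

/-- The order of the Frattini subgroup. -/
theorem card_frattini_eq {p n r : ℕ} [Fact p.Prime] (hP : Nat.card P = p ^ n)
    (hr : (frattini P).index = p ^ r) : Nat.card (frattini P) = p ^ (n - r) ∧ r ≤ n := by
  have hp : p.Prime := Fact.out
  have h1 := (frattini P).index_mul_card
  rw [hr, hP] at h1
  have h2 : p ^ r ∣ p ^ n := ⟨_, h1.symm⟩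
  have hrn : r ≤ n := (Nat.pow_dvd_pow_iff_le_right hp.one_lt).1 h2
  refine ⟨?_, hrn⟩
  apply Nat.eq_of_mul_eq_mul_left (pow_pos hp.pos r)
  rw [h1, ← pow_add]
  congr 1
  omega

section Abstract

variable {V : Type*} [AddCommGroup V] [Finite V] {p r : ℕ} [Fact p.Prime] [Module (ZMod p) V]

theorem generating_of_li (hcardV : Nat.card V = p ^ r) (f : P → V)
    (hfmul : ∀ a b, f (a * b) = f a + f b) (hfinv : ∀ a, f a⁻¹ = - f a)
    (hfone : f 1 = 0)
    (hfeq : ∀ a b, f a = f b → a⁻¹ * b ∈ frattini P) (y : Fin r → P)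
    (hLI : LinearIndependent (ZMod p) (fun i => f (y i))) : closure (Set.range y) = ⊤ := by
  have hfin := CfsgLib.Solv.finrank_eq_of_card (V := V) (p := p) r hcardV
  haveI : FiniteDimensional (ZMod p) V := Module.Finite.of_finite
  have hcc : Fintype.card (Fin r) = Module.finrank (ZMod p) V := by simp [hfin]
  have hspan : Submodule.span (ZMod p) (Set.range fun i => f (y i)) = ⊤ :=
    LinearIndependent.span_eq_top_of_card_eq_finrank' hLI hcc
  apply frattini_nongenerating
  let W : AddSubgroup V :=
    { carrier := {v | ∃ g ∈ closure (Set.range y), f g = v}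
      add_mem' := by
        rintro _ _ ⟨a, ha, rfl⟩ ⟨b, hb, rfl⟩
        exact ⟨a * b, Subgroup.mul_mem _ ha hb, hfmul a b⟩
      zero_mem' := ⟨1, Subgroup.one_mem _, hfone⟩
      neg_mem' := by
        rintro _ ⟨a, ha, rfl⟩
        exact ⟨a⁻¹, Subgroup.inv_mem _ ha, hfinv a⟩ }
  have hle : Submodule.span (ZMod p) (Set.range fun i => f (y i)) ≤ AddSubgroup.toZModSubmodule p W := by
    rw [Submodule.span_le]
    rintro _ ⟨i, rfl⟩
    exact ⟨y i, subset_closure ⟨i, rfl⟩, rfl⟩
  rw [hspan] at hle
  rw [eq_top_iff]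
  intro g _
  have h3 : f g ∈ AddSubgroup.toZModSubmodule p W := hle trivial
  obtain ⟨c, hc, hcg⟩ := h3
  have h4 := hfeq _ _ hcg
  have e : g = c * (c⁻¹ * g) := by group
  rw [e]
  exact Subgroup.mul_mem _ (Subgroup.mem_sup_left hc) (Subgroup.mem_sup_right h4)

theorem li_of_generating (hcardV : Nat.card V = p ^ r) (f : P → V)
    (hfmul : ∀ a b, f (a * b) = f a + f b) (hfinv : ∀ a, f a⁻¹ = - f a)
    (hfone : f 1 = 0) (hsurj : ∀ v, ∃ g, f g = v) (y : Fin r → P)
    (hy : closure (Set.range y) = ⊤) : LinearIndependent (ZMod p) (fun i => f (y i)) := by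
  have hfin := CfsgLib.Solv.finrank_eq_of_card (V := V) (p := p) r hcardV
  apply linearIndependent_of_top_le_span_of_card_eq_finrank
  · rintro v -
    obtain ⟨g, rfl⟩ := hsurj v
    have hg : g ∈ closure (Set.range y) := by rw [hy]; trivial
    induction hg using Subgroup.closure_induction with
    | mem x hx =>
      obtain ⟨i, rfl⟩ := hx
      exact Submodule.subset_span ⟨i, rfl⟩
    | one => rw [hfone]; exact Submodule.zero_mem _
    | mul a b _ _ ha hb =>
      rw [hfmul]
      exact Submodule.add_mem _ ha hb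
    | inv a _ ha =>
      rw [hfinv]
      exact Submodule.neg_mem _ ha
  · simp [hfin]

theorem card_tuples_abstract (hcardV : Nat.card V = p ^ r) (f : P → V)
    (hfmul : ∀ a b, f (a * b) = f a + f b) (hfinv : ∀ a, f a⁻¹ = - f a)
    (hfone : f 1 = 0) (hfz : ∀ z : frattini P, f z = 0)
    (hfeq : ∀ a b, f a = f b → a⁻¹ * b ∈ frattini P) (σ : V → P) (hσ : ∀ v, f (σ v) = v) :
    Nat.card {y : Fin r → P // closure (Set.range y) = ⊤} =
      (∏ i ∈ Finset.range r, (p ^ r - p ^ i)) * Nat.card (frattini P) ^ r := by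
  classical
  have hfin := CfsgLib.Solv.finrank_eq_of_card (V := V) (p := p) r hcardV
  have hkey1 := generating_of_li hcardV f hfmul hfinv hfone hfeq
  have hkey2 := li_of_generating hcardV f hfmul hfinv hfone (fun v => ⟨σ v, hσ v⟩)
  let e : {y : Fin r → P // closure (Set.range y) = ⊤} ≃
      {s : Fin r → V // LinearIndependent (ZMod p) s} × (Fin r → frattini P) :=
    { toFun := fun y => (⟨fun i => f (y.1 i), hkey2 y.1 y.2⟩, fun i => ⟨(σ (f (y.1 i)))⁻¹ * y.1 i, hfeq _ _ (hσ _)⟩)
      invFun := fun sz => ⟨fun i => σ (sz.1.1 i) * (sz.2 i : P), hkey1 _ (by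
        have : (fun i => f (σ (sz.1.1 i) * (sz.2 i : P))) = sz.1.1 := by
          funext i
          rw [hfmul, hσ, hfz, add_zero]
        rw [this]
        exact sz.1.2)⟩
      left_inv := by
        intro y
        apply Subtype.ext
        funext i
        show σ (f (y.1 i)) * ((σ (f (y.1 i)))⁻¹ * y.1 i) = y.1 i
        group
      right_inv := by
        rintro ⟨⟨s, hs⟩, z⟩
        have hs2 : ∀ i, f (σ (s i) * (z i : P)) = s i := by
          intro i
          rw [hfmul, hσ, hfz, add_zero]
        apply Prod.ext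
        · apply Subtype.ext
          funext i
          exact hs2 i
        · funext i
          apply Subtype.ext
          show (σ (f (σ (s i) * (z i : P))))⁻¹ * (σ (s i) * (z i : P)) = z i
          rw [hs2]
          group }
  rw [Nat.card_congr e, Nat.card_prod, Nat.card_fun, Nat.card_eq_fintype_card (α := Fin r), Fintype.card_fin]
  congr 1
  have h5 := card_linearIndependent (K := ZMod p) (V := V) (k := r) (by rw [hfin])
  rw [h5, hfin, ZMod.card, Finset.prod_range]

end Abstract

/-- Counting generating tuples. -/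
theorem card_generating_tuples {p r : ℕ} [Fact p.Prime] (hG : IsPGroup p P)
    (hr : (frattini P).index = p ^ r) :
    Nat.card {y : Fin r → P // closure (Set.range y) = ⊤} =
      (∏ i ∈ Finset.range r, (p ^ r - p ^ i)) * Nat.card (frattini P) ^ r := by
  classical
  obtain ⟨h1, h2⟩ := CfsgLib.Solv.pgroup_commutator_pow_le_frattini hG
  letI cg : CommGroup (P ⧸ frattini P) := { (inferInstance : Group (P ⧸ frattini P)) with
    mul_comm := by
      intro a b
      obtain ⟨a, rfl⟩ := QuotientGroup.mk'_surjective (frattini P) a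
      obtain ⟨b, rfl⟩ := QuotientGroup.mk'_surjective (frattini P) b
      rw [← commutatorElement_eq_one_iff_mul_comm, ← map_commutatorElement]
      exact (QuotientGroup.eq_one_iff _).2 (h1 (Subgroup.commutator_mem_commutator trivial trivial)) }
  have hpow : ∀ y : P ⧸ frattini P, y ^ p = 1 := by
    intro y
    obtain ⟨y, rfl⟩ := QuotientGroup.mk'_surjective (frattini P) y
    rw [← map_pow]
    exact (QuotientGroup.eq_one_iff _).2 (h2 y)
  letI md : Module (ZMod p) (Additive (P ⧸ frattini P)) := AddCommGroup.zmodModule (n := p) (fun x => by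
    have : p • x = Additive.ofMul ((Additive.toMul x) ^ p) := rfl
    rw [this, hpow]; rfl)
  exact card_tuples_abstract (V := Additive (P ⧸ frattini P)) (by rw [← hr]; rfl)
    (fun g => Additive.ofMul (QuotientGroup.mk g))
    (fun _ _ => rfl) (fun _ => rfl) rfl
    (fun z => by
      show Additive.ofMul (QuotientGroup.mk (z : P)) = 0
      rw [(QuotientGroup.eq_one_iff (z : P)).2 z.2]
      rfl)
    (fun a b h => QuotientGroup.eq.1 (Additive.ofMul.injective h))
    (fun v => Quotient.out (Additive.toMul v))
    (fun v => by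
      show Additive.ofMul (QuotientGroup.mk (Quotient.out (Additive.toMul v))) = v
      rw [QuotientGroup.out_eq']
      rfl)

end CfsgLib.FGS
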