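import Cfsg.Agent.Lib.SS.UniqueP
import Cfsg.Agent.Lib.PLocal.CoreLift
import Cfsg.Agent.Lib.PLocal.CardSup
import Cfsg.Agent.Lib.H3.ClassSize

set_option autoImplicit false
set_option linter.unusedSectionVars false
set_option linter.style.haveILetI false
set_option linter.unusedVariables false

open Subgroup Cfsg

namespace CfsgLib.FGS.ConjAb

universe u

variable {G : Type u} [Group G] [Finite G]

/-- Two commuting elements of order `p` generate an elementary abelian subgroup of order `p²`. -/
theorem exists_elem_sq {p : ℕ} [Fact p.Prime] {z u : G} (hz : orderOf z = p) (hu : orderOf u = p) (hc : z * u = u * z)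
    (hne : u ∉ zpowers z) :
    ∃ E : Subgroup G, IsMulCommutative E ∧ Nat.card E = p ^ 2 ∧ IsPGroup p E ∧ ∀ e ∈ E, e ^ p = 1 := by
  classical
  have hpp : p.Prime := Fact.out
  have hHN : zpowers u ≤ normalizer ((zpowers z : Subgroup G) : Set G) := by
    rw [Subgroup.zpowers_le]
    apply CfsgLib.PLocal.mem_normalizer_of_conj_le
    intro x hx
    obtain ⟨k, rfl⟩ := Subgroup.mem_zpowers_iff.1 hx
    have : Commute u z := hc.symm
    have h1 : u * z ^ k * u⁻¹ = z ^ k := by
      rw [(this.zpow_right k).eq]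
      group
    rw [h1]
    exact hx
  have hinf : zpowers u ⊓ zpowers z = ⊥ := by
    have h1 : Nat.card ↥(zpowers u ⊓ zpowers z) ∣ p := by
      have := Subgroup.card_dvd_of_le (inf_le_left : zpowers u ⊓ zpowers z ≤ zpowers u)
      rwa [Nat.card_zpowers, hu] at this
    rcases (Nat.dvd_prime hpp).1 h1 with h2 | h2
    · exact Subgroup.card_eq_one.1 h2
    · exfalso
      have h3 : zpowers u ⊓ zpowers z = zpowers u := by
        apply Subgroup.eq_of_le_of_card_ge inf_le_left
        rw [h2, Nat.card_zpowers, hu]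
      apply hne
      have h4 : u ∈ zpowers u ⊓ zpowers z := by
        rw [h3]; exact mem_zpowers u
      exact h4.2
  have hcard := CfsgLib.PLocal.card_sup_mul_card_inf (zpowers u) (zpowers z) hHN
  rw [hinf, Subgroup.card_bot, mul_one, Nat.card_zpowers, Nat.card_zpowers, hu, hz] at hcard
  have hle1 : zpowers u ⊔ zpowers z ≤ centralizer ({z, u} : Set G) := by
    apply sup_le
    · rw [Subgroup.zpowers_le, Subgroup.mem_centralizer_iff]
      rintro w (rfl | rfl)
      · exact hc
      · rfl
    · rw [Subgroup.zpowers_le, Subgroup.mem_centralizer_iff]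
      rintro w (rfl | rfl)
      · rfl
      · exact hc.symm
  have hle2 : zpowers u ⊔ zpowers z ≤ centralizer (((zpowers u ⊔ zpowers z : Subgroup G)) : Set G) := by
    apply sup_le
    · rw [Subgroup.zpowers_le, Subgroup.mem_centralizer_iff]
      intro w hw
      exact (Subgroup.mem_centralizer_iff.1 (hle1 hw) u (Or.inr rfl)).symm
    · rw [Subgroup.zpowers_le, Subgroup.mem_centralizer_iff]
      intro w hw
      exact (Subgroup.mem_centralizer_iff.1 (hle1 hw) z (Or.inl rfl)).symm
  have hcomm : ∀ a ∈ zpowers u ⊔ zpowers z, ∀ b ∈ zpowers u ⊔ zpowers z, a * b = b * a := by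
    intro a ha b hb
    exact (Subgroup.mem_centralizer_iff.1 (hle2 ha) b hb).symm
  have hpow : ∀ e ∈ zpowers u ⊔ zpowers z, e ^ p = 1 := by
    intro e he
    have h1 : e ∈ zpowers u ⊔ zpowers z ∧ e ^ p = 1 := by
      rw [Subgroup.sup_eq_closure] at he
      induction he using Subgroup.closure_induction with
      | mem x hx =>
        rcases hx with hx | hx
        · obtain ⟨k, rfl⟩ := Subgroup.mem_zpowers_iff.1 hx
          refine ⟨(le_sup_left : zpowers u ≤ zpowers u ⊔ zpowers z) hx, ?_⟩
          rw [← zpow_natCast, ← zpow_mul, mul_comm, zpow_mul, zpow_natCast, ← hu, pow_orderOf_eq_one, one_zpow]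
        · obtain ⟨k, rfl⟩ := Subgroup.mem_zpowers_iff.1 hx
          refine ⟨(le_sup_right : zpowers z ≤ zpowers u ⊔ zpowers z) hx, ?_⟩
          rw [← zpow_natCast, ← zpow_mul, mul_comm, zpow_mul, zpow_natCast, ← hz, pow_orderOf_eq_one, one_zpow]
      | one => exact ⟨Subgroup.one_mem _, one_pow _⟩
      | mul x y _ _ hx hy =>
        refine ⟨Subgroup.mul_mem _ hx.1 hy.1, ?_⟩
        have : Commute x y := hcomm x hx.1 y hy.1
        rw [this.mul_pow, hx.2, hy.2, mul_one]
      | inv x _ hx =>
        refine ⟨Subgroup.inv_mem _ hx.1, ?_⟩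
        rw [inv_pow, hx.2, inv_one]
    exact h1.2
  refine ⟨zpowers u ⊔ zpowers z, ⟨⟨fun a b => Subtype.ext (hcomm a.1 a.2 b.1 b.2)⟩⟩, ?_, ?_, hpow⟩
  · rw [hcard]; ring
  · exact IsPGroup.of_card (n := 2) (by rw [hcard]; ring)

/-- An element of a `p`-group with `x ^ p ≠ 1` has a power of order `p²`. -/
theorem exists_order_sq {p : ℕ} [Fact p.Prime] {x : G} {k : ℕ} (hk : orderOf x = p ^ k) (hx : x ^ p ≠ 1) :
    ∃ y : G, orderOf y = p ^ 2 := by
  have hpp : p.Prime := Fact.out
  have hk2 : 2 ≤ k := by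
    by_contra hlt
    apply hx
    have h1 : k ≤ 1 := by omega
    apply orderOf_dvd_iff_pow_eq_one.1
    rw [hk]
    exact (pow_dvd_pow p h1).trans (by rw [pow_one])
  refine ⟨x ^ (p ^ (k - 2)), ?_⟩
  rw [orderOf_pow' _ (pow_ne_zero _ hpp.ne_zero), hk]
  have e : p ^ k = p ^ (k - 2) * p ^ 2 := by
    rw [← pow_add]
    congr 1
    omega
  rw [Nat.gcd_eq_right (pow_dvd_pow _ (Nat.sub_le _ _)), e, Nat.mul_div_cancel_left _ (pow_pos hpp.pos _)]

/-- The basic uniqueness result: if abelian `p`-subgroups of equal order are conjugate and `x ^ p ≠ 1` then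
the `p`-subgroup `P` has a unique subgroup of order `p`. -/
theorem unique_sub {p : ℕ} [Fact p.Prime] (P : Subgroup G) (hP : IsPGroup p P)
    (hconj : ∀ E C : Subgroup G, IsMulCommutative E → IsMulCommutative C → IsPGroup p E → IsPGroup p C →
      Nat.card E = Nat.card C → ∃ g : G, C = E.map (MulAut.conj g).toMonoidHom)
    (x : G) (hxP : x ∈ P) (hx : x ^ p ≠ 1) :
    ∀ H K : Subgroup P, Nat.card H = p → Nat.card K = p → H = K := by
  classical
  have hpp : p.Prime := Fact.out
  -- element of order `p²`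
  obtain ⟨k, hk⟩ := (IsPGroup.iff_orderOf.1 hP) ⟨x, hxP⟩
  rw [Subgroup.orderOf_mk] at hk
  obtain ⟨y, hy⟩ := exists_order_sq hk hx
  have hx1 : x ≠ 1 := by
    rintro rfl
    exact hx (one_pow _)
  haveI hnt : Nontrivial P := ⟨⟨⟨x, hxP⟩, 1, fun h => hx1 (congrArg Subtype.val h)⟩⟩
  haveI := hP.center_nontrivial
  have hcard : p ∣ Nat.card (center P) := by
    have h1 : IsPGroup p (center P) := hP.to_subgroup _
    obtain ⟨n, hn⟩ := IsPGroup.iff_card.1 h1
    have h2 : 1 < Nat.card (center P) := Finite.one_lt_card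
    rw [hn] at h2 ⊢
    have h3 : n ≠ 0 := by
      rintro rfl
      simp at h2
    exact dvd_pow_self p h3
  obtain ⟨z, hz⟩ := exists_prime_orderOf_dvd_card' p hcard
  have hzP : orderOf (z : P) = p := by rw [Subgroup.orderOf_coe]; exact hz
  have hzG : orderOf ((z : P) : G) = p := by rw [Subgroup.orderOf_coe]; exact hzP
  have key : ∀ H : Subgroup P, Nat.card H = p → H = zpowers (z : P) := by
    intro H hH
    by_contra hne
    obtain ⟨u, hu⟩ := exists_prime_orderOf_dvd_card' (G := H) p (by rw [hH])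
    have huP : orderOf (u : P) = p := by rw [Subgroup.orderOf_coe]; exact hu
    have huG : orderOf (((u : H) : P) : G) = p := by rw [Subgroup.orderOf_coe]; exact huP
    have hHu : H = zpowers (u : P) := by
      symm
      apply Subgroup.eq_of_le_of_card_ge
      · rw [Subgroup.zpowers_le]; exact u.2
      · rw [Nat.card_zpowers, huP, hH]
    have hnot : (((u : H) : P) : G) ∉ zpowers ((z : P) : G) := by
      intro hmem
      obtain ⟨n, hn⟩ := Subgroup.mem_zpowers_iff.1 hmem
      have h2 : (u : P) = (z : P) ^ n := by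
        apply Subtype.ext
        push_cast
        exact hn.symm
      apply hne
      apply Subgroup.eq_of_le_of_card_ge
      · rw [hHu, Subgroup.zpowers_le, h2]
        exact Subgroup.zpow_mem _ (mem_zpowers _) n
      · rw [hH, Nat.card_zpowers, hzP]
    have hcomm : ((z : P) : G) * (((u : H) : P) : G) = (((u : H) : P) : G) * ((z : P) : G) := by
      have := Subgroup.mem_center_iff.1 z.2 (u : P)
      exact (congrArg Subtype.val this).symm
    obtain ⟨E, hEc, hEcard, hEp, hEe⟩ := exists_elem_sq hzG huG hcomm hnot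
    have hCp : IsPGroup p (zpowers y) := IsPGroup.of_card (n := 2) (by rw [Nat.card_zpowers, hy])
    obtain ⟨g, hg⟩ := hconj E (zpowers y) hEc inferInstance hEp hCp (by rw [hEcard, Nat.card_zpowers, hy])
    have h1 : y ∈ E.map (MulAut.conj g).toMonoidHom := by
      rw [← hg]; exact mem_zpowers y
    obtain ⟨e, he, hey⟩ := h1
    have hey' : g * e * g⁻¹ = y := hey
    have h2 : y ^ p = 1 := by
      rw [← hey', conj_pow, hEe e he]
      group
    have h3 := orderOf_dvd_of_pow_eq_one h2
    rw [hy] at h3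
    have h4 := Nat.le_of_dvd hpp.pos h3
    have h5 := hpp.two_le
    nlinarith
  intro H K hH hK
  rw [key H hH, key K hK]

end CfsgLib.FGS.ConjAb
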