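import Cfsg.Agent.Lib.FGS.Syl

set_option autoImplicit false
set_option linter.unusedSectionVars false
set_option linter.style.haveILetI false
set_option linter.unusedSimpArgs false
set_option linter.unusedVariables false

namespace CfsgLib.FGS.Cover

open Subgroup

variable {G : Type*} [Group G] [Finite G]

/-- The elements conjugate into `A`. -/
def conjUnion (A : Subgroup G) : Set G := {x | ∃ g : G, g * x * g⁻¹ ∈ A}

theorem one_mem_conjUnion (A : Subgroup G) : (1 : G) ∈ conjUnion A := ⟨1, by simp⟩

theorem ncard_conjUnion_le (A : Subgroup G) :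
    (conjUnion A).ncard ≤ (normalizer (A : Set G)).index * (Nat.card A - 1) + 1 := by
  classical
  haveI := Fintype.ofFinite G
  obtain ⟨N, hN⟩ : ∃ N : Subgroup G, N = normalizer (A : Set G) := ⟨_, rfl⟩
  rw [← hN]
  haveI : Fintype (G ⧸ N) := Fintype.ofFinite _
  haveI : Fintype A := Fintype.ofFinite _
  let F : Finset G := ((Finset.univ : Finset A).erase (1 : A)).map (Function.Embedding.subtype _)
  have hF : F.card = Nat.card A - 1 := by
    rw [Finset.card_map, Finset.card_erase_of_mem (Finset.mem_univ _), Finset.card_univ,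
      Nat.card_eq_fintype_card]
  let S : Finset G := (Finset.univ : Finset (G ⧸ N)).biUnion
    (fun t => F.image (fun a => t.out * a * t.out⁻¹))
  have hS : S.card ≤ N.index * (Nat.card A - 1) := by
    have h1 := Finset.card_biUnion_le (s := (Finset.univ : Finset (G ⧸ N)))
      (t := fun t => F.image (fun a => t.out * a * t.out⁻¹))
    refine h1.trans ?_
    have h2 : ∀ t ∈ (Finset.univ : Finset (G ⧸ N)), (F.image (fun a => t.out * a * t.out⁻¹)).card ≤ Nat.card A - 1 := by
      intro t _
      rw [← hF]; exact Finset.card_image_le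
    refine (Finset.sum_le_card_nsmul _ _ _ h2).trans ?_
    rw [Finset.card_univ, ← Nat.card_eq_fintype_card, smul_eq_mul]
    rfl
  have hsub : conjUnion A ⊆ ((insert 1 S : Finset G) : Set G) := by
    rintro x ⟨g, hg⟩
    by_cases hx : x = 1
    · subst hx; simp
    refine Finset.mem_coe.2 (Finset.mem_insert_of_mem ?_)
    refine Finset.mem_biUnion.2 ⟨(QuotientGroup.mk g⁻¹ : G ⧸ N), Finset.mem_univ _, ?_⟩
    obtain ⟨n, hn⟩ := QuotientGroup.mk_out_eq_mul N g⁻¹
    set t := ((QuotientGroup.mk g⁻¹ : G ⧸ N)).out with ht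
    have hn' : (n : G)⁻¹ ∈ N := N.inv_mem n.2
    have hnA : (n : G)⁻¹ * (g * x * g⁻¹) * ((n : G)⁻¹)⁻¹ ∈ A := by
      have hn2 : (n : G)⁻¹ ∈ normalizer (A : Set G) := hN ▸ hn'
      exact (mem_normalizer_iff.1 hn2 _).1 hg
    refine Finset.mem_image.2 ⟨(n : G)⁻¹ * (g * x * g⁻¹) * ((n : G)⁻¹)⁻¹, ?_, ?_⟩
    · refine Finset.mem_map.2 ⟨⟨_, hnA⟩, Finset.mem_erase.2 ⟨?_, Finset.mem_univ _⟩, rfl⟩
      intro h0
      have h : ((⟨_, hnA⟩ : A) : G) = 1 := by rw [h0]; rfl
      apply hx
      have h' : (n : G)⁻¹ * (g * x * g⁻¹) * ((n : G)⁻¹)⁻¹ = 1 := h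
      have h3 : g * x * g⁻¹ = 1 := by
        have := congrArg (fun y => (n : G) * y * (n : G)⁻¹) h'
        simpa [mul_assoc] using this
      have := congrArg (fun y => g⁻¹ * y * g) h3
      simpa [mul_assoc] using this
    · show t * ((n : G)⁻¹ * (g * x * g⁻¹) * ((n : G)⁻¹)⁻¹) * t⁻¹ = x
      rw [hn]; group
  calc (conjUnion A).ncard ≤ ((insert 1 S : Finset G) : Set G).ncard :=
        Set.ncard_le_ncard hsub (Finset.finite_toSet _)
    _ = (insert 1 S : Finset G).card := Set.ncard_coe_finset _
    _ ≤ S.card + 1 := Finset.card_insert_le _ _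
    _ ≤ _ := by omega

/-- If `A` is not self-normalizing the conjugates of `A` cover at most half of the group, with room to spare. -/
theorem two_mul_ncard_conjUnion_le (A : Subgroup G) (hA : A ≠ normalizer (A : Set G)) :
    2 * (conjUnion A).ncard + 2 * (normalizer (A : Set G)).index ≤ Nat.card G + 2 := by
  have h := ncard_conjUnion_le A
  have hle : A ≤ normalizer (A : Set G) := le_normalizer
  set N : Subgroup G := normalizer (A : Set G) with hN
  have hc : 0 < N.index := Nat.pos_of_ne_zero (Subgroup.index_ne_zero_of_finite)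
  have ha : 0 < Nat.card A := Nat.card_pos
  have hfr : A.relIndex N ≠ 0 := by
    have : A.index ≠ 0 := Subgroup.index_ne_zero_of_finite
    intro h0
    apply this
    rw [← Subgroup.relIndex_mul_index hle, h0, zero_mul]
  have h1 : A.relIndex N * N.index = A.index := Subgroup.relIndex_mul_index hle
  have h2 : Nat.card A * A.index = Nat.card G := Subgroup.card_mul_index A
  have h3 : 2 ≤ A.relIndex N := by
    have h4 : A.relIndex N ≠ 0 := hfr
    have h5 : A.relIndex N ≠ 1 := by
      intro h6
      apply hA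
      have h7 := Subgroup.relIndex_eq_one.1 h6
      exact le_antisymm hle h7
    omega
  have h6 : 2 * (N.index * Nat.card A) ≤ Nat.card G := by
    rw [← h2, ← h1]
    calc 2 * (N.index * Nat.card A) ≤ A.relIndex N * (N.index * Nat.card A) := Nat.mul_le_mul_right _ h3
      _ = _ := by ring
  obtain ⟨k, hk⟩ : ∃ k, Nat.card A = k + 1 := ⟨Nat.card A - 1, by omega⟩
  rw [hk] at h h6
  simp only [Nat.add_sub_cancel] at h
  nlinarith

/-- Two proper subgroups whose conjugates cover the group: one of them is self-normalizing. -/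
theorem self_normalizing_of_cover {A B : Subgroup G}
    (h : ∀ x : G, x ∈ conjUnion A ∨ x ∈ conjUnion B) :
    A = normalizer (A : Set G) ∨ B = normalizer (B : Set G) := by
  by_contra hcon
  push Not at hcon
  obtain ⟨hA, hB⟩ := hcon
  have h1 := two_mul_ncard_conjUnion_le A hA
  have h2 := two_mul_ncard_conjUnion_le B hB
  have h3 : conjUnion A ∪ conjUnion B = Set.univ := by
    ext x; simpa using h x
  have h4 := Set.ncard_union_add_ncard_inter (conjUnion A) (conjUnion B) (Set.toFinite _) (Set.toFinite _)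
  rw [h3, Set.ncard_univ] at h4
  have h5 : 1 ≤ (conjUnion A ∩ conjUnion B).ncard := by
    refine Nat.one_le_iff_ne_zero.2 ?_
    rw [Ne, Set.ncard_eq_zero (Set.toFinite _)]
    exact Set.Nonempty.ne_empty ⟨1, one_mem_conjUnion A, one_mem_conjUnion B⟩
  have h6 : 0 < (normalizer (A : Set G)).index := Nat.pos_of_ne_zero Subgroup.index_ne_zero_of_finite
  have h7 : 0 < (normalizer (B : Set G)).index := Nat.pos_of_ne_zero Subgroup.index_ne_zero_of_finite
  omega

/-- `x` whose class size is prime to `p` commutes with a conjugate of `P`. -/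
theorem mem_conjUnion_of_not_dvd {p : ℕ} [Fact p.Prime] (P : Sylow p G) (x : G)
    (h : ¬ p ∣ (centralizer ({x} : Set G)).index) :
    x ∈ conjUnion (centralizer ((P : Subgroup G) : Set G)) := by
  obtain ⟨u, hu⟩ := CfsgLib.FGS.exists_conj_sylow_le (centralizer ({x} : Set G)) h P
  refine ⟨u⁻¹, ?_⟩
  refine Subgroup.mem_centralizer_iff.2 (fun y hy => ?_)
  have h1 := hu y hy
  have h2 : (u * y * u⁻¹) * x = x * (u * y * u⁻¹) := by
    have := Subgroup.mem_centralizer_iff.1 h1 x (Set.mem_singleton x)
    exact this.symm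
  have h3 : y * (u⁻¹ * x * u⁻¹⁻¹) = (u⁻¹ * x * u⁻¹⁻¹) * y := by
    have := congrArg (fun w => u⁻¹ * w * u) h2
    simpa [mul_assoc] using this
  exact h3

end CfsgLib.FGS.Cover
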