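import Cfsg.Agent.Lib.FGS.Elem

/-!
More elementary lemmas for the finite-group-structure block (helper8).
-/

set_option autoImplicit false

namespace CfsgLib.FGS

open Subgroup

variable {G : Type*} [Group G]

/-- Jordan: a proper subgroup of a finite group does not meet every conjugacy class. -/
theorem exists_not_mem_conj [Finite G] {M : Subgroup G} (hM : M ≠ ⊤) :
    ∃ x : G, ∀ g : G, g⁻¹ * x * g ∉ M := by
  classical
  haveI := Fintype.ofFinite G
  haveI : Fintype (G ⧸ M) := Fintype.ofFinite _
  by_contra hcon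
  simp only [not_exists, not_forall, not_not] at hcon
  have burn := MulAction.sum_card_fixedBy_eq_card_orbits_mul_card_group G (G ⧸ M)
  have h1 : Fintype.card (MulAction.orbitRel.Quotient G (G ⧸ M)) = 1 := by
    rw [Fintype.card_eq_one_iff]
    refine ⟨Quotient.mk'' (QuotientGroup.mk (1 : G) : G ⧸ M), ?_⟩
    intro y
    induction y using Quotient.inductionOn' with | _ y =>
    rw [Quotient.eq'']
    exact MulAction.IsPretransitive.exists_smul_eq _ _
  rw [h1, one_mul] at burn
  have hfix : ∀ x : G, 1 ≤ Fintype.card (MulAction.fixedBy (G ⧸ M) x) := by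
    intro x
    obtain ⟨g, hg⟩ := hcon x
    rw [Nat.succ_le_iff, Fintype.card_pos_iff]
    refine ⟨⟨(QuotientGroup.mk g : G ⧸ M), ?_⟩⟩
    rw [MulAction.mem_fixedBy, MulAction.Quotient.smul_coe, QuotientGroup.eq]
    have : (x • g)⁻¹ * g ∈ M := by
      have h2 := M.inv_mem hg
      have h3 : (g⁻¹ * x * g)⁻¹ = (x • g)⁻¹ * g := by
        simp [smul_eq_mul, mul_assoc]
      rwa [h3] at h2
    exact this
  have hne : 2 ≤ Fintype.card (G ⧸ M) := by
    have h1 : M.index ≠ 1 := fun h => hM (Subgroup.index_eq_one.mp h)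
    have h2 : M.index ≠ 0 := Subgroup.index_ne_zero_of_finite
    rw [Subgroup.index_eq_card, Nat.card_eq_fintype_card] at h1 h2
    omega
  have hlt : ∑ _x : G, 1 < ∑ x : G, Fintype.card (MulAction.fixedBy (G ⧸ M) x) := by
    apply Finset.sum_lt_sum (fun x _ => hfix x)
    refine ⟨1, Finset.mem_univ _, ?_⟩
    have : Fintype.card (MulAction.fixedBy (G ⧸ M) (1 : G)) = Fintype.card (G ⧸ M) := by
      apply Fintype.card_congr
      exact Equiv.subtypeUnivEquiv (fun y => by simp [MulAction.mem_fixedBy])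
    omega
  rw [burn] at hlt
  simp at hlt

/-- The number of elements of a preimage under the quotient map. -/
theorem card_preimage_mk [Finite G] (N : Subgroup G) [N.Normal] (T : Set (G ⧸ N)) :
    Nat.card ((QuotientGroup.mk : G → G ⧸ N) ⁻¹' T) = Nat.card T * Nat.card N := by
  classical
  haveI : Fintype T := Fintype.ofFinite _
  let f : ((QuotientGroup.mk : G → G ⧸ N) ⁻¹' T) → T := fun p => ⟨QuotientGroup.mk p.1, p.2⟩
  have e := Equiv.sigmaFiberEquiv f
  rw [← Nat.card_congr e, Nat.card_sigma]
  have hfib : ∀ b : T, Nat.card {p // f p = b} = Nat.card N := by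
    rintro ⟨b, hb⟩
    obtain ⟨t, rfl⟩ := QuotientGroup.mk_surjective b
    refine Nat.card_congr ⟨fun p => ⟨t⁻¹ * p.1.1, ?_⟩, fun n => ⟨⟨t * n.1, ?_⟩, ?_⟩, ?_, ?_⟩
    · have h1 : (QuotientGroup.mk p.1.1 : G ⧸ N) = QuotientGroup.mk t := congrArg Subtype.val p.2
      have := QuotientGroup.eq.mp h1.symm
      exact this
    · show (QuotientGroup.mk (t * n.1) : G ⧸ N) ∈ T
      have h2 : (QuotientGroup.mk (t * n.1) : G ⧸ N) = QuotientGroup.mk t := by
        rw [QuotientGroup.mk_mul, (QuotientGroup.eq_one_iff n.1).mpr n.2, mul_one]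
      rw [h2]
      exact hb
    · apply Subtype.ext
      show (QuotientGroup.mk (t * n.1) : G ⧸ N) = QuotientGroup.mk t
      rw [QuotientGroup.mk_mul, (QuotientGroup.eq_one_iff n.1).mpr n.2, mul_one]
    · intro p
      apply Subtype.ext
      apply Subtype.ext
      simp
    · intro n
      apply Subtype.ext
      simp
  simp only [hfib]
  simp [Nat.card_eq_fintype_card]

end CfsgLib.FGS
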