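import Cfsg.Agent.Lib.FGS.IdxP
import Cfsg.Agent.S3741

/-!
# The order of an extraspecial group.
-/

set_option autoImplicit false
set_option linter.unusedSectionVars false
set_option linter.style.haveILetI false

namespace CfsgLib.FGS

open Cfsg

/-- An extraspecial `p`-group is not abelian. -/
theorem not_comm_of_extraspecial {P : Type*} [Group P] [Finite P] {p : ℕ} [hp : Fact p.Prime]
    (hQ : IsExtraspecial p P) : ¬ IsMulCommutative P := by
  have hpp : p.Prime := hp.out
  have hcc : Nat.card (commutator P) = p := by rw [hQ.1.2.2]; exact hQ.2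
  intro h
  have h1 : commutator P = ⊥ := by
    rw [commutator_def, Subgroup.commutator_eq_bot_iff_le_centralizer]
    intro a _
    rw [Subgroup.mem_centralizer_iff]
    intro b _
    exact h.is_comm.comm b a
  rw [h1, Subgroup.card_bot] at hcc
  exact hpp.one_lt.ne hcc

/-- The order of an extraspecial group is an odd power of `p`. -/
theorem card_extraspecial {P : Type*} [Group P] [Finite P] {p : ℕ} [hp : Fact p.Prime]
    (hQ : IsExtraspecial p P) : ∃ n : ℕ, 1 ≤ n ∧ Nat.card P = p ^ (1 + 2 * n) := by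
  classical
  have hpp : p.Prime := hp.out
  have hPp : IsPGroup p P := hQ.1.1
  obtain ⟨A, -, hAmax⟩ := Finite.exists_le_maximal
    (p := fun M : Subgroup P => IsMulCommutative M) (a := ⊥)
    ⟨⟨fun a b => by
        have ha : (a : P) = 1 := Subgroup.mem_bot.mp a.2
        have hb : (b : P) = 1 := Subgroup.mem_bot.mp b.2
        exact Subtype.ext (by simp [ha, hb])⟩⟩
  have hAc : IsMulCommutative A := hAmax.prop
  have hAcomm : ∀ a ∈ A, ∀ b ∈ A, a * b = b * a := fun a ha b hb =>
    congrArg Subtype.val (hAc.is_comm.comm ⟨a, ha⟩ ⟨b, hb⟩)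
  have hCA : Subgroup.centralizer (A : Set P) ≤ A := by
    intro y hy
    have hcomm : ∀ a ∈ (A : Set P) ∪ {y}, ∀ b ∈ (A : Set P) ∪ {y}, a * b = b * a := by
      have hyc : ∀ a ∈ A, a * y = y * a := fun a ha =>
        (Subgroup.mem_centralizer_iff.mp hy a ha)
      rintro a (ha | rfl) b (hb | rfl)
      · exact hAcomm a ha b hb
      · exact hyc a ha
      · exact (hyc b hb).symm
      · rfl
    have hS : IsMulCommutative (Subgroup.closure ((A : Set P) ∪ {y})) := Subgroup.isMulCommutative_closure hcomm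
    have hle : A ≤ Subgroup.closure ((A : Set P) ∪ {y}) := by
      intro a ha
      exact Subgroup.subset_closure (Or.inl ha)
    have h2 := hAmax.le_of_ge hS hle
    exact h2 (Subgroup.subset_closure (Or.inr rfl))
  have hZA : Subgroup.center P ≤ A := by
    intro z hz
    apply hCA
    rw [Subgroup.mem_centralizer_iff]
    intro a _
    exact (Subgroup.mem_center_iff.mp hz a)
  have hcard1 : Nat.card ↥⁅A, (⊤ : Subgroup P)⁆ ≤ p := by
    have h1 : ⁅A, (⊤ : Subgroup P)⁆ ≤ commutator P := by
      rw [commutator_def]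
      exact Subgroup.commutator_mono le_top le_rfl
    have h2 := Subgroup.card_le_of_le h1
    rw [hQ.1.2.2, hQ.2] at h2
    exact h2
  have hAB : ⁅A, (⊤ : Subgroup P)⁆ ≤ A ⊓ (⊤ : Subgroup P) := by
    rw [inf_top_eq]
    refine le_trans ?_ hZA
    rw [← hQ.1.2.2, commutator_def]
    exact Subgroup.commutator_mono le_top le_rfl
  have hS := Cfsg.Agent.S3741.result hPp A ⊤ hAB hcard1
  have e1 : A ⊓ Subgroup.centralizer (((⊤ : Subgroup P)) : Set P) = Subgroup.center P := by
    rw [Subgroup.coe_top, Subgroup.centralizer_univ]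
    exact inf_eq_right.mpr hZA
  have e2 : (⊤ : Subgroup P) ⊓ Subgroup.centralizer ((A : Subgroup P) : Set P) = A := by
    rw [top_inf_eq]
    exact le_antisymm hCA (by
      intro a ha
      rw [Subgroup.mem_centralizer_iff]
      intro b hb
      exact hAcomm b hb a ha)
  rw [e1, e2, Subgroup.relIndex_top_right] at hS
  have h3 := Subgroup.relIndex_mul_index hZA
  rw [hS] at h3
  obtain ⟨n, hn⟩ := hPp.index A
  have h4 := (Subgroup.center P).card_mul_index
  rw [hQ.2, ← h3, hn] at h4
  refine ⟨n, ?_, ?_⟩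
  · by_contra hn0
    have hn00 : n = 0 := by omega
    rw [hn00, pow_zero] at hn
    apply not_comm_of_extraspecial hQ
    have htop : A = ⊤ := Subgroup.index_eq_one.mp hn
    rw [htop] at hAc
    refine ⟨⟨fun a b => ?_⟩⟩
    exact congrArg Subtype.val (hAc.is_comm.comm ⟨a, Subgroup.mem_top _⟩ ⟨b, Subgroup.mem_top _⟩)
  · rw [← h4]
    ring

end CfsgLib.FGS
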