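import Cfsg.Agent.Lib.FGS.Elem2
import Cfsg.Agent.Lib.FGS.Subnormal
import Cfsg.Agent.Lib.PLocal.CardSup
import Cfsg.Agent.Lib.Solv.Core

/-!
Fitting subgroup and subnormal subgroups (helper8).
-/

set_option autoImplicit false

namespace CfsgLib.FGS

open Subgroup

universe u

variable {G : Type*} [Group G]

/-- `H` subnormal: the index of `H ⊓ K` in `H` divides the index of `K`. -/
theorem relIndex_inf_dvd_index_of_isSubnormal [Finite G] {H : Subgroup G} (hH : H.IsSubnormal)
    (K : Subgroup G) : (H ⊓ K).relIndex H ∣ K.index := by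
  induction hH with
  | top =>
    rw [top_inf_eq, Subgroup.relIndex_top_right]
  | step H L hHL hLs hN ih =>
    set B := L ⊓ K with hB
    have hBL : B ≤ L := inf_le_left
    have hBnorm : B ≤ Subgroup.normalizer (H : Set G) :=
      hBL.trans ((Subgroup.normal_subgroupOf_iff_le_normalizer hHL).mp hN)
    have hc := CfsgLib.PLocal.card_sup_mul_card_inf B H hBnorm
    have h1 : B ⊓ H = H ⊓ K := by
      rw [hB, inf_comm L K, inf_assoc, inf_of_le_right hHL, inf_comm]
    rw [h1] at hc
    have hr := card_mul_relIndex_of_le (inf_le_left : H ⊓ K ≤ H)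
    have hs := card_mul_relIndex_of_le (le_sup_left : B ≤ B ⊔ H)
    have heq : (H ⊓ K).relIndex H = B.relIndex (B ⊔ H) := by
      have hp1 : 0 < Nat.card ↥(H ⊓ K) := Nat.card_pos
      have hp2 : 0 < Nat.card B := Nat.card_pos
      apply Nat.eq_of_mul_eq_mul_left (Nat.mul_pos hp1 hp2)
      calc Nat.card ↥(H ⊓ K) * Nat.card B * (H ⊓ K).relIndex H
          = Nat.card B * (Nat.card ↥(H ⊓ K) * (H ⊓ K).relIndex H) := by ring
        _ = Nat.card B * Nat.card H := by rw [hr]
        _ = Nat.card ↥(B ⊔ H) * Nat.card ↥(H ⊓ K) := hc.symm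
        _ = (Nat.card B * B.relIndex (B ⊔ H)) * Nat.card ↥(H ⊓ K) := by rw [hs]
        _ = Nat.card ↥(H ⊓ K) * Nat.card B * B.relIndex (B ⊔ H) := by ring
    rw [heq]
    have hsupL : B ⊔ H ≤ L := sup_le hBL hHL
    have h2 := Subgroup.relIndex_mul_relIndex B (B ⊔ H) L le_sup_left hsupL
    exact (Dvd.intro _ h2).trans ih

/-- `x ^ [G : L] ∈ L` for a subnormal subgroup `L`. -/
theorem pow_index_mem_of_isSubnormal {L : Subgroup G} (hL : L.IsSubnormal) (x : G) :
    x ^ L.index ∈ L := by
  induction hL with
  | top => simp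
  | step A B hAB hBs hN ih =>
    by_cases hfin : A.index = 0
    · rw [hfin, pow_zero]; exact A.one_mem
    have h1 := Subgroup.relIndex_mul_index hAB
    rw [← h1, mul_comm, pow_mul]
    have h2 : ((⟨x ^ B.index, ih⟩ : B)) ^ (A.subgroupOf B).index ∈ A.subgroupOf B :=
      Subgroup.pow_index_mem _ _
    exact h2

/-- In a finite group with the normalizer condition every subgroup is subnormal. -/
theorem isSubnormal_of_normalizerCondition [Finite G] (hn : NormalizerCondition G) :
    ∀ (m : ℕ) (L : Subgroup G), L.index = m → L.IsSubnormal := by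
  intro m
  induction m using Nat.strong_induction_on with
  | _ m ih =>
  intro L hL
  by_cases htop : L = ⊤
  · rw [htop]; exact IsSubnormal.top
  have hlt : L < normalizer (L : Set G) := hn L (lt_top_iff_ne_top.mpr htop)
  have hidx : (normalizer (L : Set G)).index < L.index := by
    have h1 := card_lt_of_lt hlt
    have h2 := L.card_mul_index
    have h3 := (normalizer (L : Set G)).card_mul_index
    have h4 : 0 < Nat.card L := Nat.card_pos
    by_contra hcon
    have h5 : L.index ≤ (normalizer (L : Set G)).index := not_lt.mp hcon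
    have h6 : Nat.card L * L.index < Nat.card (normalizer (L : Set G)) * (normalizer (L : Set G)).index := by
      have h7 : 0 < L.index := Nat.pos_of_ne_zero Subgroup.index_ne_zero_of_finite
      calc Nat.card L * L.index < Nat.card (normalizer (L : Set G)) * L.index :=
            Nat.mul_lt_mul_of_pos_right h1 h7
        _ ≤ _ := Nat.mul_le_mul_left _ h5
    omega
  exact IsSubnormal.step L _ hlt.le (ih _ (hL ▸ hidx) _ rfl)
    (normal_subgroupOf_iff_le_normalizer hlt.le |>.mpr le_rfl)

/-- The power criterion: an element lies in the Fitting subgroup iff `x ^ [G : H] ∈ H` for all `H`. -/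
theorem mem_fitting_iff_pow_index_mem [Finite G] (x : G) :
    x ∈ Cfsg.fittingSubgroup G ↔ ∀ H : Subgroup G, x ^ H.index ∈ H := by
  constructor
  · intro hx H
    set F := Cfsg.fittingSubgroup G with hF
    haveI hnil : Group.IsNilpotent F := CfsgLib.Solv.fitting_nilpotent
    haveI hnF : F.Normal := CfsgLib.Solv.fittingSubgroup_normal'
    have hsub : (H.subgroupOf F).IsSubnormal :=
      isSubnormal_of_normalizerCondition (Group.normalizerCondition_of_isNilpotent) _ _ rfl
    have h1 := pow_index_mem_of_isSubnormal hsub ⟨x, hx⟩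
    have h2 : x ^ (H.subgroupOf F).index ∈ H := h1
    have h3 : (H.subgroupOf F).index ∣ H.index := by
      have h4 := relIndex_inf_dvd_index_of_isSubnormal hnF.isSubnormal H
      rwa [Subgroup.inf_relIndex_left] at h4
    obtain ⟨k, hk⟩ := h3
    rw [hk, pow_mul]
    exact H.pow_mem h2 k
  · intro h
    -- strong induction on the order over all elements with the property
    have key : ∀ (n : ℕ) (y : G), orderOf y = n → (∀ H : Subgroup G, y ^ H.index ∈ H) →
        y ∈ Cfsg.fittingSubgroup G := by
      intro n
      induction n using Nat.strong_induction_on with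
      | _ n ih =>
      intro y hy hP
      have hn0 : n ≠ 0 := by rw [← hy]; exact (orderOf_pos y).ne'
      by_cases hn1 : n = 1
      · rw [hn1, orderOf_eq_one_iff] at hy
        rw [hy]; exact Subgroup.one_mem _
      obtain ⟨q, hq, hqd⟩ := Nat.exists_prime_and_dvd hn1
      obtain ⟨k, m, hqm, hkm⟩ := Nat.exists_eq_pow_mul_and_not_dvd hn0 q hq.ne_one
      by_cases hm1 : m = 1
      · -- prime power order
        rw [hm1, mul_one] at hkm
        haveI := Fact.mk hq
        have hmem : ∀ Q : Sylow q G, y ∈ (Q : Subgroup G) := by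
          intro Q
          have hc : Nat.Coprime (Q : Subgroup G).index (orderOf y) := by
            rw [hy, hkm]
            exact Nat.Coprime.pow_right k ((Nat.Prime.coprime_iff_not_dvd hq).mpr Q.not_dvd_index).symm
          obtain ⟨t, ht⟩ := exists_pow_eq_self_of_coprime hc
          rw [← ht]
          exact Subgroup.pow_mem _ (hP _) t
        have h1 : y ∈ Cfsg.pCore q G := by
          rw [CfsgLib.Solv.pCore_eq_iInf_sylow q]
          simp only [Subgroup.mem_iInf]
          exact hmem
        have h2 : Cfsg.pCore q G ≤ Cfsg.fittingSubgroup G := by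
          haveI : (Cfsg.pCore q G).Normal := CfsgLib.Solv.pCore_normal' q
          apply le_fittingSubgroup
          exact (CfsgLib.Solv.pCore_isPGroup q).isNilpotent
        exact h2 h1
      · -- two coprime factors
        have hm0 : m ≠ 0 := by
          rintro rfl
          exact hn0 (by rw [hkm, mul_zero])
        have hk0 : k ≠ 0 := by
          rintro rfl
          rw [pow_zero, one_mul] at hkm
          exact hqm (hkm ▸ hqd)
        have hcop : Nat.Coprime (q ^ k) m :=
          Nat.Coprime.pow_left k ((Nat.Prime.coprime_iff_not_dvd hq).mpr hqm)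
        have hqk1 : 1 < q ^ k := Nat.one_lt_pow hk0 hq.one_lt
        have ho1 : orderOf (y ^ (q ^ k)) = m := by
          rw [orderOf_pow_of_dvd (pow_ne_zero k hq.ne_zero) ⟨m, by rw [hy, hkm]⟩, hy, hkm]
          exact Nat.mul_div_cancel_left _ (pow_pos hq.pos k)
        have ho2 : orderOf (y ^ m) = q ^ k := by
          rw [orderOf_pow_of_dvd hm0 ⟨q ^ k, by rw [hy, hkm]; ring⟩, hy, hkm]
          exact Nat.mul_div_cancel _ (Nat.pos_of_ne_zero hm0)
        have hmlt : m < n := by
          rw [hkm]
          exact lt_mul_of_one_lt_left (Nat.pos_of_ne_zero hm0) hqk1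
        have hqlt : q ^ k < n := by
          rw [hkm]
          have : 1 < m := by omega
          exact lt_mul_of_one_lt_right (pow_pos hq.pos k) this
        have h1 := ih m hmlt (y ^ (q ^ k)) ho1 (fun H => by
          rw [← pow_mul, mul_comm, pow_mul]; exact H.pow_mem (hP H) _)
        have h2 := ih _ hqlt (y ^ m) ho2 (fun H => by
          rw [← pow_mul, mul_comm, pow_mul]; exact H.pow_mem (hP H) _)
        -- Bezout
        have hb := Nat.gcd_eq_gcd_ab (q ^ k) m
        rw [hcop.gcd_eq_one] at hb
        have hy1 : y = (y ^ (q ^ k)) ^ (Nat.gcdA (q ^ k) m) * (y ^ m) ^ (Nat.gcdB (q ^ k) m) := by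
          rw [← zpow_natCast, ← zpow_natCast, ← zpow_mul, ← zpow_mul, ← zpow_add, ← hb]
          simp
        rw [hy1]
        exact Subgroup.mul_mem _ (Subgroup.zpow_mem _ h1 _) (Subgroup.zpow_mem _ h2 _)
    exact key _ x rfl h

end CfsgLib.FGS
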