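import Cfsg.Agent.Lib.FGS.Elem

/-!
# Frobenius' divisibility theorem and its refinements.
-/

set_option autoImplicit false
set_option linter.unusedSectionVars false
set_option linter.style.haveILetI false

namespace CfsgLib.FGS

universe u

open Subgroup

/-- Sums of class functions over conjugation-closed sets. -/
theorem dvd_sum_of_class {G : Type*} [Group G] [Finite G] (X : Finset G)
    (hX : ∀ v ∈ X, ∀ h : G, h * v * h⁻¹ ∈ X) (f : G → ℕ)
    (hf : ∀ v h : G, f (h * v * h⁻¹) = f v) (d : ℕ)
    (hd : ∀ v ∈ X, d ∣ (Subgroup.centralizer {v}).index * f v) :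
    d ∣ ∑ v ∈ X, f v := by
  classical
  rw [← Finset.sum_fiberwise_of_maps_to (s := X) (t := X.image ConjClasses.mk)
    (g := ConjClasses.mk) (fun x hx => Finset.mem_image_of_mem _ hx)]
  apply Finset.dvd_sum
  intro D hD
  obtain ⟨v, hv, rfl⟩ := Finset.mem_image.mp hD
  have h1 : ∀ x ∈ X.filter (fun x => ConjClasses.mk x = ConjClasses.mk v), f x = f v := by
    intro x hx
    have h2 := (Finset.mem_filter.mp hx).2
    obtain ⟨c, hc⟩ := isConj_iff.mp (ConjClasses.mk_eq_mk_iff_isConj.mp h2)
    rw [← hc, hf]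
  rw [Finset.sum_congr rfl h1, Finset.sum_const, smul_eq_mul]
  have h3 : (X.filter (fun x => ConjClasses.mk x = ConjClasses.mk v)).card =
      (Subgroup.centralizer {v}).index := by
    rw [index_centralizer_eq_card_conj]
    haveI := Fintype.ofFinite G
    rw [Nat.card_eq_fintype_card, Fintype.card_subtype]
    congr 1
    ext y
    simp only [Finset.mem_filter, Finset.mem_univ, true_and]
    constructor
    · rintro ⟨_, h4⟩
      exact (ConjClasses.mk_eq_mk_iff_isConj.mp h4).symm
    · intro h4
      refine ⟨?_, ConjClasses.mk_eq_mk_iff_isConj.mpr h4.symm⟩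
      obtain ⟨c, hc⟩ := isConj_iff.mp h4
      rw [← hc]
      exact hX v hv c
  rw [h3]
  exact hd v hv

/-- Splitting data for a coprime factorization of the exponent. -/
structure SplitData (G : Type*) [Group G] (A B e e' : ℕ) : Prop where
  hexp : ∀ x : G, x ^ (A * B) = 1
  cop : A.Coprime B
  he1 : e ≡ 1 [MOD A]
  he0 : e ≡ 0 [MOD B]
  he'0 : e' ≡ 0 [MOD A]
  he'1 : e' ≡ 1 [MOD B]

theorem exists_splitData {G : Type*} [Group G] {A B : ℕ} (hexp : ∀ x : G, x ^ (A * B) = 1)
    (cop : A.Coprime B) : ∃ e e', SplitData G A B e e' := by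
  refine ⟨Nat.chineseRemainder cop 1 0, Nat.chineseRemainder cop 0 1, hexp, cop,
    (Nat.chineseRemainder cop 1 0).2.1, (Nat.chineseRemainder cop 1 0).2.2,
    (Nat.chineseRemainder cop 0 1).2.1, (Nat.chineseRemainder cop 0 1).2.2⟩

theorem pow_eq_pow_of_modEq_of_pow {G : Type*} [Group G] {A a b : ℕ} {x : G} (hx : x ^ A = 1)
    (h : a ≡ b [MOD A]) : x ^ a = x ^ b :=
  pow_eq_pow_iff_modEq.mpr (h.of_dvd (orderOf_dvd_of_pow_eq_one hx))

namespace SplitData

variable {G : Type*} [Group G] {A B e e' : ℕ} (hs : SplitData G A B e e')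
include hs

theorem pow_e_of_A {u : G} (hu : u ^ A = 1) : u ^ e = u := by
  have := pow_eq_pow_of_modEq_of_pow hu hs.he1
  rwa [pow_one] at this

theorem pow_e'_of_A {u : G} (hu : u ^ A = 1) : u ^ e' = 1 := by
  have := pow_eq_pow_of_modEq_of_pow hu hs.he'0
  rwa [pow_zero] at this

theorem pow_e_of_B {u : G} (hu : u ^ B = 1) : u ^ e = 1 := by
  have := pow_eq_pow_of_modEq_of_pow hu hs.he0
  rwa [pow_zero] at this

theorem pow_e'_of_B {u : G} (hu : u ^ B = 1) : u ^ e' = u := by
  have := pow_eq_pow_of_modEq_of_pow hu hs.he'1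
  rwa [pow_one] at this

theorem pow_e_pow_A (x : G) : (x ^ e) ^ A = 1 := by
  obtain ⟨k, hk⟩ := (Nat.modEq_zero_iff_dvd.mp hs.he0)
  rw [← pow_mul, hk, show B * k * A = A * B * k by ring, pow_mul, hs.hexp, one_pow]

theorem pow_e'_pow_B (x : G) : (x ^ e') ^ B = 1 := by
  obtain ⟨k, hk⟩ := (Nat.modEq_zero_iff_dvd.mp hs.he'0)
  rw [← pow_mul, hk, show A * k * B = A * B * k by ring, pow_mul, hs.hexp, one_pow]

theorem pow_e_mul_pow_e' (x : G) : x ^ e * x ^ e' = x := by
  have h1 : e + e' ≡ 1 [MOD A * B] := by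
    apply (Nat.modEq_and_modEq_iff_modEq_mul hs.cop).mp
    constructor
    · simpa using hs.he1.add hs.he'0
    · simpa using hs.he0.add hs.he'1
  rw [← pow_add]
  have := pow_eq_pow_of_modEq_of_pow (hs.hexp x) h1
  rwa [pow_one] at this

theorem mul_pow_e {u v : G} (hc : Commute u v) (hu : u ^ A = 1) (hv : v ^ B = 1) :
    (u * v) ^ e = u := by
  rw [hc.mul_pow, hs.pow_e_of_A hu, hs.pow_e_of_B hv, mul_one]

theorem mul_pow_e' {u v : G} (hc : Commute u v) (hu : u ^ A = 1) (hv : v ^ B = 1) :
    (u * v) ^ e' = v := by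
  rw [hc.mul_pow, hs.pow_e'_of_A hu, hs.pow_e'_of_B hv, one_mul]

/-- The primary decomposition, as a count. -/
theorem card_eq_sum [Finite G] (P : G → Prop) :
    letI := Fintype.ofFinite G
    letI := Classical.decEq G
    Nat.card {x : G // P x} = ∑ v ∈ Finset.univ.filter (fun v : G => v ^ B = 1),
      Nat.card {u : Subgroup.centralizer {v} // (u : G) ^ A = 1 ∧ P ((u : G) * v)} := by
  classical
  letI := Fintype.ofFinite G
  rw [Nat.card_eq_fintype_card, Fintype.card_subtype,
    Finset.card_eq_sum_card_fiberwise (f := fun x : G => x ^ e')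
      (t := Finset.univ.filter (fun v : G => v ^ B = 1))
      (fun x _ => by simpa using hs.pow_e'_pow_B x)]
  apply Finset.sum_congr rfl
  intro v hv
  have hv' : v ^ B = 1 := by simpa using hv
  rw [← Fintype.card_coe, ← Nat.card_eq_fintype_card]
  have hh : ∀ x : G, x ^ e' = v → x ^ e * v = x ∧ x ^ e * v = v * x ^ e := by
    rintro x rfl
    exact ⟨hs.pow_e_mul_pow_e' x, ((Commute.refl x).pow_pow _ _)⟩
  refine Nat.card_congr ⟨fun x => ⟨⟨x.1 ^ e, ?_⟩, ?_⟩, fun u => ⟨(u.1 : G) * v, ?_⟩, ?_, ?_⟩
  · have h1 := (Finset.mem_filter.mp x.2).2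
    rw [Subgroup.mem_centralizer_singleton_iff]
    exact (hh _ h1).2
  · have h1 := (Finset.mem_filter.mp x.2).2
    refine ⟨hs.pow_e_pow_A _, ?_⟩
    show P (x.1 ^ e * v)
    rw [(hh _ h1).1]
    simpa using (Finset.mem_filter.mp x.2).1
  · have hc : Commute (u.1 : G) v := by
      have := u.1.2
      rwa [Subgroup.mem_centralizer_singleton_iff] at this
    simp only [Finset.mem_filter, Finset.mem_univ, true_and]
    exact ⟨u.2.2, hs.mul_pow_e' hc u.2.1 hv'⟩
  · intro x
    apply Subtype.ext
    have h1 := (Finset.mem_filter.mp x.2).2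
    exact (hh _ h1).1
  · intro u
    have hc : Commute (u.1 : G) v := by
      have := u.1.2
      rwa [Subgroup.mem_centralizer_singleton_iff] at this
    apply Subtype.ext
    apply Subtype.ext
    exact hs.mul_pow_e hc u.2.1 hv'

end SplitData

/-- Conjugate centralizers have the same number of elements with a conjugation-invariant
property. -/
theorem card_centralizer_conj {G : Type*} [Group G] (Q : G → Prop)
    (hQ : ∀ u h : G, Q (h * u * h⁻¹) ↔ Q u) (v h : G) :
    Nat.card {u : Subgroup.centralizer {h * v * h⁻¹} // Q u} =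
      Nat.card {u : Subgroup.centralizer {v} // Q u} := by
  refine Nat.card_congr ⟨fun u => ⟨⟨h⁻¹ * u.1 * h, ?_⟩, ?_⟩, fun u => ⟨⟨h * u.1 * h⁻¹, ?_⟩, ?_⟩,
    ?_, ?_⟩
  · have h1 := u.1.2
    rw [Subgroup.mem_centralizer_singleton_iff] at h1 ⊢
    have h2 : (u.1 : G) * (h * v * h⁻¹) = h * v * h⁻¹ * (u.1 : G) := h1
    calc h⁻¹ * (u.1 : G) * h * v = h⁻¹ * ((u.1 : G) * (h * v * h⁻¹)) * h := by group
      _ = h⁻¹ * (h * v * h⁻¹ * (u.1 : G)) * h := by rw [h2]
      _ = v * (h⁻¹ * (u.1 : G) * h) := by group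
  · have := (hQ (h⁻¹ * u.1 * h) h).mp (by
      have h3 : h * (h⁻¹ * (u.1 : G) * h) * h⁻¹ = u.1 := by group
      rw [h3]
      exact u.2)
    exact this
  · have h1 := u.1.2
    rw [Subgroup.mem_centralizer_singleton_iff] at h1 ⊢
    have h2 : (u.1 : G) * v = v * (u.1 : G) := h1
    calc h * (u.1 : G) * h⁻¹ * (h * v * h⁻¹) = h * ((u.1 : G) * v) * h⁻¹ := by group
      _ = h * (v * (u.1 : G)) * h⁻¹ := by rw [h2]
      _ = h * v * h⁻¹ * (h * (u.1 : G) * h⁻¹) := by group
  · exact (hQ _ h).mpr u.2
  · intro u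
    apply Subtype.ext
    apply Subtype.ext
    show h * (h⁻¹ * (u.1 : G) * h) * h⁻¹ = u.1
    group
  · intro u
    apply Subtype.ext
    apply Subtype.ext
    show h⁻¹ * (h * (u.1 : G) * h⁻¹) * h = u.1
    group

/-- A `p`-element of a group of order dividing `p^β m` (`p ∤ m`) is killed by `p^β`. -/
theorem pow_eq_one_of_pelt {H : Type*} [Group H] [Finite H] {p β m : ℕ} (hp : p.Prime)
    (hm : ¬ p ∣ m) (hK : Nat.card H ∣ p ^ β * m) {u : H} {k : ℕ}
    (hu : u ^ p ^ k = 1) : u ^ p ^ β = 1 := by
  have h1 : orderOf u ∣ p ^ k := orderOf_dvd_of_pow_eq_one hu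
  have h2 : orderOf u ∣ p ^ β * m := (orderOf_dvd_natCard u).trans hK
  have h3 : Nat.Coprime (orderOf u) m := by
    obtain ⟨i, _, hi⟩ := (Nat.dvd_prime_pow hp).mp h1
    rw [hi]
    exact Nat.Coprime.pow_left _ ((Nat.Prime.coprime_iff_not_dvd hp).mpr hm)
  exact orderOf_dvd_iff_pow_eq_one.mp (h3.dvd_of_dvd_mul_right h2)

/-- The central elements killed by `m` form a group of order prime to `p`, if `p ∤ m`. -/
theorem card_central_pow_coprime {H : Type*} [Group H] [Finite H] {p m : ℕ} (hp : p.Prime)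
    (hm : ¬ p ∣ m) : ¬ p ∣ Nat.card {v : H // v ∈ Subgroup.center H ∧ v ^ m = 1} := by
  intro hd
  let W : Subgroup H :=
    { carrier := {v | v ∈ Subgroup.center H ∧ v ^ m = 1}
      mul_mem' := by
        rintro a b ⟨ha, ha'⟩ ⟨hb, hb'⟩
        refine ⟨mul_mem ha hb, ?_⟩
        have hc : Commute a b := (Subgroup.mem_center_iff.mp ha b).symm
        rw [hc.mul_pow, ha', hb', mul_one]
      one_mem' := ⟨one_mem _, one_pow _⟩
      inv_mem' := by
        rintro a ⟨ha, ha'⟩
        refine ⟨inv_mem ha, ?_⟩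
        rw [inv_pow, ha', inv_one] }
  have h1 : Nat.card W = Nat.card {v : H // v ∈ Subgroup.center H ∧ v ^ m = 1} := rfl
  rw [← h1] at hd
  obtain ⟨x, hx⟩ := exists_prime_orderOf_dvd_card' p hd (hp := ⟨hp⟩)
  have h2 : ((x : W) : H) ^ m = 1 := x.2.2
  have h3 : orderOf x ∣ m := by
    apply orderOf_dvd_of_pow_eq_one
    apply Subtype.ext
    simpa using h2
  rw [hx] at h3
  exact hm h3

/-- Frobenius' theorem for `p`-elements. -/
theorem pow_dvd_card_pelts (p : ℕ) (hp : p.Prime) (N : ℕ) : ∀ (H : Type u) [Group H] [Finite H],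
    Nat.card H = N → ∀ a : ℕ, p ^ a ∣ N → p ^ a ∣ Nat.card {u : H // ∃ k, u ^ p ^ k = 1} := by
  classical
  induction N using Nat.strong_induction_on with
  | _ N ih =>
    intro H _ _ hN a ha
    letI := Fintype.ofFinite H
    have hN0 : N ≠ 0 := by
      rw [← hN]
      exact Nat.card_pos.ne'
    obtain ⟨β, m, hm, hNm⟩ := Nat.exists_eq_pow_mul_and_not_dvd hN0 p hp.ne_one
    have hcop : (p ^ β).Coprime m :=
      Nat.Coprime.pow_left _ ((Nat.Prime.coprime_iff_not_dvd hp).mpr hm)
    have hexp : ∀ x : H, x ^ (p ^ β * m) = 1 := by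
      intro x
      rw [← hNm, ← hN]
      exact pow_card_eq_one'
    obtain ⟨e, e', hs⟩ := exists_splitData hexp hcop
    have hcard := hs.card_eq_sum (fun _ => True)
    let f : H → ℕ := fun v => Nat.card {u : Subgroup.centralizer {v} // ∃ k, (u : H) ^ p ^ k = 1}
    have hfeq : ∀ v : H, Nat.card {u : Subgroup.centralizer {v} //
        (u : H) ^ p ^ β = 1 ∧ True} = f v := by
      intro v
      apply Nat.card_congr
      apply Equiv.subtypeEquivRight
      intro u
      constructor
      · rintro ⟨h, _⟩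
        exact ⟨β, h⟩
      · rintro ⟨k, hk⟩
        refine ⟨?_, trivial⟩
        have hd : Nat.card H ∣ p ^ β * m := by rw [hN, hNm]
        exact pow_eq_one_of_pelt hp hm hd hk
    have hleft : Nat.card {x : H // True} = N := by
      rw [← hN]
      exact Nat.card_congr (Equiv.subtypeUnivEquiv (fun _ => trivial))
    rw [hleft, Finset.sum_congr rfl (fun v _ => hfeq v)] at hcard
    set V := Finset.univ.filter (fun v : H => v ^ m = 1) with hV
    rw [← Finset.sum_filter_add_sum_filter_not V (fun v => v ∈ Subgroup.center H)] at hcard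
    set w := Nat.card {u : H // ∃ k, u ^ p ^ k = 1} with hw
    have h0 : ∀ v ∈ V.filter (fun v => v ∈ Subgroup.center H), f v = w := by
      intro v hv
      have hvc := (Finset.mem_filter.mp hv).2
      apply Nat.card_congr
      refine ⟨fun u => ⟨u.1, u.2⟩, fun u => ⟨⟨u.1, ?_⟩, u.2⟩, fun _ => rfl, fun _ => rfl⟩
      rw [Subgroup.mem_centralizer_singleton_iff]
      exact (Subgroup.mem_center_iff.mp hvc u.1)
    rw [Finset.sum_congr rfl h0, Finset.sum_const, smul_eq_mul] at hcard
    have h1 : p ^ a ∣ ∑ v ∈ V.filter (fun v => ¬ v ∈ Subgroup.center H), f v := by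
      apply dvd_sum_of_class
      · intro v hv h
        have hv1 := Finset.mem_filter.mp hv
        refine Finset.mem_filter.mpr ⟨?_, ?_⟩
        · have hv2 : v ^ m = 1 := by simpa [hV] using hv1.1
          simp only [hV, Finset.mem_filter, Finset.mem_univ, true_and]
          rw [conj_pow, hv2]
          group
        · intro hc
          apply hv1.2
          have hc2 := (inferInstance : (Subgroup.center H).Normal).conj_mem _ hc h⁻¹
          simpa [mul_assoc] using hc2
      · intro v h
        exact card_centralizer_conj (fun u : H => ∃ k, u ^ p ^ k = 1) (fun u h => by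
          constructor
          · rintro ⟨k, hk⟩
            refine ⟨k, ?_⟩
            rw [conj_pow] at hk
            have := congrArg (fun z => h⁻¹ * z * h) hk
            simpa [mul_assoc] using this
          · rintro ⟨k, hk⟩
            refine ⟨k, ?_⟩
            rw [conj_pow, hk]
            group) v h
      · intro v hv
        have hv1 := Finset.mem_filter.mp hv
        have hlt : Nat.card (Subgroup.centralizer {v}) < N := by
          have hle := Subgroup.card_le_card_group (Subgroup.centralizer {v})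
          rw [hN] at hle
          refine lt_of_le_of_ne hle ?_
          intro heq
          apply hv1.2
          have htop := Subgroup.eq_top_of_card_eq _ (heq.trans hN.symm)
          rw [Subgroup.mem_center_iff]
          intro g
          have : g ∈ Subgroup.centralizer {v} := by
            rw [htop]
            trivial
          rwa [Subgroup.mem_centralizer_singleton_iff] at this
        have hmul : (Subgroup.centralizer {v}).index * Nat.card (Subgroup.centralizer {v}) = N := by
          rw [mul_comm, Subgroup.card_mul_index, hN]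
        rw [← hmul] at ha
        obtain ⟨y, z, hy, hz, hyz⟩ := Nat.dvd_mul.mp ha
        obtain ⟨i, _, rfl⟩ := (Nat.dvd_prime_pow hp).mp ((Dvd.intro_left y hyz))
        have h2 := ih _ hlt (Subgroup.centralizer {v}) rfl i hz
        have h3 : Nat.card {u : Subgroup.centralizer {v} // ∃ k, u ^ p ^ k = 1} = f v := by
          apply Nat.card_congr
          apply Equiv.subtypeEquivRight
          intro u
          constructor
          · rintro ⟨k, hk⟩
            exact ⟨k, by simpa using congrArg (fun z : Subgroup.centralizer {v} => (z : H)) hk⟩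
          · rintro ⟨k, hk⟩
            exact ⟨k, Subtype.ext (by simpa using hk)⟩
        rw [h3] at h2
        rw [← hyz]
        exact Nat.mul_dvd_mul hy h2
    have h2 : p ^ a ∣ (V.filter (fun v => v ∈ Subgroup.center H)).card * w := by
      have := ha
      rw [hcard] at this
      exact (Nat.dvd_add_left h1).mp this
    have h3 : ¬ p ∣ (V.filter (fun v => v ∈ Subgroup.center H)).card := by
      have h4 := card_central_pow_coprime (H := H) hp hm
      intro h5
      apply h4
      have h6 : Nat.card {v : H // v ∈ Subgroup.center H ∧ v ^ m = 1} =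
          (V.filter (fun v => v ∈ Subgroup.center H)).card := by
        rw [Nat.card_eq_fintype_card, Fintype.card_subtype]
        congr 1
        ext v
        simp [hV, and_comm]
      rw [h6]
      exact h5
    have h4 : (p ^ a).Coprime (V.filter (fun v => v ∈ Subgroup.center H)).card :=
      Nat.Coprime.pow_left _ ((Nat.Prime.coprime_iff_not_dvd hp).mpr h3)
    exact h4.dvd_of_dvd_mul_left h2

/-- If `c ≠ 1` is a `p`-element then `p^j` divides the number of `p^j`-th roots of `c`. -/
theorem pow_dvd_card_roots {G : Type*} [Group G] [Finite G] {p : ℕ} (hp : p.Prime) (j b : ℕ)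
    (c : G) (hc : c ≠ 1) (hcb : c ^ p ^ b = 1) : p ^ j ∣ Nat.card {u : G // u ^ p ^ j = c} := by
  classical
  letI := Fintype.ofFinite G
  haveI : Fact p.Prime := ⟨hp⟩
  obtain ⟨b', hb'⟩ : ∃ b', orderOf c = p ^ (b' + 1) := by
    obtain ⟨i, _, hi⟩ := (Nat.dvd_prime_pow hp).mp (orderOf_dvd_of_pow_eq_one hcb)
    cases i with
    | zero =>
      exfalso
      apply hc
      rw [pow_zero] at hi
      exact orderOf_eq_one_iff.mp hi
    | succ i => exact ⟨i, hi⟩
  have hord : ∀ u : G, u ^ p ^ j = c → orderOf u = p ^ (j + b' + 1) := by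
    intro u hu
    apply orderOf_eq_prime_pow
    · rw [pow_add, pow_mul, hu]
      intro h
      have h1 := orderOf_dvd_of_pow_eq_one h
      rw [hb'] at h1
      have h2 := (Nat.pow_dvd_pow_iff_le_right hp.one_lt).mp h1
      omega
    · rw [show j + b' + 1 = j + (b' + 1) by ring, pow_add, pow_mul, hu, ← hb', pow_orderOf_eq_one]
  rw [Nat.card_eq_fintype_card, Fintype.card_subtype,
    Finset.card_eq_sum_card_image (fun u : G => Subgroup.zpowers u)
      (Finset.univ.filter (fun u : G => u ^ p ^ j = c))]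
  apply Finset.dvd_sum
  intro D hD
  obtain ⟨u₀, hu₀, rfl⟩ := Finset.mem_image.mp hD
  have hu₀' : u₀ ^ p ^ j = c := by simpa using hu₀
  set q := p ^ (b' + 1) with hq
  have hq1 : 1 < q := Nat.one_lt_pow (by omega) hp.one_lt
  let w := u₀ ^ q
  have hw : orderOf w = p ^ j := by
    have h1 : orderOf w = orderOf u₀ / Nat.gcd (orderOf u₀) q :=
      orderOf_pow' u₀ (by omega)
    have h2 : orderOf u₀ = p ^ j * q := by
      rw [hord u₀ hu₀', hq, show j + b' + 1 = j + (b' + 1) by ring, pow_add]
    rw [h1, h2, Nat.gcd_eq_right (Nat.dvd_mul_left q _)]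
    exact Nat.mul_div_cancel _ (by omega)
  have hcardw : Nat.card (Subgroup.zpowers w) = p ^ j := by
    rw [Nat.card_zpowers, hw]
  have h2 : orderOf u₀ = p ^ j * q := by
    rw [hord u₀ hu₀', hq, show j + b' + 1 = j + (b' + 1) by ring, pow_add]
  have hα : ∀ α ∈ Subgroup.zpowers w, (α * u₀) ^ p ^ j = c ∧
      Subgroup.zpowers (α * u₀) = Subgroup.zpowers u₀ := by
    intro α hα
    obtain ⟨t, rfl⟩ := Submonoid.mem_powers_iff _ _ |>.mp (mem_powers_iff_mem_zpowers.mpr hα)
    have h3 : w ^ t * u₀ = u₀ ^ (q * t + 1) := by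
      show (u₀ ^ q) ^ t * u₀ = _
      rw [← pow_mul, pow_succ]
    have h4 : (w ^ t * u₀) ^ p ^ j = c := by
      rw [h3, ← pow_mul, show (q * t + 1) * p ^ j = (p ^ j * q) * t + p ^ j by ring, pow_add,
        pow_mul, ← h2, pow_orderOf_eq_one, one_pow, one_mul, hu₀']
    refine ⟨h4, ?_⟩
    apply Subgroup.eq_of_le_of_card_ge
    · rw [Subgroup.zpowers_le, h3]
      exact pow_mem (Subgroup.mem_zpowers u₀) _
    · rw [Nat.card_zpowers, Nat.card_zpowers, hord _ h4, hord _ hu₀']
  have hfib : (((Finset.univ.filter (fun u : G => u ^ p ^ j = c))).filter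
      (fun u => Subgroup.zpowers u = Subgroup.zpowers u₀)).card = p ^ j := by
    rw [← Fintype.card_coe, ← Nat.card_eq_fintype_card]
    refine Eq.trans ?_ hcardw
    symm
    apply Nat.card_eq_of_bijective
      (fun α : Subgroup.zpowers w => (⟨(α : G) * u₀, by
        simp only [Finset.mem_filter, Finset.mem_univ, true_and]
        exact hα α α.2⟩ :
        {x // x ∈ ((Finset.univ.filter (fun u : G => u ^ p ^ j = c))).filter
          (fun u => Subgroup.zpowers u = Subgroup.zpowers u₀)}))
    constructor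
    · intro α₁ α₂ h
      apply Subtype.ext
      have h10 : (α₁ : G) * u₀ = (α₂ : G) * u₀ := congrArg Subtype.val h
      exact mul_right_cancel h10
    · rintro ⟨u, hu⟩
      have hu' : u ^ p ^ j = c ∧ Subgroup.zpowers u = Subgroup.zpowers u₀ := by simpa using hu
      have hu1 : u ∈ Subgroup.zpowers u₀ := by
        rw [← hu'.2]
        exact Subgroup.mem_zpowers u
      obtain ⟨i, rfl⟩ := Submonoid.mem_powers_iff _ _ |>.mp (mem_powers_iff_mem_zpowers.mpr hu1)
      have h5 : i * p ^ j ≡ 1 * p ^ j [MOD q * p ^ j] := by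
        have h6 : u₀ ^ (i * p ^ j) = u₀ ^ (1 * p ^ j) := by
          rw [pow_mul, hu'.1, one_mul, hu₀']
        have h7 := pow_eq_pow_iff_modEq.mp h6
        rwa [h2, mul_comm (p ^ j) q] at h7
      have h6 : i ≡ 1 [MOD q] :=
        Nat.ModEq.mul_right_cancel' (pow_ne_zero _ hp.ne_zero) h5
      have hi : 1 ≤ i := by
        rcases Nat.eq_zero_or_pos i with rfl | h8
        · exfalso
          have h9 : 0 % q = 1 % q := h6
          rw [Nat.zero_mod, Nat.mod_eq_of_lt hq1] at h9
          omega
        · exact h8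
      obtain ⟨t, ht⟩ := (Nat.modEq_iff_dvd' hi).mp h6.symm
      refine ⟨⟨w ^ t, pow_mem (Subgroup.mem_zpowers w) t⟩, ?_⟩
      apply Subtype.ext
      show (u₀ ^ q) ^ t * u₀ = u₀ ^ i
      rw [← pow_mul, ← pow_succ, ← ht]
      congr 1
      omega
  rw [hfib]

/-- The number of `p^j`-torsion elements. -/
theorem pow_dvd_card_torsion {G : Type u} [Group G] [Finite G] {p : ℕ} (hp : p.Prime) (a j : ℕ)
    (haj : a ≤ j) (ha : p ^ a ∣ Nat.card G) : p ^ a ∣ Nat.card {u : G // u ^ p ^ j = 1} := by
  classical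
  letI := Fintype.ofFinite G
  obtain ⟨β, m, hm, hNm⟩ := Nat.exists_eq_pow_mul_and_not_dvd (Nat.card_pos (α := G)).ne' p hp.ne_one
  have hcop : (p ^ β).Coprime m :=
    Nat.Coprime.pow_left _ ((Nat.Prime.coprime_iff_not_dvd hp).mpr hm)
  have haβ : a ≤ β := by
    rw [hNm] at ha
    exact (Nat.pow_dvd_pow_iff_le_right hp.one_lt).mp
      ((Nat.Coprime.pow_left a ((Nat.Prime.coprime_iff_not_dvd hp).mpr hm)).dvd_of_dvd_mul_right ha)
  have hd : Nat.card G ∣ p ^ β * m := by rw [← hNm]
  have hA : ∀ i : ℕ, β ≤ i → Nat.card {u : G // u ^ p ^ i = 1} =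
      Nat.card {u : G // ∃ k, u ^ p ^ k = 1} := by
    intro i hi
    apply Nat.card_congr
    apply Equiv.subtypeEquivRight
    intro u
    constructor
    · intro h
      exact ⟨i, h⟩
    · rintro ⟨k, hk⟩
      have h1 := pow_eq_one_of_pelt hp hm hd hk
      obtain ⟨l, rfl⟩ := Nat.exists_eq_add_of_le hi
      rw [pow_add, pow_mul, h1, one_pow]
  have hTop : p ^ β ∣ Nat.card {u : G // ∃ k, u ^ p ^ k = 1} :=
    pow_dvd_card_pelts p hp _ G rfl β ⟨m, hNm⟩
  rcases le_total β j with hj | hj
  · rw [hA j hj]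
    exact (pow_dvd_pow p haβ).trans hTop
  · have key : ∀ i j : ℕ, i + j = β → p ^ j ∣ Nat.card {u : G // u ^ p ^ j = 1} := by
      intro i
      induction i with
      | zero =>
        intro j hj
        have : j = β := by omega
        subst this
        rw [hA _ le_rfl]
        exact hTop
      | succ i ih =>
        intro j hj
        have h1 := ih (j + 1) (by omega)
        have h2 : p ^ j ∣ Nat.card {u : G // u ^ p ^ (j + 1) = 1} :=
          (pow_dvd_pow p (Nat.le_succ j)).trans h1
        rw [Nat.card_eq_fintype_card, Fintype.card_subtype] at h2 ⊢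
        rw [← Finset.card_filter_add_card_filter_not (s := Finset.univ.filter
          (fun u : G => u ^ p ^ (j + 1) = 1)) (fun u : G => u ^ p ^ j = 1)] at h2
        have h3 : (Finset.univ.filter (fun u : G => u ^ p ^ (j + 1) = 1)).filter
            (fun u : G => u ^ p ^ j = 1) = Finset.univ.filter (fun u : G => u ^ p ^ j = 1) := by
          ext u
          simp only [Finset.mem_filter, Finset.mem_univ, true_and]
          constructor
          · exact fun h => h.2
          · intro h
            refine ⟨?_, h⟩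
            rw [pow_succ, pow_mul, h, one_pow]
        rw [h3] at h2
        have h4 : p ^ j ∣ ((Finset.univ.filter (fun u : G => u ^ p ^ (j + 1) = 1)).filter
            (fun u : G => ¬ u ^ p ^ j = 1)).card := by
          rw [Finset.card_eq_sum_card_image (fun u : G => u ^ p ^ j)]
          apply Finset.dvd_sum
          intro c hc
          obtain ⟨u₀, hu₀, rfl⟩ := Finset.mem_image.mp hc
          simp only [Finset.mem_filter, Finset.mem_univ, true_and] at hu₀
          have h5 := pow_dvd_card_roots hp j 1 (u₀ ^ p ^ j) hu₀.2 (by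
            rw [pow_one, ← pow_mul, ← pow_succ]
            exact hu₀.1)
          rw [Nat.card_eq_fintype_card, Fintype.card_subtype] at h5
          have h6 : (((Finset.univ.filter (fun u : G => u ^ p ^ (j + 1) = 1)).filter
              (fun u : G => ¬ u ^ p ^ j = 1))).filter (fun a => a ^ p ^ j = u₀ ^ p ^ j) =
              Finset.univ.filter (fun u : G => u ^ p ^ j = u₀ ^ p ^ j) := by
            ext u
            simp only [Finset.mem_filter, Finset.mem_univ, true_and]
            constructor
            · exact fun h => h.2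
            · intro h
              refine ⟨⟨?_, ?_⟩, h⟩
              · rw [pow_succ, pow_mul, h, ← pow_mul, ← pow_succ]
                exact hu₀.1
              · rw [h]
                exact hu₀.2
          rw [h6]
          exact h5
        exact (Nat.dvd_add_left h4).mp h2
    exact (pow_dvd_pow p haj).trans (key (β - j) j (by omega))

/-- The number of `p`-elements with a prescribed `n`-th power. -/
theorem pow_dvd_card_pelt_pow_eq {G : Type u} [Group G] [Finite G] {p : ℕ} (hp : p.Prime)
    (a n : ℕ) (han : p ^ a ∣ n) (ha : p ^ a ∣ Nat.card G) (c : G) :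
    p ^ a ∣ Nat.card {u : G // (∃ k, u ^ p ^ k = 1) ∧ u ^ n = c} := by
  classical
  rcases Nat.eq_zero_or_pos n with rfl | hn
  · by_cases hc : c = 1
    · subst hc
      have h1 : Nat.card {u : G // (∃ k, u ^ p ^ k = 1) ∧ u ^ 0 = (1 : G)} =
          Nat.card {u : G // ∃ k, u ^ p ^ k = 1} := by
        apply Nat.card_congr
        apply Equiv.subtypeEquivRight
        intro u
        simp
      rw [h1]
      exact pow_dvd_card_pelts p hp _ G rfl a ha
    · have h1 : IsEmpty {u : G // (∃ k, u ^ p ^ k = 1) ∧ u ^ 0 = c} := by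
        constructor
        rintro ⟨u, _, h⟩
        apply hc
        rw [← h, pow_zero]
      rw [Nat.card_of_isEmpty]
      exact dvd_zero _
  obtain ⟨j, m, hm, hn'⟩ := Nat.exists_eq_pow_mul_and_not_dvd hn.ne' p hp.ne_one
  obtain ⟨β, M, hM, hNM⟩ := Nat.exists_eq_pow_mul_and_not_dvd (Nat.card_pos (α := G)).ne' p hp.ne_one
  have haj : a ≤ j := by
    rw [hn'] at han
    exact (Nat.pow_dvd_pow_iff_le_right hp.one_lt).mp
      ((Nat.Coprime.pow_left a ((Nat.Prime.coprime_iff_not_dvd hp).mpr hm)).dvd_of_dvd_mul_right han)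
  have hd : Nat.card G ∣ p ^ β * M := by rw [← hNM]
  by_cases hex : ∃ u₁ : G, (∃ k, u₁ ^ p ^ k = 1) ∧ u₁ ^ n = c
  · obtain ⟨u₁, ⟨k₁, hk₁⟩, hu₁⟩ := hex
    have hcop : m.Coprime (p ^ β) :=
      (Nat.Coprime.pow_left _ ((Nat.Prime.coprime_iff_not_dvd hp).mpr hm)).symm
    obtain ⟨l, hl⟩ : ∃ l, m * l ≡ 1 [MOD p ^ β] := by
      have h1 := (Nat.chineseRemainder hcop 0 1).2
      obtain ⟨l, hl⟩ := Nat.modEq_zero_iff_dvd.mp h1.1
      exact ⟨l, hl ▸ h1.2⟩
    have hcp : c ^ p ^ k₁ = 1 := by
      rw [← hu₁, ← pow_mul, mul_comm, pow_mul, hk₁, one_pow]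
    have hcβ : c ^ p ^ β = 1 := pow_eq_one_of_pelt hp hM hd hcp
    have hcl : c ^ (m * l) = c := by
      have := pow_eq_pow_of_modEq_of_pow hcβ hl
      rwa [pow_one] at this
    have hset : Nat.card {u : G // (∃ k, u ^ p ^ k = 1) ∧ u ^ n = c} =
        Nat.card {u : G // u ^ p ^ j = c ^ l} := by
      apply Nat.card_congr
      apply Equiv.subtypeEquivRight
      intro u
      constructor
      · rintro ⟨⟨k, hk⟩, hu⟩
        have h1 : u ^ p ^ β = 1 := pow_eq_one_of_pelt hp hM hd hk
        have h2 : (u ^ p ^ j) ^ p ^ β = 1 := by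
          rw [← pow_mul, mul_comm, pow_mul, h1, one_pow]
        have h3 := pow_eq_pow_of_modEq_of_pow h2 hl
        rw [pow_one] at h3
        rw [← h3, ← hu, hn', pow_mul, pow_mul]
      · intro h
        constructor
        · refine ⟨j + β, ?_⟩
          rw [pow_add, pow_mul, h, ← pow_mul, mul_comm, pow_mul, hcβ, one_pow]
        · rw [hn', pow_mul, h, ← pow_mul, mul_comm, hcl]
    rw [hset]
    by_cases hc1 : c ^ l = 1
    · rw [hc1]
      exact pow_dvd_card_torsion hp a j haj ha
    · have h1 := pow_dvd_card_roots hp j β (c ^ l) hc1 (by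
        rw [← pow_mul, mul_comm, pow_mul, hcβ, one_pow])
      exact (pow_dvd_pow p haj).trans h1
  · have h1 : IsEmpty {u : G // (∃ k, u ^ p ^ k = 1) ∧ u ^ n = c} :=
      ⟨fun u => hex ⟨u.1, u.2⟩⟩
    rw [Nat.card_of_isEmpty]
    exact dvd_zero _

/-- Frobenius: the prime-power form, for a central element. -/
theorem pow_dvd_card_pow_eq_central {G : Type u} [Group G] [Finite G] {p : ℕ} (hp : p.Prime)
    (a n : ℕ) (han : p ^ a ∣ n) (ha : p ^ a ∣ Nat.card G) (c : G) (hc : c ∈ Subgroup.center G) :
    p ^ a ∣ Nat.card {x : G // x ^ n = c} := by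
  classical
  letI := Fintype.ofFinite G
  obtain ⟨β, m, hm, hNm⟩ := Nat.exists_eq_pow_mul_and_not_dvd (Nat.card_pos (α := G)).ne' p hp.ne_one
  have hcop : (p ^ β).Coprime m :=
    Nat.Coprime.pow_left _ ((Nat.Prime.coprime_iff_not_dvd hp).mpr hm)
  have hexp : ∀ x : G, x ^ (p ^ β * m) = 1 := by
    intro x
    rw [← hNm]
    exact pow_card_eq_one'
  have hd : Nat.card G ∣ p ^ β * m := by rw [← hNm]
  obtain ⟨e, e', hs⟩ := exists_splitData hexp hcop
  rw [hs.card_eq_sum (fun x => x ^ n = c)]
  let F : G → ℕ := fun v => Nat.card {u : Subgroup.centralizer {v} //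
    (∃ k, (u : G) ^ p ^ k = 1) ∧ (u : G) ^ n = c ^ e}
  have hcentral : ∀ i : ℕ, ∀ h : G, h * c ^ i * h⁻¹ = c ^ i := by
    intro i h
    have h1 : c ^ i ∈ Subgroup.center G := pow_mem hc i
    rw [(Subgroup.mem_center_iff.mp h1 h)]
    group
  have hterm : ∀ v ∈ Finset.univ.filter (fun v : G => v ^ m = 1),
      Nat.card {u : Subgroup.centralizer {v} // (u : G) ^ p ^ β = 1 ∧ ((u : G) * v) ^ n = c} =
        if v ^ n = c ^ e' then F v else 0 := by
    intro v hv
    have hv' : v ^ m = 1 := by simpa using hv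
    split_ifs with h1
    · apply Nat.card_congr
      apply Equiv.subtypeEquivRight
      intro u
      have hcu : Commute (u : G) v := by
        have := u.2
        rwa [Subgroup.mem_centralizer_singleton_iff] at this
      have h2 : ((u : G) * v) ^ n = (u : G) ^ n * c ^ e' := by
        rw [hcu.mul_pow, h1]
      rw [h2]
      constructor
      · rintro ⟨h3, h4⟩
        refine ⟨⟨β, h3⟩, ?_⟩
        have h6 : (u : G) ^ n * c ^ e' = c ^ e * c ^ e' := h4.trans (hs.pow_e_mul_pow_e' c).symm
        exact mul_right_cancel h6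
      · rintro ⟨⟨k, hk⟩, h4⟩
        refine ⟨pow_eq_one_of_pelt hp hm hd hk, ?_⟩
        rw [h4, hs.pow_e_mul_pow_e']
    · apply Nat.card_eq_zero.mpr
      left
      constructor
      rintro ⟨u, h3, h4⟩
      apply h1
      have hcu : Commute (u : G) v := by
        have := u.2
        rwa [Subgroup.mem_centralizer_singleton_iff] at this
      have h5 := hs.mul_pow_e' hcu h3 hv'
      rw [← h4, ← pow_mul, mul_comm, pow_mul, h5]
  rw [Finset.sum_congr rfl hterm, ← Finset.sum_filter]
  apply dvd_sum_of_class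
  · intro v hv h
    obtain ⟨hv1, hv2⟩ := Finset.mem_filter.mp hv
    have hv3 : v ^ m = 1 := by simpa using hv1
    refine Finset.mem_filter.mpr ⟨?_, ?_⟩
    · simp only [Finset.mem_filter, Finset.mem_univ, true_and]
      rw [conj_pow, hv3]
      group
    · rw [conj_pow, hv2, hcentral]
  · intro v h
    refine card_centralizer_conj
      (fun u : G => (∃ k, u ^ p ^ k = 1) ∧ u ^ n = c ^ e) (fun u h => ?_) v h
    constructor
    · rintro ⟨⟨k, hk⟩, h2⟩
      constructor
      · refine ⟨k, ?_⟩
        rw [conj_pow] at hk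
        have := congrArg (fun z => h⁻¹ * z * h) hk
        simpa [mul_assoc] using this
      · rw [conj_pow] at h2
        have h3 : u ^ n = h⁻¹ * (h * u ^ n * h⁻¹) * h := by group
        rw [h3, h2]
        have h4 := hcentral e h
        calc h⁻¹ * c ^ e * h = h⁻¹ * (h * c ^ e * h⁻¹) * h := by rw [h4]
          _ = c ^ e := by group
    · rintro ⟨⟨k, hk⟩, h2⟩
      constructor
      · refine ⟨k, ?_⟩
        rw [conj_pow, hk]
        group
      · rw [conj_pow, h2, hcentral]
  · intro v hv
    have hmul : (Subgroup.centralizer {v}).index * Nat.card (Subgroup.centralizer {v}) =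
        Nat.card G := by
      rw [mul_comm, Subgroup.card_mul_index]
    rw [← hmul] at ha
    obtain ⟨y, z, hy, hz, hyz⟩ := Nat.dvd_mul.mp ha
    obtain ⟨i, _, rfl⟩ := (Nat.dvd_prime_pow hp).mp ((Dvd.intro_left y hyz))
    have hce : c ^ e ∈ Subgroup.centralizer {v} := by
      rw [Subgroup.mem_centralizer_singleton_iff]
      exact (Subgroup.mem_center_iff.mp (pow_mem hc e) v).symm
    have h2 := pow_dvd_card_pelt_pow_eq (G := Subgroup.centralizer {v}) hp i n
      ((Dvd.intro_left y hyz).trans han) hz ⟨c ^ e, hce⟩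
    have h3 : Nat.card {u : Subgroup.centralizer {v} // (∃ k, u ^ p ^ k = 1) ∧
        u ^ n = ⟨c ^ e, hce⟩} = F v := by
      apply Nat.card_congr
      apply Equiv.subtypeEquivRight
      intro u
      constructor
      · rintro ⟨⟨k, hk⟩, h4⟩
        exact ⟨⟨k, by simpa using congrArg (fun z : Subgroup.centralizer {v} => (z : G)) hk⟩,
          by simpa using congrArg (fun z : Subgroup.centralizer {v} => (z : G)) h4⟩
      · rintro ⟨⟨k, hk⟩, h4⟩
        exact ⟨⟨k, Subtype.ext (by simpa using hk)⟩, Subtype.ext (by simpa using h4)⟩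
    rw [h3] at h2
    rw [← hyz]
    exact Nat.mul_dvd_mul hy h2

/-- Frobenius' theorem for a central element. -/
theorem gcd_dvd_card_pow_eq_central {G : Type u} [Group G] [Finite G] (n : ℕ) (c : G)
    (hc : c ∈ Subgroup.center G) : Nat.gcd n (Nat.card G) ∣ Nat.card {x : G // x ^ n = c} := by
  rw [Nat.dvd_iff_prime_pow_dvd_dvd]
  intro p k hp h
  exact pow_dvd_card_pow_eq_central hp k n (h.trans (Nat.gcd_dvd_left _ _))
    (h.trans (Nat.gcd_dvd_right _ _)) c hc

/-- Frobenius' theorem. -/
theorem dvd_card_pow_eq_one {G : Type u} [Group G] [Finite G] (n : ℕ) (hn : n ∣ Nat.card G) :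
    n ∣ Nat.card {x : G // x ^ n = 1} := by
  have := gcd_dvd_card_pow_eq_central (G := G) n 1 (one_mem _)
  rwa [Nat.gcd_eq_left hn] at this

end CfsgLib.FGS
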