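import Cfsg.Agent.Lib.FGS.Cyc
import Cfsg.Agent.Lib.Solv.Coprime
import Cfsg.Agent.Lib.PLocal.CardSup

/-!
# Lifting `π`-elements, normalizers of cyclic subgroups.
-/

set_option autoImplicit false
set_option linter.unusedSectionVars false
set_option linter.style.haveILetI false

namespace CfsgLib.FGS

open Cfsg
open scoped Pointwise

theorem mem_norm_zpowers {K : Type*} [Group K] [Finite K] (a b : K)
    (h : b * a * b⁻¹ ∈ Subgroup.zpowers a) :
    b ∈ Subgroup.normalizer ((Subgroup.zpowers a : Subgroup K) : Set K) := by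
  apply CfsgLib.FGS.mem_normalizer_of_conj_le
  obtain ⟨j, hj⟩ := h
  rintro _ ⟨k, rfl⟩
  refine ⟨j * k, ?_⟩
  show a ^ (j * k) = b * (a ^ k) * b⁻¹
  rw [← conj_zpow, ← hj, ← zpow_mul]

variable {G : Type*} [Group G] [Finite G]

/-- Every `π`-element of a quotient lifts to a `π`-element. -/
theorem exists_pi_lift (π : Set ℕ) (N : Subgroup G) [N.Normal] (y : G ⧸ N)
    (hy : ∀ r : ℕ, r.Prime → r ∣ orderOf y → r ∈ π) :
    ∀ (n : ℕ) (x₀ : G), orderOf x₀ = n → (x₀ : G ⧸ N) = y →
      ∃ x : G, (x : G ⧸ N) = y ∧ (∀ r : ℕ, r.Prime → r ∣ orderOf x → r ∈ π) := by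
  intro n
  induction n using Nat.strong_induction_on with
  | _ n ih =>
    intro x₀ hn hx₀
    by_cases hall : ∀ r : ℕ, r.Prime → r ∣ orderOf x₀ → r ∈ π
    · exact ⟨x₀, hx₀, hall⟩
    · simp only [not_forall] at hall
      obtain ⟨r, hr, hrd, hrπ⟩ := hall
      haveI := Fact.mk hr
      obtain ⟨s, t, hs, ht, hst, hcomm, ⟨k, hk⟩, htc⟩ := exists_primary_decomp r hr x₀
      have hsN : ((s : G) : G ⧸ N) = 1 := by
        by_contra hne
        have h1 : orderOf ((s : G) : G ⧸ N) ∣ r ^ k := by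
          rw [← hk]
          exact orderOf_map_dvd (QuotientGroup.mk' N) s
        obtain ⟨i, -, hi⟩ := (Nat.dvd_prime_pow hr).mp h1
        have hi0 : i ≠ 0 := by
          rintro rfl
          rw [pow_zero] at hi
          exact hne (orderOf_eq_one_iff.mp hi)
        have h2 : r ∣ orderOf ((s : G) : G ⧸ N) := by
          rw [hi]
          exact dvd_pow_self r hi0
        have h3 : orderOf ((s : G) : G ⧸ N) ∣ orderOf y := by
          obtain ⟨m, rfl⟩ := hs
          rw [← hx₀]
          have : ((x₀ ^ m : G) : G ⧸ N) = ((x₀ : G) : G ⧸ N) ^ m := rfl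
          rw [this]
          exact orderOf_dvd_of_mem_zpowers ⟨m, rfl⟩
        exact hrπ (hy r hr (h2.trans h3))
      have htlift : ((t : G) : G ⧸ N) = y := by
        rw [← hx₀, hst]
        have : ((s * t : G) : G ⧸ N) = ((s : G) : G ⧸ N) * ((t : G) : G ⧸ N) := rfl
        rw [this, hsN, one_mul]
      have hlt : orderOf t < n := by
        have h1 : orderOf t ∣ orderOf x₀ := by
          exact orderOf_dvd_of_mem_zpowers ht
        rw [hn] at h1 hrd
        have hn0 : 0 < n := by rw [← hn]; exact orderOf_pos x₀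
        refine lt_of_le_of_ne (Nat.le_of_dvd hn0 h1) ?_
        intro he
        rw [← he] at hrd
        have h2 := Nat.dvd_gcd hrd (dvd_refl r)
        rw [htc] at h2
        exact hr.one_lt.ne' (Nat.dvd_one.mp h2)
      exact ih _ hlt t rfl htlift

end CfsgLib.FGS
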