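import Cfsg.Agent.Lib.OOL.FPFThm
import Cfsg.Agent.Lib.H3.Signal2

set_option autoImplicit false
set_option linter.unusedSectionVars false
set_option linter.style.haveILetI false
set_option linter.unusedVariables false

open Subgroup Cfsg

namespace CfsgLib.FGS.MaxCent

universe u

section
variable {G : Type u} [Group G]

/-- The centralizer of one element. -/
abbrev Cc (x : G) : Subgroup G := centralizer ({x} : Set G)

theorem mem_Cc {x g : G} : g ∈ Cc x ↔ g * x = x * g := mem_centralizer_singleton_iff

theorem exists_pow_eq_of_coprime {w x : G} (hc : w * x = x * w)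
    (hco : (orderOf w).Coprime (orderOf x)) : ∃ a : ℕ, (w * x) ^ a = x := by
  obtain ⟨a, ha⟩ := Nat.chineseRemainder hco 0 1
  refine ⟨a, ?_⟩
  have hcomm : Commute w x := hc
  rw [hcomm.mul_pow]
  have h1 : w ^ a = 1 := orderOf_dvd_iff_pow_eq_one.1 ((Nat.modEq_zero_iff_dvd).1 ha.1)
  have h2 : x ^ a = x ^ 1 := pow_eq_pow_iff_modEq.2 ha.2
  simp [h1, h2]

end

variable {G : Type u} [Group G] [Finite G]

/-- Coprime commuting elements in a group with maximal centralizers. -/
theorem commute_of_coprime (h : ∀ g : G, g ∉ center G → IsCoatom (Cc g)) {p : ℕ} [Fact p.Prime]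
    {x w m : G} (hxp : ∃ k : ℕ, orderOf x = p ^ k) (hxz : x ∉ center G) (hwx : w * x = x * w)
    (hw : (orderOf w).Coprime p) (hm : m * x = x * m) : m * w = w * m := by
  by_cases hwz : w ∈ center G
  · exact mem_center_iff.1 hwz m
  obtain ⟨k, hk⟩ := hxp
  have hco : (orderOf w).Coprime (orderOf x) := by
    rw [hk]; exact Nat.Coprime.pow_right _ hw
  obtain ⟨a, ha⟩ := exists_pow_eq_of_coprime hwx hco
  obtain ⟨b, hb⟩ := exists_pow_eq_of_coprime hwx.symm hco.symm
  rw [← hwx] at hb
  have hz : w * x ∉ center G := by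
    intro hz
    exact hxz (ha ▸ Subgroup.pow_mem _ hz a)
  have hle : Cc (w * x) ≤ Cc x := by
    intro g hg
    rw [mem_Cc] at hg ⊢
    have : Commute g (w * x) := hg
    have h2 := this.pow_right a
    rw [ha] at h2
    exact h2
  have hcx := (h _ hz).le_iff.1 hle
  have hne := (h x hxz).1
  have heq : Cc x = Cc (w * x) := hcx.resolve_left hne
  have hm' : m ∈ Cc (w * x) := by
    rw [← heq]; exact mem_Cc.2 hm
  rw [mem_Cc] at hm'
  have : Commute m (w * x) := hm'
  have h2 := this.pow_right b
  rw [hb] at h2
  exact h2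

/-- Centralizers of noncentral `p`-elements are nilpotent. -/
theorem nilp_cent (h : ∀ g : G, g ∉ center G → IsCoatom (Cc g)) {p : ℕ} [Fact p.Prime]
    {x : G} (hxp : ∃ k : ℕ, orderOf x = p ^ k) (hxz : x ∉ center G) : Group.IsNilpotent (Cc x) := by
  have hP : IsPGroup p (Cc x ⧸ center (Cc x)) := by
    intro q
    obtain ⟨m, rfl⟩ := QuotientGroup.mk_surjective q
    have hpp : (p).Prime := Fact.out
    have hn : orderOf m ≠ 0 := (orderOf_pos m).ne'
    refine ⟨(orderOf m).factorization p, ?_⟩
    rw [← QuotientGroup.mk_pow, QuotientGroup.eq_one_iff, mem_center_iff]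
    intro y
    apply Subtype.ext
    have hb : (m ^ (p ^ (orderOf m).factorization p)) ^ (orderOf m / p ^ (orderOf m).factorization p) = 1 := by
      rw [← pow_mul, Nat.ordProj_mul_ordCompl_eq_self, pow_orderOf_eq_one]
    have hord : orderOf (m ^ (p ^ (orderOf m).factorization p)) ∣ orderOf m / p ^ (orderOf m).factorization p :=
      orderOf_dvd_of_pow_eq_one hb
    have hcop : (orderOf (m ^ (p ^ (orderOf m).factorization p))).Coprime p := by
      apply Nat.Coprime.coprime_dvd_left hord
      exact (Nat.coprime_ordCompl hpp hn).symm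
    have hcop' : (orderOf ((m ^ (p ^ (orderOf m).factorization p) : Cc x) : G)).Coprime p := by
      rwa [Subgroup.orderOf_coe]
    have hmx : ((m ^ (p ^ (orderOf m).factorization p) : Cc x) : G) * x
        = x * ((m ^ (p ^ (orderOf m).factorization p) : Cc x) : G) :=
      mem_Cc.1 (m ^ (p ^ (orderOf m).factorization p)).2
    exact commute_of_coprime h hxp hxz hmx hcop' (mem_Cc.1 y.2)
  exact Group.of_quotient_center_nilpotent hP.isNilpotent

/-- The solvable radical. -/
theorem exists_radical : ∃ T : Subgroup G, T.Normal ∧ Group.IsSolvable T ∧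
    ∀ D : Subgroup G, D.Normal → Group.IsSolvable D → D ≤ T := by
  classical
  have hfin : ({N : Subgroup G | N.Normal ∧ Group.IsSolvable N}).Finite := Set.toFinite _
  obtain ⟨T, hT⟩ := hfin.exists_maximal ⟨⊥, inferInstance, inferInstance⟩
  refine ⟨T, hT.1.1, hT.1.2, ?_⟩
  intro D hD hDs
  haveI := hT.1.1
  have hsup : (T ⊔ D) ∈ {N : Subgroup G | N.Normal ∧ Group.IsSolvable N} := by
    refine ⟨inferInstance, ?_⟩
    refine CfsgLib.Signal.solvable_sup ?_ hT.1.2 hDs
    rw [normalizer_eq_top T]
    exact le_top
  have := hT.2 hsup le_sup_left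
  exact le_sup_right.trans this

theorem solvable_of_np_aux (n : ℕ) : ∀ (X : Type u) [Group X] [Finite X], Nat.card X = n →
    (∀ (p : ℕ) [Fact p.Prime], p ≠ 2 → HasNormalPComplement p X) → Group.IsSolvable X := by
  induction n using Nat.strong_induction_on with
  | _ n ih =>
    intro X _ _ hcard hnp
    by_cases hodd : ∃ p : ℕ, p.Prime ∧ p ≠ 2 ∧ p ∣ Nat.card X
    · obtain ⟨p, hpp, hp2, hpd⟩ := hodd
      haveI : Fact p.Prime := ⟨hpp⟩
      obtain ⟨N, hn, hc, k, hk⟩ := CfsgLib.Trans.hasNormalPComplement_iff.1 (hnp p hp2)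
      haveI := hn
      have hlt : Nat.card N < n := by
        rw [← hcard]
        have h1 := Subgroup.card_mul_index N
        have hpos : 0 < Nat.card X := Nat.card_pos
        have hidx : N.index ≠ 1 := by
          intro h
          rw [h, mul_one] at h1
          rw [← h1] at hpd
          exact (Nat.Prime.coprime_iff_not_dvd hpp).1 hc.symm hpd
        have h2 : 1 < N.index := by
          have : N.index ≠ 0 := Subgroup.index_ne_zero_of_finite
          omega
        calc Nat.card N = Nat.card N * 1 := (mul_one _).symm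
          _ < Nat.card N * N.index := Nat.mul_lt_mul_of_pos_left h2 Nat.card_pos
          _ = Nat.card X := h1
      have hNs : Group.IsSolvable N := ih _ hlt N rfl (fun q _ hq =>
        CfsgLib.Trans.hasNormalPComplement_subgroup (hnp q hq) N)
      have hQ : IsPGroup p (X ⧸ N) := by
        apply IsPGroup.of_card (n := k)
        rw [← hk]; rfl
      haveI : Group.IsNilpotent (X ⧸ N) := hQ.isNilpotent
      haveI : Group.IsSolvable (X ⧸ N) := inferInstance
      exact Group.isSolvable_of_ker_le_range N.subtype (QuotientGroup.mk' N) (by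
        rw [QuotientGroup.ker_mk', Subgroup.range_subtype])
    · have h2 : IsPGroup 2 X := by
        haveI : Fact (Nat.Prime 2) := ⟨Nat.prime_two⟩
        apply IsPGroup.of_card (n := (Nat.card X).primeFactorsList.length)
        apply Nat.eq_prime_pow_of_unique_prime_dvd Nat.card_pos.ne'
        intro q hq hqd
        by_contra hne
        exact hodd ⟨q, hq, hne, hqd⟩
      haveI : Fact (Nat.Prime 2) := ⟨Nat.prime_two⟩
      haveI : Group.IsNilpotent X := h2.isNilpotent
      infer_instance

theorem solvable_of_np (X : Type u) [Group X] [Finite X]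
    (h : ∀ (p : ℕ) [Fact p.Prime], p ≠ 2 → HasNormalPComplement p X) : Group.IsSolvable X :=
  solvable_of_np_aux _ X rfl h

/-- Normal coatoms have commutative quotient. -/
theorem commutator_mem_of_normal_coatom {M : Subgroup G} [hn : M.Normal] (hM : IsCoatom M) (a b : G) :
    a * b * a⁻¹ * b⁻¹ ∈ M := by
  by_cases ha : a ∈ M
  · have h1 : b * a⁻¹ * b⁻¹ ∈ M := hn.conj_mem _ (inv_mem ha) b
    have : a * b * a⁻¹ * b⁻¹ = a * (b * a⁻¹ * b⁻¹) := by group
    rw [this]; exact mul_mem ha h1
  · -- `G = M ⟨a⟩`
    have htop : M ⊔ zpowers a = ⊤ := by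
      apply hM.2
      refine lt_of_le_of_ne le_sup_left ?_
      intro h
      apply ha
      rw [h]
      exact (le_sup_right : zpowers a ≤ M ⊔ zpowers a) (mem_zpowers a)
    have hb : b ∈ M ⊔ zpowers a := by rw [htop]; trivial
    obtain ⟨m, hm, c, hc, rfl⟩ := (mem_sup_of_normal_left).1 hb
    obtain ⟨k, rfl⟩ := mem_zpowers_iff.1 hc
    have e : a * (m * a ^ k) * a⁻¹ * (m * a ^ k)⁻¹ = (a * m * a⁻¹) * m⁻¹ := by
      have h1 : a * a ^ k = a ^ k * a := by
        exact (Commute.refl a).zpow_right k
      calc a * (m * a ^ k) * a⁻¹ * (m * a ^ k)⁻¹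
          = a * m * (a ^ k * a⁻¹ * (a ^ k)⁻¹) * m⁻¹ := by group
        _ = a * m * a⁻¹ * m⁻¹ := by
            have : a ^ k * a⁻¹ * (a ^ k)⁻¹ = a⁻¹ := by
              have h2 : a ^ k * a⁻¹ = a⁻¹ * a ^ k := ((Commute.refl a).inv_right.zpow_left k)
              rw [h2]; group
            rw [this]
    rw [e]
    exact mul_mem (hn.conj_mem _ hm a) (inv_mem hm)

theorem np_quot (h : ∀ g : G, g ∉ center G → IsCoatom (Cc g)) (T : Subgroup G) [hTn : T.Normal]
    (hTs : Group.IsSolvable T) (hTmax : ∀ D : Subgroup G, D.Normal → Group.IsSolvable D → D ≤ T)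
    (p : ℕ) [hpf : Fact p.Prime] (hp : p ≠ 2) : HasNormalPComplement p (G ⧸ T) := by
  classical
  have hpp : p.Prime := hpf.out
  let π : G →* G ⧸ T := QuotientGroup.mk' T
  have hπ : Function.Surjective π := QuotientGroup.mk'_surjective T
  have hker : π.ker = T := QuotientGroup.ker_mk' T
  obtain ⟨S⟩ : Nonempty (Sylow p G) := inferInstance
  have hord : ∀ x ∈ (S : Subgroup G), ∃ k : ℕ, orderOf x = p ^ k := by
    intro x hx
    obtain ⟨k, hk⟩ := (IsPGroup.iff_orderOf.1 S.isPGroup') ⟨x, hx⟩
    exact ⟨k, by rw [← Subgroup.orderOf_mk x hx]; exact hk⟩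
  by_cases hA : ∃ x ∈ (S : Subgroup G), x ∉ center G ∧ ∀ s ∈ (S : Subgroup G), s * x = x * s
  · obtain ⟨x, hxS, hxz, hxc⟩ := hA
    have hM := h x hxz
    have hSM : (S : Subgroup G) ≤ Cc x := fun s hs => mem_Cc.2 (hxc s hs)
    have hnil := nilp_cent h (hord x hxS) hxz
    by_cases hTM : T ≤ Cc x
    · let Pb : Sylow p (G ⧸ T) := S.mapSurjective hπ
      have hPb : (Pb : Subgroup (G ⧸ T)) = (S : Subgroup G).map π := Sylow.coe_mapSurjective _ _
      have hMb : IsCoatom ((Cc x).map π) := by
        constructor
        · intro htop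
          have h1 : (Cc x).map π ≤ (⊥ : Subgroup G).map π ⊔ (Cc x).map π := le_sup_right
          apply hM.1
          have h2 := Subgroup.comap_map_eq π (Cc x)
          rw [htop, Subgroup.comap_top, hker, sup_eq_left.2 hTM] at h2
          exact h2.symm
        · intro U hU
          have hle : Cc x ≤ U.comap π := by
            intro m hm
            exact hU.le ⟨m, hm, rfl⟩
          rcases hM.le_iff.1 hle with h1 | h1
          · have h2 := Subgroup.map_comap_eq_self_of_surjective hπ U
            rw [h1, Subgroup.map_top_of_surjective π hπ] at h2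
            exact h2.symm
          · exfalso
            have h2 := Subgroup.map_comap_eq_self_of_surjective hπ U
            rw [h1] at h2
            exact hU.ne h2
      have hNS : Cc x ≤ normalizer ((S : Subgroup G) : Set G) := by
        intro m hm
        have hsyl := (Group.isNilpotent_of_finite_tfae (G := Cc x)).out 0 3 rfl rfl |>.mp hnil
        have hn := hsyl p hpf (S.subtype hSM)
        rw [Sylow.coe_subtype] at hn
        apply CfsgLib.PLocal.mem_normalizer_of_conj_le
        intro s hs
        have h1 : (⟨s, hSM hs⟩ : Cc x) ∈ (S : Subgroup G).subgroupOf (Cc x) := by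
          rw [Subgroup.mem_subgroupOf]; exact hs
        have h2 := hn.conj_mem _ h1 ⟨m, hm⟩
        rw [Subgroup.mem_subgroupOf] at h2
        exact h2
      have hMN : (Cc x).map π ≤ normalizer (centerThompsonAOf (Pb : Subgroup (G ⧸ T)) : Set (G ⧸ T)) := by
        refine le_trans ?_ ((CfsgLib.OOL.abF (p := p)).norm (Pb : Subgroup (G ⧸ T)))
        rintro _ ⟨m, hm, rfl⟩
        apply CfsgLib.PLocal.mem_normalizer_of_conj_le
        rw [hPb]
        rintro _ ⟨s, hs, rfl⟩
        refine ⟨m * s * m⁻¹, ?_, by simp⟩
        have h3 := (Subgroup.mem_normalizer_iff.1 (hNS hm) s).1 hs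
        exact h3
      rcases hMb.le_iff.1 hMN with htop | heq
      · -- the centre of the Thompson subgroup is normal
        haveI hWn : (centerThompsonAOf (Pb : Subgroup (G ⧸ T))).Normal := normalizer_eq_top_iff.1 htop
        set W := centerThompsonAOf (Pb : Subgroup (G ⧸ T)) with hW
        have hWc : ∀ a ∈ W, ∀ b ∈ W, a * b = b * a := by
          intro a ha b hb
          have h1 := ha.2
          have h2 := hb.1
          exact (mem_centralizer_iff.1 h1 b h2).symm
        haveI hWs : Group.IsSolvable W := Group.isSolvable_of_comm (fun a b => Subtype.ext (hWc _ a.2 _ b.2))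
        have hDn : (W.comap π).Normal := inferInstance
        have hTD : T ≤ W.comap π := by
          intro t ht
          have : π t = 1 := by
            rw [← MonoidHom.mem_ker, hker]; exact ht
          rw [Subgroup.mem_comap, this]
          exact one_mem _
        have hDs : Group.IsSolvable (W.comap π) := by
          haveI : Group.IsSolvable T := hTs
          refine Group.isSolvable_of_ker_le_range (Subgroup.inclusion hTD) (π.subgroupComap W) ?_
          rintro ⟨g, hg⟩ hgk
          have h1 : π g = 1 := by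
            exact congrArg (fun z : W => z.1) (MonoidHom.mem_ker.1 hgk)
          have h2 : g ∈ T := by
            rw [← hker]; exact h1
          exact ⟨⟨g, h2⟩, rfl⟩
        have hDT := hTmax _ hDn hDs
        have hWbot : W = ⊥ := by
          rw [eq_bot_iff]
          intro y hy
          obtain ⟨g, rfl⟩ := hπ y
          have h2 : g ∈ T := hDT hy
          have : π g = 1 := by
            rw [← MonoidHom.mem_ker, hker]; exact h2
          rw [this]; exact one_mem _
        have hPbot : (Pb : Subgroup (G ⧸ T)) = ⊥ := by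
          by_contra hne
          exact CfsgLib.OOL.F_ne_bot Pb.isPGroup' hne hWbot
        apply CfsgLib.OOL.np_of_coprime
        have hnd := Pb.not_dvd_index
        rw [hPbot, Subgroup.index_bot] at hnd
        exact ((Nat.Prime.coprime_iff_not_dvd hpp).2 hnd).symm
      · have hnb : Group.IsNilpotent ((Cc x).map π) := by
          let f : Cc x →* (Cc x).map π := π.subgroupMap (Cc x)
          exact Group.nilpotent_of_surjective f (π.subgroupMap_surjective (Cc x))
        apply CfsgLib.OOL.glauberman_ab hp Pb
        rw [heq]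
        exact CfsgLib.OOL.np_of_isNilpotent hnb
    · have htop : Cc x ⊔ T = ⊤ := by
        apply hM.2
        refine lt_of_le_of_ne le_sup_left ?_
        intro h1
        apply hTM
        rw [h1]; exact le_sup_right
      let f : Cc x →* G ⧸ T := π.comp (Cc x).subtype
      have hf : Function.Surjective f := by
        intro y
        obtain ⟨g, rfl⟩ := hπ y
        have hg : g ∈ Cc x ⊔ T := by rw [htop]; trivial
        obtain ⟨m, hm, t, ht, rfl⟩ := (mem_sup_of_normal_right).1 hg
        refine ⟨⟨m, hm⟩, ?_⟩
        have : π t = 1 := by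
          rw [← MonoidHom.mem_ker, hker]; exact ht
        simp [f, this]
      exact CfsgLib.OOL.np_of_isNilpotent (Group.nilpotent_of_surjective f hf)
  · have hZ : ∀ x ∈ (S : Subgroup G), (∀ s ∈ (S : Subgroup G), s * x = x * s) → x ∈ center G := by
      intro x hx hc
      by_contra hxz
      exact hA ⟨x, hx, hxz, hc⟩
    by_cases hB : (S : Subgroup G) ≤ center G
    · have hZT : center G ≤ T := by
        apply hTmax _ inferInstance
        exact Group.isSolvable_of_comm (fun a b => Subtype.ext (mem_center_iff.1 b.2 a.1))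
      have hST := hB.trans hZT
      have hnd : ¬ p ∣ T.index := fun hd => S.not_dvd_index (hd.trans (Subgroup.index_dvd_of_le hST))
      apply CfsgLib.OOL.np_of_coprime
      exact ((Nat.Prime.coprime_iff_not_dvd hpp).2 hnd).symm
    · -- a non-abelian Sylow subgroup with centre inside `Z(G)`
      obtain ⟨s₀, hs₀, hs₀z⟩ := Set.not_subset.1 hB
      have hQp : IsPGroup p (↥(S : Subgroup G) ⧸ center ↥(S : Subgroup G)) :=
        S.isPGroup'.to_quotient _
      have hs₀c : (⟨s₀, hs₀⟩ : ↥(S : Subgroup G)) ∉ center ↥(S : Subgroup G) := by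
        intro hc
        apply hs₀z
        apply hZ s₀ hs₀
        intro s hs
        have := mem_center_iff.1 hc ⟨s, hs⟩
        exact congrArg Subtype.val this
      haveI hnt : Nontrivial (↥(S : Subgroup G) ⧸ center ↥(S : Subgroup G)) := by
        refine ⟨⟨((⟨s₀, hs₀⟩ : ↥(S : Subgroup G)) : ↥(S : Subgroup G) ⧸ center ↥(S : Subgroup G)), 1, ?_⟩⟩
        rw [Ne, QuotientGroup.eq_one_iff]
        exact hs₀c
      haveI := hQp.center_nontrivial
      obtain ⟨q, hq⟩ := exists_ne (1 : center (↥(S : Subgroup G) ⧸ center ↥(S : Subgroup G)))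
      obtain ⟨y, hy⟩ := QuotientGroup.mk_surjective q.1
      have hyc : y ∉ center ↥(S : Subgroup G) := by
        intro hc
        apply hq
        apply Subtype.ext
        rw [← hy]
        exact (QuotientGroup.eq_one_iff _).2 hc
      have hcom : ∀ s : ↥(S : Subgroup G), ∃ c : G, c ∈ center G ∧ y.1 * s.1 = s.1 * y.1 * c := by
        intro s
        have h1 : ((s : ↥(S : Subgroup G) ⧸ center ↥(S : Subgroup G))) * q.1 = q.1 * s :=
          mem_center_iff.1 q.2 _
        rw [← hy] at h1
        have h2 : ((s * y : ↥(S : Subgroup G)) : ↥(S : Subgroup G) ⧸ center ↥(S : Subgroup G)) = ((y * s : ↥(S : Subgroup G))) := h1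
        have h3 := QuotientGroup.eq.1 h2
        refine ⟨((s * y)⁻¹ * (y * s) : ↥(S : Subgroup G)).1, ?_, ?_⟩
        · apply hZ _ ((s * y)⁻¹ * (y * s) : ↥(S : Subgroup G)).2
          intro t ht
          have := mem_center_iff.1 h3 ⟨t, ht⟩
          exact congrArg Subtype.val this
        · simp; group
      have hy0z : y.1 ∉ center G := by
        intro hc
        apply hyc
        rw [mem_center_iff]
        intro g
        apply Subtype.ext
        exact mem_center_iff.1 hc g.1
      have hM := h y.1 hy0z
      have hSN : (S : Subgroup G) ≤ normalizer (Cc y.1 : Set G) := by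
        intro s hs
        apply CfsgLib.PLocal.mem_normalizer_of_conj_le
        intro g hg
        rw [mem_Cc] at hg ⊢
        obtain ⟨c, hc, hyc'⟩ := hcom ⟨s, hs⟩
        have hcg : g * c = c * g := (mem_center_iff.1 hc g)
        have hys : y.1 * s = s * y.1 * c := hyc'
        have hs1 : s⁻¹ * y.1 * s = y.1 * c := by
          rw [mul_assoc, hys]; group
        calc s * g * s⁻¹ * y.1 = s * g * (s⁻¹ * y.1 * s) * s⁻¹ := by group
          _ = s * g * (y.1 * c) * s⁻¹ := by rw [hs1]
          _ = s * (g * y.1) * c * s⁻¹ := by group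
          _ = s * (y.1 * g) * c * s⁻¹ := by rw [hg]
          _ = s * y.1 * (g * c) * s⁻¹ := by group
          _ = s * y.1 * (c * g) * s⁻¹ := by rw [hcg]
          _ = (s * y.1 * c) * g * s⁻¹ := by group
          _ = y.1 * (s * g * s⁻¹) := by rw [← hys]; group
      have hcase := hM.le_iff.1 (le_normalizer (H := Cc y.1))
      have hnorm : (Cc y.1).Normal := by
        rcases hcase with h1 | h1
        · exact normalizer_eq_top_iff.1 h1
        · exfalso
          apply hyc
          rw [mem_center_iff]
          intro g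
          apply Subtype.ext
          have h2 : g.1 ∈ Cc y.1 := by
            rw [← h1]; exact hSN g.2
          exact mem_Cc.1 h2
      have hnil := nilp_cent h (hord y.1 y.2) hy0z
      have hle : Cc y.1 ≤ T := by
        apply hTmax _ hnorm
        infer_instance
      have hcomm : ∀ u v : G ⧸ T, u * v = v * u := by
        intro u v
        obtain ⟨a, rfl⟩ := QuotientGroup.mk_surjective u
        obtain ⟨b, rfl⟩ := QuotientGroup.mk_surjective v
        have h3 : ((a * b : G) : G ⧸ T) = ((b * a : G)) := by
          apply QuotientGroup.eq.2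
          have h4 := commutator_mem_of_normal_coatom hM b⁻¹ a⁻¹
          have e : (a * b)⁻¹ * (b * a) = b⁻¹ * a⁻¹ * b⁻¹⁻¹ * a⁻¹⁻¹ := by group
          rw [e]
          exact hle h4
        exact h3
      letI : CommGroup (G ⧸ T) := { (inferInstance : Group (G ⧸ T)) with mul_comm := hcomm }
      exact CfsgLib.OOL.np_of_isNilpotent (inferInstance)

/-- Main theorem. -/
theorem solvable_of_max_cent (h : ∀ g : G, g ∉ center G → IsCoatom (Cc g)) : Group.IsSolvable G := by
  obtain ⟨T, hTn, hTs, hTmax⟩ := exists_radical (G := G)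
  haveI := hTn
  haveI : Group.IsSolvable T := hTs
  haveI : Group.IsSolvable (G ⧸ T) := solvable_of_np (G ⧸ T) (fun p _ hp => np_quot h T hTs hTmax p hp)
  exact Group.isSolvable_of_ker_le_range T.subtype (QuotientGroup.mk' T) (by
    rw [QuotientGroup.ker_mk', Subgroup.range_subtype])

end CfsgLib.FGS.MaxCent
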