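import Cfsg.Agent.Lib.FGS.Cyc
import Cfsg.Agent.Lib.FGS.Mod
import Cfsg.Agent.Lib.FGS.Elem

/-!
# Nilpotent minimal covers.
-/

set_option autoImplicit false
set_option linter.unusedSectionVars false
set_option linter.style.haveILetI false

namespace CfsgLib.FGS

universe u

variable {G : Type u} [Group G] [Finite G]

/-- The data of a nilpotent minimal cover. -/
structure IsNilMinCover (𝓐 : Finset (Subgroup G)) : Prop where
  proper : ∀ A ∈ 𝓐, A ≠ ⊤
  covers : ∀ g : G, ∃ A ∈ 𝓐, g ∈ A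
  minimal : ∀ 𝓑 : Finset (Subgroup G), (∀ A ∈ 𝓑, A ≠ ⊤) ∧ (∀ g : G, ∃ A ∈ 𝓑, g ∈ A) →
    𝓐.card ≤ 𝓑.card
  nil : ∀ A ∈ 𝓐, Group.IsNilpotent A

variable {𝓐 : Finset (Subgroup G)} (h𝓐 : IsNilMinCover 𝓐)
include h𝓐

/-- At most one member of a minimal cover lies in a given proper subgroup. -/
theorem IsNilMinCover.unique_le {M : Subgroup G} (hM : M ≠ ⊤) {A B : Subgroup G} (hA : A ∈ 𝓐)
    (hB : B ∈ 𝓐) (hAM : A ≤ M) (hBM : B ≤ M) : A = B := by
  classical
  by_contra hne
  set 𝓒 := 𝓐.filter (· ≤ M) with h𝓒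
  have hcard : 2 ≤ 𝓒.card := by
    have h1 : ({A, B} : Finset (Subgroup G)) ⊆ 𝓒 := by
      intro C hC
      simp only [Finset.mem_insert, Finset.mem_singleton] at hC
      rcases hC with rfl | rfl
      · exact Finset.mem_filter.mpr ⟨hA, hAM⟩
      · exact Finset.mem_filter.mpr ⟨hB, hBM⟩
    have h2 := Finset.card_le_card h1
    rwa [Finset.card_pair hne] at h2
  have hmin := h𝓐.minimal (insert M (𝓐 \ 𝓒)) ⟨?_, ?_⟩
  · have h3 := Finset.card_insert_le M (𝓐 \ 𝓒)
    have h4 : (𝓐 \ 𝓒).card = 𝓐.card - 𝓒.card :=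
      Finset.card_sdiff_of_subset (Finset.filter_subset _ _)
    have h5 : 𝓒.card ≤ 𝓐.card := Finset.card_le_card (Finset.filter_subset _ _)
    omega
  · intro C hC
    rcases Finset.mem_insert.mp hC with rfl | hC
    · exact hM
    · exact h𝓐.proper C (Finset.mem_sdiff.mp hC).1
  · intro g
    obtain ⟨C, hC, hgC⟩ := h𝓐.covers g
    by_cases hCM : C ≤ M
    · exact ⟨M, Finset.mem_insert_self _ _, hCM hgC⟩
    · refine ⟨C, Finset.mem_insert_of_mem (Finset.mem_sdiff.mpr ⟨hC, ?_⟩), hgC⟩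
      intro h
      exact hCM (Finset.mem_filter.mp h).2

variable {p : ℕ} [hp : Fact p.Prime]

/-- In a member of the cover, all `p`-elements commute with each other and with everything in
the member, if the Sylow `p`-subgroups of `G` are abelian. -/
theorem IsNilMinCover.commute_of_pelt (hab : ∀ Q : Sylow p G, ∀ a ∈ Q, ∀ b ∈ Q, a * b = b * a)
    {A : Subgroup G} (hA : A ∈ 𝓐) {v a : G} (hv : v ∈ A) (hvp : ∃ k, v ^ p ^ k = 1) (ha : a ∈ A) :
    v * a = a * v := by
  classical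
  haveI := h𝓐.nil A hA
  obtain ⟨s, t, hs, ht, hx, hst, ⟨k, hk⟩, htc⟩ := exists_primary_decomp p hp.out (⟨a, ha⟩ : A)
  obtain ⟨k₀, hk₀⟩ := hvp
  have hv' : (⟨v, hv⟩ : A) ^ p ^ k₀ = 1 := Subtype.ext (by simpa using hk₀)
  obtain ⟨i, _, hi⟩ := (Nat.dvd_prime_pow hp.out).mp (orderOf_dvd_of_pow_eq_one hv')
  have hvt : (⟨v, hv⟩ : A) * t = t * ⟨v, hv⟩ := by
    apply commute_of_coprime_of_nilpotent _ A rfl
    rw [hi]
    exact (Nat.Coprime.pow_right _ htc).symm
  -- the Sylow subgroup of `A`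
  obtain ⟨S⟩ : Nonempty (Sylow p A) := inferInstance
  have h0 : ∀ (p : ℕ) (_ : Fact p.Prime) (P : Sylow p A), (P : Subgroup A).Normal :=
    ((Group.isNilpotent_of_finite_tfae (G := A)).out 0 3).mp (h𝓐.nil A hA)
  have hSn : (S : Subgroup A).Normal := h0 p hp S
  have hsS : s ∈ (S : Subgroup A) := by
    apply le_of_normal_sylow S hSn (Q := Subgroup.zpowers s) _ (Subgroup.mem_zpowers s)
    rw [IsPGroup.iff_card, Nat.card_zpowers]
    exact ⟨k, hk⟩
  have hvS : (⟨v, hv⟩ : A) ∈ (S : Subgroup A) := by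
    apply le_of_normal_sylow S hSn (Q := Subgroup.zpowers (⟨v, hv⟩ : A)) _ (Subgroup.mem_zpowers _)
    rw [IsPGroup.iff_card, Nat.card_zpowers]
    exact ⟨i, hi⟩
  have hSG : IsPGroup p ((S : Subgroup A).map A.subtype) := S.isPGroup'.map _
  obtain ⟨Q, hQ⟩ := hSG.exists_le_sylow
  have hvs : v * (s : G) = (s : G) * v :=
    hab Q v (hQ ⟨_, hvS, rfl⟩) s (hQ ⟨_, hsS, rfl⟩)
  have hvt' : v * (t : G) = (t : G) * v := congrArg Subtype.val hvt
  have hx' : a = (s : G) * (t : G) := congrArg Subtype.val hx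
  rw [hx']
  calc v * ((s : G) * t) = (v * s) * t := by group
    _ = (s * v) * t := by rw [hvs]
    _ = s * (v * t) := by group
    _ = s * (t * v) := by rw [hvt']
    _ = (s : G) * t * v := by group

/-- With trivial center, a non-trivial `p`-element lies in exactly one member. -/
theorem IsNilMinCover.unique_member (hZ : Subgroup.center G = ⊥)
    (hab : ∀ Q : Sylow p G, ∀ a ∈ Q, ∀ b ∈ Q, a * b = b * a) {v : G} (hv1 : v ≠ 1)
    (hvp : ∃ k, v ^ p ^ k = 1) {A B : Subgroup G} (hA : A ∈ 𝓐) (hB : B ∈ 𝓐) (hvA : v ∈ A)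
    (hvB : v ∈ B) : A = B := by
  have hM : Subgroup.centralizer ({v} : Set G) ≠ ⊤ := by
    intro h
    apply hv1
    have h1 : v ∈ Subgroup.center G := by
      rw [Subgroup.mem_center_iff]
      intro g
      have h2 : g ∈ Subgroup.centralizer ({v} : Set G) := by
        rw [h]
        trivial
      rwa [Subgroup.mem_centralizer_singleton_iff] at h2
    rw [hZ, Subgroup.mem_bot] at h1
    exact h1
  refine h𝓐.unique_le hM hA hB ?_ ?_
  · intro a ha
    rw [Subgroup.mem_centralizer_singleton_iff]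
    exact (h𝓐.commute_of_pelt hab hA hvA hvp ha).symm
  · intro a ha
    rw [Subgroup.mem_centralizer_singleton_iff]
    exact (h𝓐.commute_of_pelt hab hB hvB hvp ha).symm

omit h𝓐 in
/-- Elements of a Sylow subgroup are `p`-elements. -/
theorem pelt_of_mem_sylow (P : Sylow p G) {x : G} (hx : x ∈ (P : Subgroup G)) :
    ∃ k, x ^ p ^ k = 1 := by
  obtain ⟨k, hk⟩ := P.isPGroup' ⟨x, hx⟩
  exact ⟨k, by simpa using congrArg (fun z : (P : Subgroup G) => (z : G)) hk⟩

/-- A Sylow subgroup which is cyclic or of exponent bigger than `p` lies in a member. -/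
theorem IsNilMinCover.exists_member_ge (hZ : Subgroup.center G = ⊥)
    (hab : ∀ Q : Sylow p G, ∀ a ∈ Q, ∀ b ∈ Q, a * b = b * a) (P : Sylow p G)
    (hP1 : (P : Subgroup G) ≠ ⊥)
    (HP : (∃ x ∈ (P : Subgroup G), (P : Subgroup G) ≤ Subgroup.zpowers x) ∨
      (∃ x ∈ (P : Subgroup G), x ^ p ≠ 1)) :
    ∃ A ∈ 𝓐, (P : Subgroup G) ≤ A := by
  classical
  rcases HP with ⟨x, _, hx⟩ | ⟨x, hxP, hxp⟩
  · obtain ⟨A, hA, hxA⟩ := h𝓐.covers x
    exact ⟨A, hA, hx.trans (Subgroup.zpowers_le.mpr hxA)⟩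
  · have hex : ∃ e, ∀ t ∈ (P : Subgroup G), t ^ p ^ e = 1 := by
      obtain ⟨k, hk⟩ := IsPGroup.iff_card.mp P.isPGroup'
      refine ⟨k, fun t ht => ?_⟩
      rw [← hk]
      exact pow_card_subgroup_eq_one ht
    have hfind := Nat.find_spec hex
    have hmin := fun m (hm : m < Nat.find hex) => Nat.find_min hex hm
    set e := Nat.find hex with he
    have he0 : e ≠ 0 := by
      intro h0
      rw [h0] at hfind
      apply hxp
      have := hfind x hxP
      rw [pow_zero, pow_one] at this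
      rw [this, one_pow]
    have he1 : e ≠ 1 := by
      intro h0
      rw [h0] at hfind
      apply hxp
      simpa using hfind x hxP
    obtain ⟨e', he'⟩ : ∃ e', e = e' + 2 := ⟨e - 2, by omega⟩
    have hm1 := hmin (e' + 1) (by omega)
    simp only [not_forall] at hm1
    obtain ⟨x₀, hx₀, hx₀1⟩ := hm1
    set v := x₀ ^ p ^ (e' + 1) with hv
    obtain ⟨A, hA, hx₀A⟩ := h𝓐.covers x₀
    have hvA : v ∈ A := pow_mem hx₀A _
    have hvp : ∃ k, v ^ p ^ k = 1 := by
      refine ⟨1, ?_⟩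
      rw [hv, ← pow_mul, pow_one, ← pow_succ, show e' + 1 + 1 = e by omega]
      exact hfind x₀ hx₀
    have ha : ∀ t ∈ (P : Subgroup G), t ^ p ^ (e' + 1) = 1 → t ∈ A := by
      intro t ht ht1
      have hc : Commute t x₀ := hab P t ht x₀ hx₀
      obtain ⟨A', hA', hzA'⟩ := h𝓐.covers (t * x₀)
      have h1 : (t * x₀) ^ p ^ (e' + 1) = v := by
        rw [hc.mul_pow, ht1, one_mul]
      have h2 : v ∈ A' := by
        rw [← h1]
        exact pow_mem hzA' _
      have h3 := h𝓐.unique_member hZ hab hx₀1 hvp hA' hA h2 hvA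
      rw [h3] at hzA'
      have h4 : t = t * x₀ * x₀⁻¹ := by group
      rw [h4]
      exact A.mul_mem hzA' (A.inv_mem hx₀A)
    refine ⟨A, hA, ?_⟩
    intro t ht
    have h1 : (t ^ p) ^ p ^ (e' + 1) = 1 := by
      rw [← pow_mul, ← pow_succ', show e' + 1 + 1 = e by omega]
      exact hfind t ht
    have h2 := ha (t ^ p) (pow_mem ht p) h1
    by_cases ht1 : t ^ p = 1
    · apply ha t ht
      rw [pow_succ', pow_mul, ht1, one_pow]
    · obtain ⟨A', hA', htA'⟩ := h𝓐.covers t
      have h3 : t ^ p ∈ A' := pow_mem htA' p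
      have h4 := h𝓐.unique_member hZ hab ht1 (pelt_of_mem_sylow P (pow_mem ht p)) hA' hA h3 h2
      rw [← h4]
      exact htA'

omit h𝓐 in
/-- Powers: a factor of a product of commuting elements of coprime orders is a power. -/
theorem mem_zpowers_mul_of_coprime {u w : G} (hc : Commute u w)
    (hcop : (orderOf u).Coprime (orderOf w)) : u ∈ Subgroup.zpowers (u * w) := by
  obtain ⟨k, hk⟩ : ∃ k, k ≡ 1 [MOD orderOf u] ∧ k ≡ 0 [MOD orderOf w] :=
    ⟨_, (Nat.chineseRemainder hcop 1 0).2⟩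
  have h1 : u ^ k = u := by
    have := pow_eq_pow_iff_modEq.mpr hk.1
    rwa [pow_one] at this
  have h2 : w ^ k = 1 := by
    have := pow_eq_pow_iff_modEq.mpr hk.2
    rwa [pow_zero] at this
  have h3 : (u * w) ^ k = u := by
    rw [hc.mul_pow, h1, h2, mul_one]
  have h4 : (u * w) ^ k ∈ Subgroup.zpowers (u * w) := pow_mem (Subgroup.mem_zpowers _) k
  rwa [h3] at h4

omit h𝓐 in
/-- A `p`-element centralizing a Sylow `p`-subgroup lies in it. -/
theorem mem_sylow_of_pelt_of_centralizes (P : Sylow p G) {s : G} (hs : ∃ k, s ^ p ^ k = 1)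
    (hc : ∀ x ∈ (P : Subgroup G), x * s = s * x) : s ∈ (P : Subgroup G) := by
  have hT : IsPGroup p (Subgroup.zpowers s) := by
    obtain ⟨k, hk⟩ := hs
    obtain ⟨i, _, hi⟩ := (Nat.dvd_prime_pow hp.out).mp (orderOf_dvd_of_pow_eq_one hk)
    rw [IsPGroup.iff_card, Nat.card_zpowers]
    exact ⟨i, hi⟩
  have hle : (P : Subgroup G) ≤ Subgroup.normalizer ((Subgroup.zpowers s : Subgroup G) : Set G) := by
    intro x hx
    apply mem_normalizer_of_conj_le
    intro h hh
    obtain ⟨i, rfl⟩ := Subgroup.mem_zpowers_iff.mp hh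
    have hx' : Commute x s := hc x hx
    have h2 : x * s ^ i * x⁻¹ = s ^ i := by
      rw [(hx'.zpow_right i).eq]
      group
    rw [h2]
    exact hh
  exact le_of_pgroup_normalized P hT hle (Subgroup.mem_zpowers s)

/-- A member containing `P` is the centralizer of `P`. -/
theorem IsNilMinCover.member_eq_centralizer (hZ : Subgroup.center G = ⊥)
    (hab : ∀ Q : Sylow p G, ∀ a ∈ Q, ∀ b ∈ Q, a * b = b * a) (P : Sylow p G)
    (hP1 : (P : Subgroup G) ≠ ⊥) {A : Subgroup G} (hA : A ∈ 𝓐) (hPA : (P : Subgroup G) ≤ A) :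
    Subgroup.centralizer ((P : Subgroup G) : Set G) = A := by
  classical
  apply le_antisymm
  · intro y hy
    rw [Subgroup.mem_centralizer_iff] at hy
    obtain ⟨s, t, hs, ht, hx, hst, ⟨k, hk⟩, htc⟩ := exists_primary_decomp p hp.out y
    have hcomm : ∀ z ∈ Subgroup.zpowers y, ∀ x ∈ (P : Subgroup G), x * z = z * x := by
      intro z hz x hx
      obtain ⟨i, rfl⟩ := Subgroup.mem_zpowers_iff.mp hz
      exact ((show Commute x y from hy x hx).zpow_right i).eq
    have hsP : s ∈ (P : Subgroup G) := by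
      apply mem_sylow_of_pelt_of_centralizes P ⟨k, by rw [← hk]; exact pow_orderOf_eq_one s⟩
      exact hcomm s hs
    obtain ⟨v, hv, hv1⟩ := (Subgroup.bot_or_exists_ne_one _).resolve_left hP1
    have hvt : Commute v t := hcomm t ht v hv
    have hvp := pelt_of_mem_sylow P hv
    have hcop : (orderOf v).Coprime (orderOf t) := by
      obtain ⟨k₀, hk₀⟩ := hvp
      obtain ⟨i, _, hi⟩ := (Nat.dvd_prime_pow hp.out).mp (orderOf_dvd_of_pow_eq_one hk₀)
      rw [hi]
      exact (Nat.Coprime.pow_right _ htc).symm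
    obtain ⟨A', hA', hzA'⟩ := h𝓐.covers (v * t)
    have h1 : v ∈ A' := (Subgroup.zpowers_le.mpr hzA') (mem_zpowers_mul_of_coprime hvt hcop)
    have h2 : t ∈ A' := by
      have h3 : t = v⁻¹ * (v * t) := by group
      rw [h3]
      exact A'.mul_mem (A'.inv_mem h1) hzA'
    have h3 := h𝓐.unique_member hZ hab hv1 hvp hA' hA h1 (hPA hv)
    rw [h3] at h2
    rw [hx]
    exact A.mul_mem (hPA hsP) h2
  · intro a ha
    rw [Subgroup.mem_centralizer_iff]
    intro x hx
    exact h𝓐.commute_of_pelt hab hA (hPA hx) (pelt_of_mem_sylow P hx) ha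

omit h𝓐 in
/-- A `p`-element normalizing a Sylow `p`-subgroup lies in it. -/
theorem mem_sylow_of_pelt_of_normalizes (P : Sylow p G) {s : G} (hs : ∃ k, s ^ p ^ k = 1)
    (hc : s ∈ Subgroup.normalizer ((P : Subgroup G) : Set G)) : s ∈ (P : Subgroup G) := by
  have hT : IsPGroup p (Subgroup.zpowers s) := by
    obtain ⟨k, hk⟩ := hs
    obtain ⟨i, _, hi⟩ := (Nat.dvd_prime_pow hp.out).mp (orderOf_dvd_of_pow_eq_one hk)
    rw [IsPGroup.iff_card, Nat.card_zpowers]
    exact ⟨i, hi⟩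
  have h1 : IsPGroup p ((Subgroup.zpowers s ⊔ (P : Subgroup G) : Subgroup G)) :=
    hT.to_sup_of_normal_right' P.isPGroup' (Subgroup.zpowers_le.mpr hc)
  have h2 := P.3 h1 le_sup_right
  rw [← h2]
  exact (le_sup_left : Subgroup.zpowers s ≤ _) (Subgroup.mem_zpowers s)

/-- The main structure theorem. -/
theorem IsNilMinCover.main (hZ : Subgroup.center G = ⊥)
    (hab : ∀ Q : Sylow p G, ∀ a ∈ Q, ∀ b ∈ Q, a * b = b * a) (P : Sylow p G)
    (hP1 : (P : Subgroup G) ≠ ⊥)
    (HP : (∃ x ∈ (P : Subgroup G), (P : Subgroup G) ≤ Subgroup.zpowers x) ∨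
      (∃ x ∈ (P : Subgroup G), x ^ p ≠ 1))
    (hnn : ¬ (P : Subgroup G).Normal) :
    ∃ A ∈ 𝓐, (P : Subgroup G) ≤ A ∧ Subgroup.centralizer ((P : Subgroup G) : Set G) = A ∧
      IsCoatom (Subgroup.normalizer ((P : Subgroup G) : Set G)) ∧
      (∀ M : Subgroup G, IsCoatom M → Subgroup.centralizer ((P : Subgroup G) : Set G) ≤ M →
        M = Subgroup.normalizer ((P : Subgroup G) : Set G)) ∧
      (∀ g : G, g ∉ Subgroup.normalizer ((P : Subgroup G) : Set G) →
        ¬ p ∣ Nat.card ↥(Subgroup.normalizer ((P : Subgroup G) : Set G) ⊓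
          (Subgroup.normalizer ((P : Subgroup G) : Set G)).map (MulAut.conj g).toMonoidHom)) := by
  classical
  obtain ⟨A, hA, hPA⟩ := h𝓐.exists_member_ge hZ hab P hP1 HP
  have hCA := h𝓐.member_eq_centralizer hZ hab P hP1 hA hPA
  have hpconj : ∀ (g x : G), (∃ k, x ^ p ^ k = 1) → ∃ k, (g * x * g⁻¹) ^ p ^ k = 1 := by
    rintro g x ⟨k, hk⟩
    refine ⟨k, ?_⟩
    rw [conj_pow, hk]
    group
  have hAg : ∀ g : G, A.map (MulAut.conj g).toMonoidHom ∈ 𝓐 := by
    intro g
    let Pg : Sylow p G := g • P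
    have hmemPg : ∀ x, x ∈ (Pg : Subgroup G) ↔ g⁻¹ * x * g ∈ (P : Subgroup G) :=
      fun x => mem_conj_smul_iff
    have hPg1 : (Pg : Subgroup G) ≠ ⊥ := by
      intro h
      apply hP1
      rw [eq_bot_iff]
      intro x hx
      have h1 : g * x * g⁻¹ ∈ (Pg : Subgroup G) := by
        rw [hmemPg]
        have h2 : g⁻¹ * (g * x * g⁻¹) * g = x := by group
        rw [h2]
        exact hx
      rw [h, Subgroup.mem_bot] at h1
      have h3 : x = g⁻¹ * (g * x * g⁻¹) * g := by group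
      rw [Subgroup.mem_bot, h3, h1]
      group
    have HPg : (∃ x ∈ (Pg : Subgroup G), (Pg : Subgroup G) ≤ Subgroup.zpowers x) ∨
        (∃ x ∈ (Pg : Subgroup G), x ^ p ≠ 1) := by
      have hmemg : ∀ x ∈ (P : Subgroup G), g * x * g⁻¹ ∈ (Pg : Subgroup G) := by
        intro x hx
        rw [hmemPg]
        have h2 : g⁻¹ * (g * x * g⁻¹) * g = x := by group
        rw [h2]
        exact hx
      rcases HP with ⟨x, hx, hxz⟩ | ⟨x, hx, hxp⟩
      · left
        refine ⟨g * x * g⁻¹, hmemg x hx, ?_⟩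
        intro y hy
        have h1 := hxz ((hmemPg y).mp hy)
        obtain ⟨i, hi⟩ := Subgroup.mem_zpowers_iff.mp h1
        refine Subgroup.mem_zpowers_iff.mpr ⟨i, ?_⟩
        rw [conj_zpow, hi]
        group
      · right
        refine ⟨g * x * g⁻¹, hmemg x hx, ?_⟩
        rw [conj_pow]
        intro h
        apply hxp
        have h3 : x ^ p = g⁻¹ * (g * x ^ p * g⁻¹) * g := by group
        rw [h3, h]
        group
    obtain ⟨B, hB, hPgB⟩ := h𝓐.exists_member_ge hZ hab Pg hPg1 HPg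
    have hCB := h𝓐.member_eq_centralizer hZ hab Pg hPg1 hB hPgB
    have hAB : A.map (MulAut.conj g).toMonoidHom = B := by
      ext y
      rw [mem_map_conj_iff, ← hCA, ← hCB, Subgroup.mem_centralizer_iff, Subgroup.mem_centralizer_iff]
      constructor
      · intro h x' hx'
        have h1 := h (g⁻¹ * x' * g) ((hmemPg x').mp hx')
        have h2 : g * (g⁻¹ * x' * g * (g⁻¹ * y * g)) * g⁻¹ = x' * y := by group
        have h3 : g * (g⁻¹ * y * g * (g⁻¹ * x' * g)) * g⁻¹ = y * x' := by group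
        rw [← h2, h1, h3]
      · intro h x hx
        have h1 := h (g * x * g⁻¹) (by
          show g * x * g⁻¹ ∈ (Pg : Subgroup G)
          rw [hmemPg]
          have h2 : g⁻¹ * (g * x * g⁻¹) * g = x := by group
          rw [h2]
          exact hx)
        have h2 : g⁻¹ * (g * x * g⁻¹ * y) * g = x * (g⁻¹ * y * g) := by group
        have h3 : g⁻¹ * (y * (g * x * g⁻¹)) * g = g⁻¹ * y * g * x := by group
        rw [← h2, h1, h3]
    rw [hAB]
    exact hB
  have hNA : ∀ m : G, A.map (MulAut.conj m).toMonoidHom = A →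
      m ∈ Subgroup.normalizer ((P : Subgroup G) : Set G) := by
    intro m hm
    apply mem_normalizer_of_conj_le
    intro x hx
    have h1 : m * x * m⁻¹ ∈ A := by
      rw [← hm]
      exact ⟨x, hPA hx, rfl⟩
    rw [← hCA, Subgroup.mem_centralizer_iff] at h1
    exact mem_sylow_of_pelt_of_centralizes P (hpconj m x (pelt_of_mem_sylow P hx)) h1
  have hN : ∀ M : Subgroup G, M ≠ ⊤ → Subgroup.centralizer ((P : Subgroup G) : Set G) ≤ M →
      M ≤ Subgroup.normalizer ((P : Subgroup G) : Set G) := by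
    intro M hM hCM m hm
    have hAM : A ≤ M := by
      rw [← hCA]
      exact hCM
    have hmapM : A.map (MulAut.conj m).toMonoidHom ≤ M := by
      rintro _ ⟨a, ha, rfl⟩
      exact M.mul_mem (M.mul_mem hm (hAM ha)) (M.inv_mem hm)
    exact hNA m (h𝓐.unique_le hM (hAg m) hA hmapM hAM)
  have hNtop : Subgroup.normalizer ((P : Subgroup G) : Set G) ≠ ⊤ := by
    intro h
    exact hnn (Subgroup.normalizer_eq_top_iff.mp h)
  have hCN : Subgroup.centralizer ((P : Subgroup G) : Set G) ≤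
      Subgroup.normalizer ((P : Subgroup G) : Set G) := by
    intro y hy
    rw [Subgroup.mem_centralizer_iff] at hy
    apply mem_normalizer_of_conj_le
    intro x hx
    have h1 : y * x * y⁻¹ = x := by
      rw [← hy x hx]
      group
    rw [h1]
    exact hx
  have hcoat : IsCoatom (Subgroup.normalizer ((P : Subgroup G) : Set G)) := by
    obtain ⟨M, hMc, hNM⟩ := (eq_top_or_exists_le_coatom
      (Subgroup.normalizer ((P : Subgroup G) : Set G))).resolve_left hNtop
    have h1 := hN M hMc.1 (hCN.trans hNM)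
    rwa [le_antisymm hNM h1]
  refine ⟨A, hA, hPA, hCA, hcoat, ?_, ?_⟩
  · intro M hM hCM
    have h1 := hN M hM.1 hCM
    rcases eq_or_lt_of_le h1 with h2 | h2
    · exact h2
    · exact absurd (hM.2 _ h2) hcoat.1
  · intro g hg hdvd
    obtain ⟨q, hq⟩ := exists_prime_orderOf_dvd_card' p hdvd
    have hq' : orderOf (q : G) = p := by
      rw [Subgroup.orderOf_coe]
      exact hq
    have hqpe : ∃ k, (q : G) ^ p ^ k = 1 :=
      ⟨1, orderOf_dvd_iff_pow_eq_one.mp (by rw [pow_one, hq'])⟩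
    have hq1 : (q : G) ≠ 1 := by
      intro h
      rw [h, orderOf_one] at hq'
      exact hp.out.one_lt.ne hq'
    have hqP : (q : G) ∈ (P : Subgroup G) := mem_sylow_of_pelt_of_normalizes P hqpe q.2.1
    have hqm := mem_map_conj_iff.mp q.2.2
    have hqP2 : g⁻¹ * (q : G) * g ∈ (P : Subgroup G) := by
      refine mem_sylow_of_pelt_of_normalizes P ?_ hqm
      have h1 := hpconj g⁻¹ (q : G) hqpe
      simpa using h1
    have h2 : (q : G) ∈ A.map (MulAut.conj g).toMonoidHom := by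
      rw [mem_map_conj_iff]
      exact hPA hqP2
    have h3 := h𝓐.unique_member hZ hab hq1 hqpe (hAg g) hA h2 (hPA hqP)
    exact hg (hNA g h3)

end CfsgLib.FGS
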