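import Cfsg.Agent.Lib.FGS.MaxCent
import Cfsg.Agent.Lib.FGS.Syl
import Cfsg.Agent.Lib.Solv.CoprimeSylow
import Cfsg.Agent.Lib.PLocal.CardSup
import Cfsg.Agent.Lib.H3.ClassSize

set_option autoImplicit false
set_option linter.unusedSectionVars false
set_option linter.style.haveILetI false
set_option linter.unusedVariables false

open Subgroup Cfsg

namespace CfsgLib.FGS.MaxCent

universe u

theorem coatom_map_quot {G : Type u} [Group G] {M T : Subgroup G} [T.Normal] (hM : IsCoatom M) (hT : T ≤ M) :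
    IsCoatom (M.map (QuotientGroup.mk' T)) := by
  have hπ : Function.Surjective (QuotientGroup.mk' T) := QuotientGroup.mk'_surjective T
  have hker : (QuotientGroup.mk' T).ker = T := QuotientGroup.ker_mk' T
  constructor
  · intro htop
    apply hM.1
    have h2 := Subgroup.comap_map_eq (QuotientGroup.mk' T) M
    rw [htop, Subgroup.comap_top, hker, sup_eq_left.2 hT] at h2
    exact h2.symm
  · intro U hU
    have hle : M ≤ U.comap (QuotientGroup.mk' T) := by
      intro m hm
      exact hU.le ⟨m, hm, rfl⟩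
    rcases hM.le_iff.1 hle with h1 | h1
    · have h2 := Subgroup.map_comap_eq_self_of_surjective hπ U
      rw [h1, Subgroup.map_top_of_surjective _ hπ] at h2
      exact h2.symm
    · exfalso
      have h2 := Subgroup.map_comap_eq_self_of_surjective hπ U
      rw [h1] at h2
      exact hU.ne h2

theorem solvable_of_normal_quot {G : Type u} [Group G] {D : Subgroup G} [D.Normal] (h1 : Group.IsSolvable D)
    (h2 : Group.IsSolvable (G ⧸ D)) : Group.IsSolvable G :=
  Group.isSolvable_of_ker_le_range D.subtype (QuotientGroup.mk' D) (by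
    rw [QuotientGroup.ker_mk', Subgroup.range_subtype])

/-- Thompson: a finite group with a nilpotent maximal subgroup of odd order is solvable. -/
theorem solvable_of_nil_max_aux (n : ℕ) : ∀ (G : Type u) [Group G] [Finite G], Nat.card G = n →
    ∀ M : Subgroup G, IsCoatom M → Group.IsNilpotent M → Odd (Nat.card M) → Group.IsSolvable G := by
  induction n using Nat.strong_induction_on with
  | _ n ih =>
  intro G _ _ hcard M hM hnil hodd
  classical
  haveI : Group.IsNilpotent M := hnil
  by_cases hcore : ∃ D : Subgroup G, D.Normal ∧ D ≤ M ∧ D ≠ ⊥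
  · obtain ⟨D, hDn, hDM, hDb⟩ := hcore
    haveI := hDn
    have hlt : Nat.card (G ⧸ D) < n := by
      rw [← hcard]
      have h1 := Subgroup.card_mul_index D
      have h2 : 1 < Nat.card D := by
        have : Nontrivial D := (Subgroup.nontrivial_iff_ne_bot D).2 hDb
        exact Finite.one_lt_card
      have h3 : Nat.card (G ⧸ D) = D.index := rfl
      rw [h3, ← h1]
      have h4 : 0 < D.index := Nat.pos_of_ne_zero Subgroup.index_ne_zero_of_finite
      nlinarith
    have hQ : Group.IsSolvable (G ⧸ D) := by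
      refine ih _ hlt (G ⧸ D) rfl (M.map (QuotientGroup.mk' D)) (coatom_map_quot hM hDM) ?_ ?_
      · exact Group.nilpotent_of_surjective ((QuotientGroup.mk' D).subgroupMap M)
          ((QuotientGroup.mk' D).subgroupMap_surjective M)
      · exact Odd.of_dvd_nat hodd (Subgroup.card_map_dvd _ _)
    have hDs : Group.IsSolvable D :=
      Group.isSolvable_of_isSolvable_injective (f := Subgroup.inclusion hDM) (Subgroup.inclusion_injective hDM)
    exact solvable_of_normal_quot hDs hQ
  have hcore' : ∀ D : Subgroup G, D.Normal → D ≤ M → D = ⊥ := by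
    intro D h1 h2
    by_contra h3
    exact hcore ⟨D, h1, h2, h3⟩
  have hN : ∀ X : Subgroup G, X ≤ M → X ≠ ⊥ → M ≤ normalizer (X : Set G) → normalizer (X : Set G) = M := by
    intro X hXM hXb hMX
    rcases hM.le_iff.1 hMX with h | h
    · exact absurd (hcore' X (normalizer_eq_top_iff.1 h) hXM) hXb
    · exact h
  have hstep : ∀ (p : ℕ) [Fact p.Prime], p ∣ Nat.card M → HasNormalPComplement p G ∧ ¬ p ∣ M.index := by
    intro p hpf hpd
    have hpp : p.Prime := hpf.out
    have hp2 : p ≠ 2 := by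
      rintro rfl
      exact (Nat.not_even_iff_odd.2 hodd) (even_iff_two_dvd.2 hpd)
    let P₀ : Sylow p M := default
    have hP₀n : ((P₀ : Subgroup M)).Normal :=
      ((Group.isNilpotent_of_finite_tfae (G := M)).out 0 3 rfl rfl |>.mp hnil) p hpf P₀
    have hUM : (P₀ : Subgroup M).map M.subtype ≤ M := Subgroup.map_subtype_le _
    have hUb : (P₀ : Subgroup M).map M.subtype ≠ ⊥ := by
      intro h
      exact (P₀.ne_bot_of_dvd_card hpd) ((Subgroup.map_eq_bot_iff_of_injective _ M.subtype_injective).1 h)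
    have hUp : IsPGroup p ((P₀ : Subgroup M).map M.subtype) := P₀.isPGroup'.map _
    have hMU : M ≤ normalizer (((P₀ : Subgroup M).map M.subtype : Subgroup G) : Set G) := by
      intro m hm
      apply CfsgLib.PLocal.mem_normalizer_of_conj_le
      rintro _ ⟨s, hs, rfl⟩
      exact ⟨_, hP₀n.conj_mem s hs ⟨m, hm⟩, rfl⟩
    have hNU := hN _ hUM hUb hMU
    obtain ⟨S, hS⟩ := hUp.exists_le_sylow
    have hUS : (P₀ : Subgroup M).map M.subtype = S := by
      by_contra hne
      have hlt := lt_of_le_of_ne hS hne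
      obtain ⟨x, hxS, hxU, hxN⟩ := CfsgLib.FGS.exists_mem_normalizer_of_lt S.isPGroup' hlt
      have hxM : x ∈ M := by rw [← hNU]; exact hxN
      apply hxU
      refine ⟨⟨x, hxM⟩, ?_, rfl⟩
      have hz : IsPGroup p (zpowers (⟨x, hxM⟩ : M)) := by
        obtain ⟨k, hk⟩ := (IsPGroup.iff_orderOf.1 S.isPGroup') ⟨x, hxS⟩
        have h1 : orderOf (⟨x, hxM⟩ : M) = p ^ k := by
          rw [Subgroup.orderOf_mk]
          rw [Subgroup.orderOf_mk] at hk
          exact hk
        apply IsPGroup.of_card (n := k)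
        rw [Nat.card_zpowers, h1]
      haveI := hP₀n
      have hsup := hz.to_sup_of_normal_right P₀.isPGroup'
      have heq := P₀.is_maximal' hsup le_sup_right
      have hmem : (⟨x, hxM⟩ : M) ∈ zpowers (⟨x, hxM⟩ : M) ⊔ (P₀ : Subgroup M) :=
        (le_sup_left : zpowers (⟨x, hxM⟩ : M) ≤ zpowers (⟨x, hxM⟩ : M) ⊔ (P₀ : Subgroup M)) (mem_zpowers _)
      rw [heq] at hmem
      exact hmem
    have hSM : (S : Subgroup G) ≤ M := by rw [← hUS]; exact hUM
    have hWb : centerThompsonAOf (S : Subgroup G) ≠ ⊥ :=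
      CfsgLib.OOL.F_ne_bot S.isPGroup' (by rw [← hUS]; exact hUb)
    have hWS : centerThompsonAOf (S : Subgroup G) ≤ S := (CfsgLib.OOL.abF (p := p)).le _
    have hMS : M ≤ normalizer ((S : Subgroup G) : Set G) := by rw [← hUS]; exact hMU
    have hNW : M ≤ normalizer (centerThompsonAOf (S : Subgroup G) : Set G) :=
      hMS.trans ((CfsgLib.OOL.abF (p := p)).norm _)
    have hNWe := hN _ (hWS.trans hSM) hWb hNW
    constructor
    · apply CfsgLib.OOL.glauberman_ab hp2 S
      rw [hNWe]
      exact CfsgLib.OOL.np_of_isNilpotent hnil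
    · intro hd
      exact S.not_dvd_index (hd.trans (Subgroup.index_dvd_of_le hSM))
  have hK : ∀ p : ℕ, ∃ K : Subgroup G, p ∈ (Nat.card M).primeFactors →
      K.Normal ∧ (Nat.card K).Coprime p ∧ ∃ k, K.index = p ^ k := by
    intro p
    by_cases hp : p ∈ (Nat.card M).primeFactors
    · have hpp := Nat.prime_of_mem_primeFactors hp
      haveI : Fact p.Prime := ⟨hpp⟩
      obtain ⟨K, h1, h2, h3⟩ := CfsgLib.Trans.hasNormalPComplement_iff.1 (hstep p (Nat.dvd_of_mem_primeFactors hp)).1
      exact ⟨K, fun _ => ⟨h1, h2, h3⟩⟩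
    · exact ⟨⊥, fun h => absurd h hp⟩
  choose K hK using hK
  obtain ⟨L, hLmem⟩ : ∃ L : Subgroup G, ∀ g, g ∈ L ↔ ∀ p ∈ (Nat.card M).primeFactors, g ∈ K p :=
    ⟨⨅ p ∈ (Nat.card M).primeFactors, K p, fun g => by simp [mem_iInf]⟩
  have hLn : L.Normal := ⟨fun g hg x => (hLmem _).2 (fun p hp =>
    (hK p hp).1.conj_mem _ ((hLmem g).1 hg p hp) x)⟩
  haveI := hLn
  have hcop : (Nat.card L).Coprime (Nat.card M) := by
    by_contra hnc
    obtain ⟨q, hq, h1, h2⟩ := Nat.Prime.not_coprime_iff_dvd.1 hnc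
    have hqm : q ∈ (Nat.card M).primeFactors := Nat.mem_primeFactors.2 ⟨hq, h2, Nat.card_pos.ne'⟩
    have hLK : L ≤ K q := fun g hg => (hLmem g).1 hg q hqm
    have h3 : q ∣ Nat.card (K q) := h1.trans (Subgroup.card_dvd_of_le hLK)
    have h4 := (hK q hqm).2.1
    exact hq.one_lt.ne' (Nat.eq_one_of_dvd_coprimes h4.symm (dvd_refl q) h3)
  have hLM : L ⊓ M = ⊥ := (Subgroup.disjoint_of_coprime_natCard hcop).eq_bot
  have hLb : L ≠ ⊥ := by
    have hidx : M.index ≠ 1 := fun h => hM.1 (Subgroup.index_eq_one.1 h)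
    obtain ⟨q, hq, hqd⟩ := Nat.exists_prime_and_dvd hidx
    haveI : Fact q.Prime := ⟨hq⟩
    have hqm : q ∉ (Nat.card M).primeFactors := fun h =>
      (hstep q (Nat.dvd_of_mem_primeFactors h)).2 hqd
    have hqG : q ∣ Nat.card G := hqd.trans (Subgroup.index_dvd_card M)
    obtain ⟨x, hx⟩ := exists_prime_orderOf_dvd_card' q hqG
    intro hbot
    have hxL : x ∈ L := by
      rw [hLmem]
      intro p hp
      obtain ⟨hn, -, k, hk⟩ := hK p hp
      haveI := hn
      have hpp := Nat.prime_of_mem_primeFactors hp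
      have hne : q ≠ p := fun h => hqm (h ▸ hp)
      have h1 : (x : G ⧸ K p) ^ q = 1 := by
        rw [← QuotientGroup.mk_pow, ← hx, pow_orderOf_eq_one]; rfl
      have h2 : (x : G ⧸ K p) ^ (p ^ k) = 1 := by
        rw [← hk]
        exact pow_card_eq_one'
      have h3 : orderOf (x : G ⧸ K p) ∣ Nat.gcd q (p ^ k) :=
        Nat.dvd_gcd (orderOf_dvd_of_pow_eq_one h1) (orderOf_dvd_of_pow_eq_one h2)
      have h4 : Nat.gcd q (p ^ k) = 1 :=
        Nat.Coprime.pow_right _ ((Nat.coprime_primes hq hpp).2 hne)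
      rw [h4, Nat.dvd_one, orderOf_eq_one_iff] at h3
      exact (QuotientGroup.eq_one_iff _).1 h3
    rw [hbot, Subgroup.mem_bot] at hxL
    rw [hxL, orderOf_one] at hx
    exact hq.one_lt.ne hx
  have hLtop : M ⊔ L = ⊤ := by
    apply hM.2
    refine lt_of_le_of_ne le_sup_left ?_
    intro h1
    exact hLb (hcore' L hLn (by rw [h1]; exact le_sup_right))
  have hcardL : Nat.card M * Nat.card L = Nat.card G := by
    have h1 := CfsgLib.PLocal.card_sup_mul_card_inf M L (by rw [normalizer_eq_top L]; exact le_top)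
    rw [hLtop, inf_comm, hLM, Subgroup.card_top, Subgroup.card_bot, mul_one] at h1
    exact h1.symm
  have hL1 : Nat.card L ≠ 1 := by
    intro h
    exact hLb (Subgroup.card_eq_one.1 h)
  obtain ⟨r, hr, hrd⟩ := Nat.exists_prime_and_dvd hL1
  haveI : Fact r.Prime := ⟨hr⟩
  obtain ⟨R, ⟨hRL, hRp, hRi⟩, hRN⟩ := CfsgLib.Solv.exists_invariant_sylow (p := r) M L
    (by rw [normalizer_eq_top L]; exact le_top) hcop.symm (Or.inl inferInstance)
  have hRb : R ≠ ⊥ := by
    rintro rfl
    apply hRi
    rw [Subgroup.relIndex_bot_left]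
    exact hrd
  have hRM : R ⊓ M = ⊥ := by
    rw [eq_bot_iff, ← hLM]
    exact inf_le_inf_right _ hRL
  have hRtop : M ⊔ R = ⊤ := by
    apply hM.2
    refine lt_of_le_of_ne le_sup_left ?_
    intro h1
    have h2 : R ≤ M := by rw [h1]; exact le_sup_right
    apply hRb
    rw [eq_bot_iff, ← hRM]
    exact le_inf le_rfl h2
  have hcardR : Nat.card M * Nat.card R = Nat.card G := by
    have h1 := CfsgLib.PLocal.card_sup_mul_card_inf M R hRN
    rw [hRtop, inf_comm, hRM, Subgroup.card_top, Subgroup.card_bot, mul_one] at h1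
    exact h1.symm
  have hcc : Nat.card R = Nat.card L := by
    have h1 : Nat.card M * Nat.card R = Nat.card M * Nat.card L := by rw [hcardL, hcardR]
    exact Nat.eq_of_mul_eq_mul_left Nat.card_pos h1
  have hRLe : R = L := Subgroup.eq_of_le_of_card_ge hRL hcc.ge
  have hLp : IsPGroup r L := hRLe ▸ hRp
  haveI : Group.IsNilpotent L := hLp.isNilpotent
  have hLs : Group.IsSolvable L := inferInstance
  have hQs : Group.IsSolvable (G ⧸ L) := by
    let f : M →* G ⧸ L := (QuotientGroup.mk' L).comp M.subtype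
    have hf : Function.Surjective f := by
      intro y
      obtain ⟨g, rfl⟩ := QuotientGroup.mk'_surjective L y
      have hg : g ∈ M ⊔ L := by rw [hLtop]; trivial
      obtain ⟨m, hm, t, ht, rfl⟩ := (mem_sup_of_normal_right).1 hg
      refine ⟨⟨m, hm⟩, ?_⟩
      simpa [f] using ht
    exact Group.isSolvable_of_surjective (f := f) hf
  exact solvable_of_normal_quot hLs hQs

theorem solvable_of_nil_max {G : Type u} [Group G] [Finite G] (M : Subgroup G) (hM : IsCoatom M)
    (hnil : Group.IsNilpotent M) (hodd : Odd (Nat.card M)) : Group.IsSolvable G :=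
  solvable_of_nil_max_aux _ G rfl M hM hnil hodd

/-- Tail of the argument: a maximal subgroup with a normal coprime supplement. -/
theorem solvable_of_coatom_complement {G : Type u} [Group G] [Finite G] (M L : Subgroup G) (hM : IsCoatom M)
    [hLn : L.Normal] (hcop : (Nat.card L).Coprime (Nat.card M)) (hLb : L ≠ ⊥) (hMs : Group.IsSolvable M) :
    Group.IsSolvable G := by
  have hLM : L ⊓ M = ⊥ := (Subgroup.disjoint_of_coprime_natCard hcop).eq_bot
  have hLtop : M ⊔ L = ⊤ := by
    apply hM.2
    refine lt_of_le_of_ne le_sup_left ?_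
    intro h1
    have h2 : L ≤ M := by rw [h1]; exact le_sup_right
    apply hLb
    rw [eq_bot_iff, ← hLM]
    exact le_inf le_rfl h2
  have hcardL : Nat.card M * Nat.card L = Nat.card G := by
    have h1 := CfsgLib.PLocal.card_sup_mul_card_inf M L (by rw [normalizer_eq_top L]; exact le_top)
    rw [hLtop, inf_comm, hLM, Subgroup.card_top, Subgroup.card_bot, mul_one] at h1
    exact h1.symm
  have hL1 : Nat.card L ≠ 1 := by
    intro h
    exact hLb (Subgroup.card_eq_one.1 h)
  obtain ⟨r, hr, hrd⟩ := Nat.exists_prime_and_dvd hL1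
  haveI : Fact r.Prime := ⟨hr⟩
  obtain ⟨R, ⟨hRL, hRp, hRi⟩, hRN⟩ := CfsgLib.Solv.exists_invariant_sylow (p := r) M L
    (by rw [normalizer_eq_top L]; exact le_top) hcop.symm (Or.inl hMs)
  have hRb : R ≠ ⊥ := by
    rintro rfl
    apply hRi
    rw [Subgroup.relIndex_bot_left]
    exact hrd
  have hRM : R ⊓ M = ⊥ := by
    rw [eq_bot_iff, ← hLM]
    exact inf_le_inf_right _ hRL
  have hRtop : M ⊔ R = ⊤ := by
    apply hM.2
    refine lt_of_le_of_ne le_sup_left ?_
    intro h1
    have h2 : R ≤ M := by rw [h1]; exact le_sup_right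
    apply hRb
    rw [eq_bot_iff, ← hRM]
    exact le_inf le_rfl h2
  have hcardR : Nat.card M * Nat.card R = Nat.card G := by
    have h1 := CfsgLib.PLocal.card_sup_mul_card_inf M R hRN
    rw [hRtop, inf_comm, hRM, Subgroup.card_top, Subgroup.card_bot, mul_one] at h1
    exact h1.symm
  have hcc : Nat.card R = Nat.card L := by
    have h1 : Nat.card M * Nat.card R = Nat.card M * Nat.card L := by rw [hcardL, hcardR]
    exact Nat.eq_of_mul_eq_mul_left Nat.card_pos h1
  have hRLe : R = L := Subgroup.eq_of_le_of_card_ge hRL hcc.ge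
  have hLp : IsPGroup r L := hRLe ▸ hRp
  haveI : Group.IsNilpotent L := hLp.isNilpotent
  have hLs : Group.IsSolvable L := inferInstance
  have hQs : Group.IsSolvable (G ⧸ L) := by
    let f : M →* G ⧸ L := (QuotientGroup.mk' L).comp M.subtype
    have hf : Function.Surjective f := by
      intro y
      obtain ⟨g, rfl⟩ := QuotientGroup.mk'_surjective L y
      have hg : g ∈ M ⊔ L := by rw [hLtop]; trivial
      obtain ⟨m, hm, t, ht, rfl⟩ := (mem_sup_of_normal_right).1 hg
      refine ⟨⟨m, hm⟩, ?_⟩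
      simpa [f] using ht
    exact Group.isSolvable_of_surjective (f := f) hf
  exact solvable_of_normal_quot hLs hQs

theorem prime_pow_dvd_eq {n p q : ℕ} (h : IsPrimePow n) (hp : p.Prime) (hq : q.Prime) (hpd : p ∣ n) (hqd : q ∣ n) :
    p = q := by
  obtain ⟨r, k, hr, hk, rfl⟩ := h
  have hr' : r.Prime := hr.nat_prime
  have h1 := (Nat.prime_dvd_prime_iff_eq hp hr').1 (hp.dvd_of_dvd_pow hpd)
  have h2 := (Nat.prime_dvd_prime_iff_eq hq hr').1 (hq.dvd_of_dvd_pow hqd)
  rw [h1, h2]

section PP
variable {G : Type u} [Group G] [Finite G] {N : Subgroup G} [hNn : N.Normal]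

theorem no_coprime_cent (h : ∀ x : G, x ∉ N → IsPrimePow (orderOf x) ∧ IsCoatom (Cc x)) {p k : ℕ} (hp : p.Prime)
    {x w : G} (hx : x ∉ N) (hord : orderOf x = p ^ k) (hwx : w * x = x * w) (hw : (orderOf w).Coprime p)
    (hw1 : w ≠ 1) : False := by
  have hk : k ≠ 0 := by
    rintro rfl
    rw [pow_zero, orderOf_eq_one_iff] at hord
    exact hx (hord ▸ N.one_mem)
  have key : ∀ v : G, v * x = x * v → (orderOf v).Coprime p → v ≠ 1 → x * v ∉ N → False := by
    intro v hvx hv hv1 hxv
    have hco : (orderOf x).Coprime (orderOf v) := by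
      rw [hord]; exact Nat.Coprime.pow_left _ hv.symm
    have hcomm : Commute x v := hvx.symm
    have hord2 : orderOf (x * v) = orderOf x * orderOf v := hcomm.orderOf_mul_eq_mul_orderOf_of_coprime hco
    have hq1 : orderOf v ≠ 1 := fun h1 => hv1 (orderOf_eq_one_iff.1 h1)
    obtain ⟨q, hq, hqd⟩ := Nat.exists_prime_and_dvd hq1
    have hpd : p ∣ orderOf (x * v) := by
      rw [hord2, hord]; exact Dvd.dvd.mul_right (dvd_pow_self p hk) _
    have hqd2 : q ∣ orderOf (x * v) := by
      rw [hord2]; exact Dvd.dvd.mul_left hqd _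
    have heq := prime_pow_dvd_eq (h _ hxv).1 hp hq hpd hqd2
    subst heq
    exact hp.one_lt.ne' (Nat.eq_one_of_dvd_coprimes hv (hqd) (dvd_refl _))
  by_cases hxw : x * w ∈ N
  · have hc : Commute w x := hwx
    have h1 : (x * w) ^ (p ^ k) = w ^ (p ^ k) := by
      rw [hc.symm.mul_pow, ← hord, pow_orderOf_eq_one, one_mul]
    have hw'N : w ^ (p ^ k) ∈ N := h1 ▸ N.pow_mem hxw _
    refine key (w ^ (p ^ k)) (hc.pow_left _) ?_ ?_ ?_
    · exact Nat.Coprime.coprime_dvd_left (orderOf_pow_dvd _) hw
    · intro h2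
      have h3 : orderOf w ∣ p ^ k := orderOf_dvd_of_pow_eq_one h2
      have h4 : orderOf w = 1 := Nat.eq_one_of_dvd_coprimes (Nat.Coprime.pow_right k hw) (dvd_refl _) h3
      exact hw1 (orderOf_eq_one_iff.1 h4)
    · intro h2
      apply hx
      have : x = x * w ^ (p ^ k) * (w ^ (p ^ k))⁻¹ := by group
      rw [this]
      exact mul_mem h2 (inv_mem hw'N)
  · exact key w hwx hw hw1 hxw

theorem pgroup_cent (h : ∀ x : G, x ∉ N → IsPrimePow (orderOf x) ∧ IsCoatom (Cc x)) {p k : ℕ} (hp : p.Prime)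
    {x : G} (hx : x ∉ N) (hord : orderOf x = p ^ k) : IsPGroup p (Cc x) := by
  intro m
  have hn : orderOf m ≠ 0 := (orderOf_pos m).ne'
  refine ⟨(orderOf m).factorization p, ?_⟩
  by_contra hne
  have hb : (m ^ (p ^ (orderOf m).factorization p)) ^ (orderOf m / p ^ (orderOf m).factorization p) = 1 := by
    rw [← pow_mul, Nat.ordProj_mul_ordCompl_eq_self, pow_orderOf_eq_one]
  have hordd : orderOf (m ^ (p ^ (orderOf m).factorization p)) ∣ orderOf m / p ^ (orderOf m).factorization p :=
    orderOf_dvd_of_pow_eq_one hb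
  have hcop : (orderOf (m ^ (p ^ (orderOf m).factorization p))).Coprime p := by
    apply Nat.Coprime.coprime_dvd_left hordd
    exact (Nat.coprime_ordCompl hp hn).symm
  refine no_coprime_cent h hp hx hord (w := ((m ^ (p ^ (orderOf m).factorization p) : Cc x) : G)) ?_ ?_ ?_
  · exact mem_Cc.1 (m ^ (p ^ (orderOf m).factorization p)).2
  · rwa [Subgroup.orderOf_coe]
  · intro h1
    exact hne (Subtype.ext h1)

/-- The main theorem for elements of prime power order with maximal centralizers outside `N`. -/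
theorem solvable_of_outside (hN : N ≠ ⊤) (h : ∀ x : G, x ∉ N → IsPrimePow (orderOf x) ∧ IsCoatom (Cc x)) :
    Group.IsSolvable G := by
  classical
  obtain ⟨x₀, hx₀⟩ : ∃ x, x ∉ N := by
    by_contra hall
    push Not at hall
    exact hN (eq_top_iff.2 (fun x _ => hall x))
  by_cases hodd : ∃ x, x ∉ N ∧ ∃ p k : ℕ, p.Prime ∧ p ≠ 2 ∧ orderOf x = p ^ k
  · obtain ⟨x, hx, p, k, hp, hp2, hord⟩ := hodd
    haveI : Fact p.Prime := ⟨hp⟩
    have hP := pgroup_cent h hp hx hord
    refine solvable_of_nil_max (Cc x) (h x hx).2 hP.isNilpotent ?_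
    obtain ⟨n, hn⟩ := IsPGroup.iff_card.1 hP
    rw [hn]
    exact Odd.pow (hp.odd_of_ne_two hp2)
  have h2 : ∀ x, x ∉ N → ∃ k : ℕ, orderOf x = 2 ^ k := by
    intro x hx
    obtain ⟨p, k, hp, hk, he⟩ := (h x hx).1
    have hp' : p.Prime := hp.nat_prime
    by_cases hp2 : p = 2
    · exact ⟨k, by rw [← he, hp2]⟩
    · exact absurd ⟨x, hx, p, k, hp', hp2, he.symm⟩ hodd
  haveI : Fact (Nat.Prime 2) := ⟨Nat.prime_two⟩
  by_cases hG2 : IsPGroup 2 G
  · haveI : Group.IsNilpotent G := hG2.isNilpotent
    infer_instance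
  have hsyl : ∀ x, x ∉ N → ∃ S : Sylow 2 G, (S : Subgroup G) = Cc x := by
    intro x hx
    obtain ⟨k, hk⟩ := h2 x hx
    have hP := pgroup_cent h Nat.prime_two hx hk
    obtain ⟨S, hS⟩ := hP.exists_le_sylow
    refine ⟨S, ?_⟩
    rcases (h x hx).2.le_iff.1 hS with h1 | h1
    · exfalso
      apply hG2
      have h3 := S.isPGroup'
      rw [h1] at h3
      intro g
      obtain ⟨k, hk⟩ := h3 ⟨g, trivial⟩
      exact ⟨k, by simpa using congrArg Subtype.val hk⟩
    · exact h1
  -- an index two subgroup above `N`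
  have hQ2 : IsPGroup 2 (G ⧸ N) := by
    intro q
    obtain ⟨g, rfl⟩ := QuotientGroup.mk_surjective q
    by_cases hg : g ∈ N
    · exact ⟨0, by rw [pow_zero, pow_one]; exact (QuotientGroup.eq_one_iff _).2 hg⟩
    · obtain ⟨k, hk⟩ := h2 g hg
      exact ⟨k, by rw [← QuotientGroup.mk_pow, ← hk, pow_orderOf_eq_one]; rfl⟩
  obtain ⟨K, hKn, hNK, hK2⟩ : ∃ K : Subgroup G, K.Normal ∧ N ≤ K ∧ K.index = 2 := by
    obtain ⟨n, hn⟩ := IsPGroup.iff_card.1 hQ2
    have hn0 : n ≠ 0 := by
      rintro rfl
      rw [pow_zero] at hn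
      have : N.index = 1 := hn
      exact hN (Subgroup.index_eq_one.1 this)
    obtain ⟨m, rfl⟩ := Nat.exists_eq_succ_of_ne_zero hn0
    obtain ⟨Kb, hKb⟩ := Sylow.exists_subgroup_card_pow_prime (G := G ⧸ N) 2 (n := m) (by
      rw [hn]; exact pow_dvd_pow 2 (Nat.le_succ m))
    have hidx : Kb.index = 2 := by
      have h1 := Subgroup.card_mul_index Kb
      rw [hKb, hn, pow_succ] at h1
      exact Nat.eq_of_mul_eq_mul_left (by positivity) h1
    haveI := Subgroup.normal_of_index_eq_two hidx
    refine ⟨Kb.comap (QuotientGroup.mk' N), inferInstance, ?_, ?_⟩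
    · intro n hn
      rw [Subgroup.mem_comap]
      have : QuotientGroup.mk' N n = 1 := by
        rw [← MonoidHom.mem_ker, QuotientGroup.ker_mk']; exact hn
      rw [this]; exact one_mem _
    · rw [Subgroup.index_comap_of_surjective _ (QuotientGroup.mk'_surjective N)]
      exact hidx
  haveI := hKn
  obtain ⟨S, hS⟩ := hsyl x₀ hx₀
  have hcoat : IsCoatom (S : Subgroup G) := hS ▸ (h x₀ hx₀).2
  have hindex : ∀ x, x ∉ N → (Cc x).index = (S : Subgroup G).index := by
    intro x hx
    obtain ⟨S', hS'⟩ := hsyl x hx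
    rw [← hS']
    have h1 := Subgroup.card_mul_index (S' : Subgroup G)
    have h3 := Subgroup.card_mul_index (S : Subgroup G)
    have hc : Nat.card (S' : Subgroup G) = Nat.card (S : Subgroup G) := by
      rw [Sylow.card_eq_multiplicity S', Sylow.card_eq_multiplicity S]
    rw [hc, ← h3] at h1
    exact Nat.eq_of_mul_eq_mul_left Nat.card_pos h1
  -- every element outside `K` is conjugate into `S`
  have hconj : ∀ z, z ∉ K → ∃ g : G, g * z * g⁻¹ ∈ (S : Subgroup G) := by
    intro z hz
    have hzN : z ∉ N := fun h1 => hz (hNK h1)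
    obtain ⟨S', hS'⟩ := hsyl z hzN
    obtain ⟨g, hg⟩ := MulAction.exists_smul_eq G S' S
    refine ⟨g, ?_⟩
    have h1 : z ∈ (S' : Subgroup G) := by rw [hS']; exact mem_Cc.2 rfl
    rw [← hg]
    exact ⟨z, h1, rfl⟩
  haveI := Fintype.ofFinite G
  let X : Finset G := Finset.univ.filter (fun z => z ∉ K)
  let A : Finset G := X.filter (fun z => z ∈ (S : Subgroup G))
  let mk' : G → ConjClasses G := ConjClasses.mk
  have himg : X.image mk' = A.image mk' := by
    ext c
    simp only [Finset.mem_image]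
    constructor
    · rintro ⟨z, hz, rfl⟩
      have hz' : z ∉ K := (Finset.mem_filter.1 hz).2
      obtain ⟨g, hg⟩ := hconj z hz'
      refine ⟨g * z * g⁻¹, ?_, ?_⟩
      · refine Finset.mem_filter.2 ⟨Finset.mem_filter.2 ⟨Finset.mem_univ _, ?_⟩, hg⟩
        intro h1
        apply hz'
        have := hKn.conj_mem _ h1 g⁻¹
        simpa [mul_assoc] using this
      · apply ConjClasses.mk_eq_mk_iff_isConj.2
        exact (isConj_iff.2 ⟨g, rfl⟩).symm
    · rintro ⟨z, hz, rfl⟩
      exact ⟨z, (Finset.mem_filter.1 hz).1, rfl⟩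
  have hfib : ∀ c ∈ X.image mk', (X.filter (fun z => mk' z = c)).card = (S : Subgroup G).index := by
    intro c hc
    obtain ⟨x, hx, rfl⟩ := Finset.mem_image.1 hc
    have hxK : x ∉ K := (Finset.mem_filter.1 hx).2
    rw [← hindex x (fun h1 => hxK (hNK h1)), ← CfsgLib.CS.card_class_eq_index x, Nat.card_eq_fintype_card,
      Fintype.card_subtype]
    congr 1
    ext z
    simp only [Finset.mem_filter, Finset.mem_univ, true_and]
    constructor
    · rintro ⟨_, h1⟩
      exact (ConjClasses.mk_eq_mk_iff_isConj.1 h1).symm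
    · intro h1
      refine ⟨Finset.mem_filter.2 ⟨Finset.mem_univ _, ?_⟩, ConjClasses.mk_eq_mk_iff_isConj.2 h1.symm⟩
      intro hzK
      obtain ⟨g, rfl⟩ := isConj_iff.1 h1
      apply hxK
      have := hKn.conj_mem _ hzK g⁻¹
      simpa [mul_assoc] using this
  have hXcard : X.card = (X.image mk').card * (S : Subgroup G).index := by
    rw [Finset.card_eq_sum_card_image mk' X, Finset.sum_congr rfl hfib, Finset.sum_const, smul_eq_mul]
  -- the size of `X`
  have hKcard : (Finset.univ.filter (fun z => z ∈ K)).card = Nat.card K := by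
    rw [Nat.card_eq_fintype_card, Fintype.card_subtype]
  have hX1 : X.card + Nat.card K = Nat.card G := by
    rw [← hKcard, Nat.card_eq_fintype_card (α := G), ← Finset.card_univ, add_comm]
    exact Finset.card_filter_add_card_filter_not (s := Finset.univ) (fun z => z ∈ K)
  have hK1 := Subgroup.card_mul_index K
  rw [hK2] at hK1
  have hXK : X.card = Nat.card K := by omega
  -- the size of `A`
  have hSK : (X.filter (fun z => z ∈ (S : Subgroup G))).card + Nat.card (K.subgroupOf (S : Subgroup G)) = Nat.card (S : Subgroup G) := by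
    have h1 : Nat.card (K.subgroupOf (S : Subgroup G)) = ((Finset.univ.filter (fun z => z ∈ (S : Subgroup G))).filter (fun z => z ∈ K)).card := by
      rw [← Fintype.card_coe, ← Nat.card_eq_fintype_card]
      exact Nat.card_congr
        { toFun := fun z => ⟨z.1.1, by
            have h2 := z.2
            rw [Subgroup.mem_subgroupOf] at h2
            exact Finset.mem_filter.2 ⟨Finset.mem_filter.2 ⟨Finset.mem_univ _, z.1.2⟩, h2⟩⟩
          invFun := fun z => ⟨⟨z.1, (Finset.mem_filter.1 (Finset.mem_filter.1 z.2).1).2⟩, by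
            rw [Subgroup.mem_subgroupOf]
            exact (Finset.mem_filter.1 z.2).2⟩
          left_inv := fun z => rfl
          right_inv := fun z => rfl }
    have h3 : (X.filter (fun z => z ∈ (S : Subgroup G))).card = ((Finset.univ.filter (fun z => z ∈ (S : Subgroup G))).filter (fun z => ¬ z ∈ K)).card := by
      congr 1
      ext z
      simp [X]
      tauto
    rw [h1, h3, Nat.card_eq_fintype_card (α := (S : Subgroup G)), Fintype.card_subtype, add_comm]
    exact Finset.card_filter_add_card_filter_not (s := Finset.univ.filter (fun z => z ∈ (S : Subgroup G))) (fun z => z ∈ K)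
  have hrel : K.relIndex (S : Subgroup G) ∣ 2 := by
    have h3 := Subgroup.relIndex_dvd_index_of_normal K (S : Subgroup G)
    rwa [hK2] at h3
  have hrel2 : K.relIndex (S : Subgroup G) ≤ 2 := Nat.le_of_dvd (by norm_num) hrel
  have hrelc : Nat.card (K.subgroupOf (S : Subgroup G)) * K.relIndex (S : Subgroup G) = Nat.card (S : Subgroup G) :=
    Subgroup.card_mul_index _
  have hA2 : 2 * A.card ≤ Nat.card (S : Subgroup G) := by
    have hAc : A.card + Nat.card (K.subgroupOf (S : Subgroup G)) = Nat.card (S : Subgroup G) := hSK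
    have h3 : Nat.card (S : Subgroup G) ≤ Nat.card (K.subgroupOf (S : Subgroup G)) * 2 := by
      rw [← hrelc]; exact Nat.mul_le_mul_left _ hrel2
    omega
  have hSG := Subgroup.card_mul_index (S : Subgroup G)
  have hmpos : 0 < (S : Subgroup G).index := Nat.pos_of_ne_zero Subgroup.index_ne_zero_of_finite
  have hAle : A.card * (S : Subgroup G).index ≤ X.card := by
    have h3 : 2 * (A.card * (S : Subgroup G).index) ≤ 2 * X.card := by
      calc 2 * (A.card * (S : Subgroup G).index) = (2 * A.card) * (S : Subgroup G).index := by ring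
        _ ≤ Nat.card (S : Subgroup G) * (S : Subgroup G).index := Nat.mul_le_mul_right _ hA2
        _ = Nat.card G := hSG
        _ = 2 * X.card := by rw [hXK]; omega
    omega
  have hcardeq : (A.image mk').card = A.card := by
    apply le_antisymm Finset.card_image_le
    rw [himg] at hXcard
    have h3 : A.card * (S : Subgroup G).index ≤ (A.image mk').card * (S : Subgroup G).index := by
      rw [← hXcard]; exact hAle
    exact Nat.le_of_mul_le_mul_right h3 hmpos
  have hinj : Set.InjOn mk' (A : Set G) := Finset.card_image_iff.1 hcardeq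
  have hA' : ∀ y ∈ (S : Subgroup G), y ∉ K → ∀ g : G, g * y * g⁻¹ ∈ (S : Subgroup G) → g * y * g⁻¹ = y := by
    intro y hyS hyK g hg
    have hy : y ∈ A := Finset.mem_filter.2 ⟨Finset.mem_filter.2 ⟨Finset.mem_univ _, hyK⟩, hyS⟩
    have hy' : g * y * g⁻¹ ∈ A := by
      refine Finset.mem_filter.2 ⟨Finset.mem_filter.2 ⟨Finset.mem_univ _, ?_⟩, hg⟩
      intro h1
      apply hyK
      have := hKn.conj_mem _ h1 g⁻¹
      simpa [mul_assoc] using this
    apply hinj hy' hy
    apply ConjClasses.mk_eq_mk_iff_isConj.2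
    exact (isConj_iff.2 ⟨g, rfl⟩).symm
  obtain ⟨y₁, hy₁S, hy₁K⟩ : ∃ y ∈ (S : Subgroup G), y ∉ K := by
    obtain ⟨z, hz⟩ : ∃ z, z ∉ K := by
      by_contra hall
      push Not at hall
      have : K = ⊤ := eq_top_iff.2 (fun x _ => hall x)
      rw [this, Subgroup.index_top] at hK2
      omega
    obtain ⟨g, hg⟩ := hconj z hz
    refine ⟨_, hg, ?_⟩
    intro h1
    apply hz
    have := hKn.conj_mem _ h1 g⁻¹
    simpa [mul_assoc] using this
  have hNC : normalizer ((S : Subgroup G) : Set G) ≤ centralizer ((S : Subgroup G) : Set G) := by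
    intro g hg
    rw [mem_centralizer_iff]
    intro s hs
    have hconjS : ∀ t ∈ (S : Subgroup G), g * t * g⁻¹ ∈ (S : Subgroup G) :=
      fun t ht => (Subgroup.mem_normalizer_iff.1 hg t).1 ht
    have hfix : g * s * g⁻¹ = s := by
      by_cases hsK : s ∈ K
      · have h1 : y₁ * s ∉ K := fun h1 => hy₁K (by
          have := mul_mem h1 (inv_mem hsK)
          simpa using this)
        have h3 := hA' (y₁ * s) (mul_mem hy₁S hs) h1 g (hconjS _ (mul_mem hy₁S hs))
        have h4 := hA' y₁ hy₁S hy₁K g (hconjS _ hy₁S)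
        have h5 : g * (y₁ * s) * g⁻¹ = (g * y₁ * g⁻¹) * (g * s * g⁻¹) := by group
        rw [h5, h4] at h3
        exact mul_left_cancel h3
      · exact hA' s hs hsK g (hconjS _ hs)
    calc s * g = (g * s * g⁻¹) * g := by rw [hfix]
      _ = g * s := by group
  have hcomp := MonoidHom.ker_transferSylow_isComplement' S hNC
  have hnd := MonoidHom.not_dvd_card_ker_transferSylow S hNC
  haveI : ((MonoidHom.transferSylow S hNC).ker).Normal := MonoidHom.normal_ker _
  have hLb : (MonoidHom.transferSylow S hNC).ker ≠ ⊥ := by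
    intro hb
    apply hcoat.1
    have h3 := hcomp.index_eq_card
    rw [hb, Subgroup.card_bot] at h3
    exact Subgroup.index_eq_one.1 h3
  have hcop : (Nat.card (MonoidHom.transferSylow S hNC).ker).Coprime (Nat.card (S : Subgroup G)) := by
    rw [Sylow.card_eq_multiplicity S]
    apply Nat.Coprime.pow_right
    exact ((Nat.Prime.coprime_iff_not_dvd Nat.prime_two).2 hnd).symm
  haveI : Group.IsNilpotent (S : Subgroup G) := S.isPGroup'.isNilpotent
  exact solvable_of_coatom_complement (S : Subgroup G) _ hcoat hcop hLb inferInstance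

end PP


end CfsgLib.FGS.MaxCent
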