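import Mathlib

/-! The norm trick on abelian normal subgroups: used for groups with two class sizes. -/

set_option autoImplicit false
set_option linter.unusedSectionVars false
set_option linter.style.haveILetI false

namespace CfsgLib.FGS.NormOp

open Finset

theorem ring_identity {R : Type*} [Ring R] (p : ℕ) (hp : p.Prime) (A B : R) (hc : Commute A B)
    (hB : B ^ p = 1) :
    ∑ j ∈ range p, ∑ i ∈ range p, (A * B ^ j) ^ i =
      (p : R) + ∑ i ∈ Ico 1 p, A ^ i * ∑ k ∈ range p, B ^ k := by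
  classical
  have h1 : ∀ j i : ℕ, (A * B ^ j) ^ i = A ^ i * B ^ (j * i) := by
    intro j i
    rw [(hc.pow_right j).mul_pow, pow_mul]
  simp only [h1]
  rw [Finset.sum_comm]
  simp only [← Finset.mul_sum]
  rw [Finset.range_eq_Ico, Finset.sum_eq_sum_Ico_succ_bot hp.pos]
  congr 1
  · simp
  · refine Finset.sum_congr rfl (fun i hi => ?_)
    congr 1
    obtain ⟨hi1, hi2⟩ := Finset.mem_Ico.1 hi
    have hcop : Nat.Coprime i p := ((Nat.Prime.coprime_iff_not_dvd hp).2 (Nat.not_dvd_of_pos_of_lt (by omega) hi2)).symm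
    let f : ℕ → ℕ := fun j => (j * i) % p
    have hinj : Set.InjOn f (Ico 0 p : Finset ℕ) := by
      intro u hu v hv h
      have hu' := (Finset.mem_Ico.1 hu).2
      have hv' := (Finset.mem_Ico.1 hv).2
      have h2 : u * i ≡ v * i [MOD p] := h
      have h3 : u ≡ v [MOD p] := Nat.ModEq.cancel_right_of_coprime (by rwa [Nat.coprime_comm] at hcop) h2
      exact Nat.ModEq.eq_of_lt_of_lt h3 hu' hv'
    have himg : (Ico 0 p).image f = Ico 0 p := by
      apply Finset.eq_of_subset_of_card_le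
      · intro k hk
        obtain ⟨j, -, rfl⟩ := Finset.mem_image.1 hk
        exact Finset.mem_Ico.2 ⟨Nat.zero_le _, Nat.mod_lt _ hp.pos⟩
      · rw [Finset.card_image_of_injOn hinj]
    conv_rhs => rw [← himg, Finset.sum_image hinj]
    refine Finset.sum_congr rfl (fun j _ => ?_)
    exact pow_eq_pow_mod _ hB

/-- The norm argument: `P/T` acting on an abelian normal subgroup `U` with `C(u) = T` outside `Z`;
two independent elements modulo `T` force `u^p ∈ Z`. -/
theorem pth_power {P : Type*} [Group P] (p : ℕ) (hp : p.Prime) (U Z T : Subgroup P)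
    [hUn : U.Normal] [hZn : Z.Normal] (hUc : ∀ u ∈ U, ∀ v ∈ U, u * v = v * u)
    (htriv : ∀ t ∈ T, ∀ u ∈ U, t * u * t⁻¹ = u)
    (hfix : ∀ u ∈ U, u ∉ Z → ∀ g : P, g * u * g⁻¹ = u → g ∈ T)
    (hpow : ∀ g : P, g ∉ T → g ^ p ∈ T)
    (a b : P) (hab : (b * a)⁻¹ * (a * b) ∈ T) (hb : b ∉ T) (hnot : ∀ j < p, a * b ^ j ∉ T) :
    ∀ u ∈ U, u ^ p ∈ Z := by
  classical
  letI instC : CommGroup U := { (inferInstance : Group U) with
    mul_comm := fun x y => Subtype.ext (hUc x x.2 y y.2) }
  let ρ : P →* AddMonoid.End (Additive U) :=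
    { toFun := fun g =>
        { toFun := fun w => Additive.ofMul (⟨g * (Additive.toMul w : U) * g⁻¹, hUn.conj_mem _ (Additive.toMul w).2 g⟩ : U)
          map_zero' := by
            apply Additive.toMul.injective
            apply Subtype.ext
            show g * (1 : P) * g⁻¹ = 1
            group
          map_add' := by
            intro v w
            apply Additive.toMul.injective
            apply Subtype.ext
            show g * (((Additive.toMul v : U) : P) * ((Additive.toMul w : U) : P)) * g⁻¹ =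
              (g * ((Additive.toMul v : U) : P) * g⁻¹) * (g * ((Additive.toMul w : U) : P) * g⁻¹)
            group }
      map_one' := by
        refine AddMonoidHom.ext (fun w => ?_)
        apply Additive.toMul.injective
        apply Subtype.ext
        show (1 : P) * ((Additive.toMul w : U) : P) * (1 : P)⁻¹ = ((Additive.toMul w : U) : P)
        group
      map_mul' := by
        intro g h
        refine AddMonoidHom.ext (fun w => ?_)
        apply Additive.toMul.injective
        apply Subtype.ext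
        show (g * h) * ((Additive.toMul w : U) : P) * (g * h)⁻¹ =
          g * (h * ((Additive.toMul w : U) : P) * h⁻¹) * g⁻¹
        group }
  have hρ : ∀ (g : P) (w : Additive U), ((Additive.toMul (ρ g w) : U) : P) = g * ((Additive.toMul w : U) : P) * g⁻¹ :=
    fun _ _ => rfl
  have hρT : ∀ t ∈ T, ρ t = 1 := by
    intro t ht
    refine AddMonoidHom.ext (fun w => ?_)
    apply Additive.toMul.injective
    apply Subtype.ext
    show t * ((Additive.toMul w : U) : P) * t⁻¹ = ((Additive.toMul w : U) : P)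
    exact htriv t ht _ (Additive.toMul w).2
  let Z' : AddSubgroup (Additive U) :=
    { carrier := {w | ((Additive.toMul w : U) : P) ∈ Z}
      zero_mem' := Z.one_mem
      add_mem' := fun {v w} hv hw => Z.mul_mem hv hw
      neg_mem' := fun {v} hv => Z.inv_mem hv }
  have hZ'mem : ∀ w : Additive U, w ∈ Z' ↔ ((Additive.toMul w : U) : P) ∈ Z := fun _ => Iff.rfl
  have hρZ : ∀ (g : P) (w : Additive U), w ∈ Z' → ρ g w ∈ Z' := by
    intro g w hw
    rw [hZ'mem, hρ]
    exact hZn.conj_mem _ hw g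
  have hρpowZ : ∀ (g : P) (i : ℕ) (w : Additive U), w ∈ Z' → ((ρ g) ^ i) w ∈ Z' := by
    intro g i w hw
    rw [← map_pow]
    exact hρZ _ _ hw
  -- norms lie in `Z`
  have hN : ∀ (g : P), g ∉ T → ∀ w : Additive U, (∑ i ∈ range p, (ρ g) ^ i) w ∈ Z' := by
    intro g hg w
    have h1 : (ρ g) ^ p = 1 := by
      rw [← map_pow]
      exact hρT _ (hpow g hg)
    have h2 : ((ρ g) - 1) * ∑ i ∈ range p, (ρ g) ^ i = 0 := by
      rw [mul_geom_sum, h1, sub_self]
    have h3 : ρ g * ∑ i ∈ range p, (ρ g) ^ i = ∑ i ∈ range p, (ρ g) ^ i := by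
      rw [sub_mul, one_mul, sub_eq_zero] at h2
      exact h2
    have h4 : ρ g ((∑ i ∈ range p, (ρ g) ^ i) w) = (∑ i ∈ range p, (ρ g) ^ i) w := by
      have := congrArg (fun f : AddMonoid.End (Additive U) => f w) h3
      exact this
    rw [hZ'mem]
    by_contra hnotZ
    apply hg
    refine hfix _ (Additive.toMul ((∑ i ∈ range p, (ρ g) ^ i) w)).2 hnotZ g ?_
    rw [← hρ, h4]
  -- the identity
  have hcomm : Commute (ρ a) (ρ b) := by
    have h1 : ρ ((b * a)⁻¹ * (a * b)) = 1 := hρT _ hab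
    have h2 : a * b = (b * a) * ((b * a)⁻¹ * (a * b)) := by group
    show ρ a * ρ b = ρ b * ρ a
    calc ρ a * ρ b = ρ (a * b) := (map_mul ρ a b).symm
      _ = ρ ((b * a) * ((b * a)⁻¹ * (a * b))) := by rw [← h2]
      _ = ρ (b * a) * ρ ((b * a)⁻¹ * (a * b)) := map_mul ρ _ _
      _ = ρ (b * a) := by rw [h1, mul_one]
      _ = ρ b * ρ a := map_mul ρ b a
  have hBp : (ρ b) ^ p = 1 := by
    rw [← map_pow]
    exact hρT _ (hpow b hb)
  have hid := ring_identity p hp (ρ a) (ρ b) hcomm hBp
  intro u hu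
  obtain ⟨w, hw⟩ : ∃ w : Additive U, w = Additive.ofMul (⟨u, hu⟩ : U) := ⟨_, rfl⟩
  let ev : AddMonoid.End (Additive U) →+ Additive U :=
    { toFun := fun f => f w
      map_zero' := rfl
      map_add' := fun _ _ => rfl }
  have hev : ev (∑ j ∈ range p, ∑ i ∈ range p, (ρ a * ρ b ^ j) ^ i) =
      ev ((p : AddMonoid.End (Additive U)) + ∑ i ∈ Ico 1 p, ρ a ^ i * ∑ k ∈ range p, ρ b ^ k) := by rw [hid]
  have hnat : ev (p : AddMonoid.End (Additive U)) = p • w := AddMonoid.End.natCast_apply p w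
  rw [map_add, hnat] at hev
  have hL : ev (∑ j ∈ range p, ∑ i ∈ range p, (ρ a * ρ b ^ j) ^ i) ∈ Z' := by
    rw [map_sum]
    refine AddSubgroup.sum_mem _ (fun j hj => ?_)
    have h1 : ρ a * ρ b ^ j = ρ (a * b ^ j) := by rw [map_mul, map_pow]
    rw [h1]
    exact hN (a * b ^ j) (hnot j (Finset.mem_range.1 hj)) w
  have hR : ev (∑ i ∈ Ico 1 p, ρ a ^ i * ∑ k ∈ range p, ρ b ^ k) ∈ Z' := by
    rw [map_sum]
    refine AddSubgroup.sum_mem _ (fun i _ => ?_)
    have h2 := hN b hb w
    exact hρpowZ a i _ h2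
  have hpw : p • w ∈ Z' := by
    have h1 := Z'.sub_mem hL hR
    rw [hev, add_sub_cancel_right] at h1
    exact h1
  rw [hZ'mem] at hpw
  rw [hw] at hpw
  have h5 : ((Additive.toMul (p • Additive.ofMul (⟨u, hu⟩ : U)) : U) : P) = u ^ p := rfl
  rwa [h5] at hpw

end CfsgLib.FGS.NormOp
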