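import Cfsg.Agent.Lib.FGS.Cyc

/-!
# The number of classes of `π`-elements is at most the `π`-part of the order.
-/

set_option autoImplicit false
set_option linter.unusedSectionVars false
set_option linter.style.haveILetI false

namespace CfsgLib.FGS

universe u

/-- Classes of `π`-elements. -/
def IsPiClass {G : Type*} [Group G] (π : Set ℕ) (C : ConjClasses G) : Prop :=
  ∀ q : ℕ, q.Prime → (∃ g : G, ConjClasses.mk g = C ∧ q ∣ orderOf g) → q ∈ π

/-- The `π`-part of a positive integer. -/
theorem exists_pi_part (N : ℕ) (hN : N ≠ 0) (π : Set ℕ) :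
    ∃ m, m ∣ N ∧ (∀ q : ℕ, q.Prime → q ∣ m → q ∈ π) ∧ (∀ q ∈ π, q.Prime → ¬ q ∣ N / m) := by
  classical
  induction N using Nat.strong_induction_on with
  | _ N ih =>
    by_cases h : ∃ q ∈ π, q.Prime ∧ q ∣ N
    · obtain ⟨q, hq, hqp, hqd⟩ := h
      obtain ⟨K, rfl⟩ := hqd
      have hK : K ≠ 0 := by
        rintro rfl
        exact hN (by simp)
      have hlt : K < q * K := by
        have := hqp.two_le
        have hKpos := Nat.pos_of_ne_zero hK
        nlinarith
      obtain ⟨m, hm, h1, h2⟩ := ih K hlt hK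
      refine ⟨q * m, Nat.mul_dvd_mul_left q hm, ?_, ?_⟩
      · intro r hr hrd
        rcases (Nat.Prime.dvd_mul hr).mp hrd with h3 | h3
        · rw [(Nat.prime_dvd_prime_iff_eq hr hqp).mp h3]
          exact hq
        · exact h1 r hr h3
      · intro r hr hrp hrd
        have h3 : q * K / (q * m) = K / m := Nat.mul_div_mul_left _ _ hqp.pos
        rw [h3] at hrd
        exact h2 r hr hrp hrd
    · refine ⟨1, one_dvd _, ?_, ?_⟩
      · intro q hq hqd
        exact absurd (Nat.dvd_one.mp hqd) hq.one_lt.ne'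
      · intro q hq hqp hqd
        rw [Nat.div_one] at hqd
        exact h ⟨q, hq, hqp, hqd⟩

/-- Monotonicity of `π`-parts. -/
theorem pi_part_dvd {N₁ N₂ m₁ m₂ : ℕ} {π : Set ℕ} (hN : N₁ ∣ N₂) (hm₁ : m₁ ∣ N₁)
    (h1 : ∀ q : ℕ, q.Prime → q ∣ m₁ → q ∈ π) (hm₂ : m₂ ∣ N₂)
    (h2 : ∀ q ∈ π, q.Prime → ¬ q ∣ N₂ / m₂) : m₁ ∣ m₂ := by
  have h3 : m₁ ∣ m₂ * (N₂ / m₂) := by
    rw [Nat.mul_div_cancel' hm₂]
    exact hm₁.trans hN
  have hcop : Nat.Coprime m₁ (N₂ / m₂) := by
    apply Nat.coprime_of_dvd
    intro r hr hr1 hr2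
    exact h2 r (h1 r hr hr1) hr hr2
  exact hcop.dvd_of_dvd_mul_right h3

/-- The main bound. -/
theorem card_pi_classes_le (m : ℕ) : ∀ (G : Type u) [Group G] [Finite G] (π : Set ℕ),
    m ∣ Nat.card G → (∀ q : ℕ, q.Prime → q ∣ m → q ∈ π) →
    (∀ q ∈ π, q.Prime → ¬ q ∣ Nat.card G / m) →
      Nat.card {C : ConjClasses G // IsPiClass π C} ≤ m := by
  classical
  induction m using Nat.strong_induction_on with
  | _ m ih =>
    intro G _ _ π hm hm1 hm2
    have hN : Nat.card G ≠ 0 := Nat.card_pos.ne'
    have hm0 : m ≠ 0 := by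
      rintro rfl
      exact hN (Nat.eq_zero_of_zero_dvd hm)
    by_cases hm3 : m = 1
    · subst hm3
      apply Finite.card_le_one_iff_subsingleton.mpr
      have hall : ∀ C : {C : ConjClasses G // IsPiClass π C}, C.1 = ConjClasses.mk 1 := by
        rintro ⟨C, hC⟩
        obtain ⟨g, rfl⟩ := ConjClasses.mk_surjective C
        have hg : g = 1 := by
          by_contra hg1
          have h1 : orderOf g ≠ 1 := by
            rwa [Ne, orderOf_eq_one_iff]
          obtain ⟨q, hq, hqd⟩ := Nat.exists_prime_and_dvd h1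
          have h2 := hC q hq ⟨g, rfl, hqd⟩
          apply hm2 q h2 hq
          rw [Nat.div_one]
          exact hqd.trans (orderOf_dvd_natCard g)
        subst hg
        rfl
      exact ⟨fun a b => Subtype.ext ((hall a).trans (hall b).symm)⟩
    obtain ⟨p, hp, hpm⟩ := Nat.exists_prime_and_dvd hm3
    haveI : Fact p.Prime := ⟨hp⟩
    obtain ⟨P⟩ : Nonempty (Sylow p G) := inferInstance
    have hpπ : p ∈ π := hm1 p hp hpm
    obtain ⟨a, hPa⟩ := IsPGroup.iff_card.mp P.isPGroup'
    have hcop : Nat.Coprime (Nat.card P) (Nat.card G / m) := by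
      rw [hPa]
      exact Nat.Coprime.pow_left _ ((Nat.Prime.coprime_iff_not_dvd hp).mpr (hm2 p hpπ hp))
    have hPdvd : Nat.card P ∣ m := by
      have h1 : Nat.card P ∣ m * (Nat.card G / m) := by
        rw [Nat.mul_div_cancel' hm]
        exact Subgroup.card_subgroup_dvd_card _
      exact hcop.dvd_of_dvd_mul_right h1
    have hP1 : 1 < Nat.card P := by
      have h1 : p ∣ Nat.card G := hpm.trans hm
      have h2 : P.1 ≠ ⊥ := P.ne_bot_of_dvd_card h1
      exact (Subgroup.one_lt_card_iff_ne_bot P.1).mpr h2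
    obtain ⟨m', hm'⟩ := hPdvd
    have hm'0 : m' ≠ 0 := by
      rintro rfl
      exact hm0 (by simpa using hm')
    have hm'lt : m' < m := by
      rw [hm']
      have := Nat.pos_of_ne_zero hm'0
      nlinarith
    set π' : Set ℕ := π \ {p} with hπ'
    have hm'N : m' ∣ Nat.card G := (Dvd.intro_left _ hm'.symm).trans hm
    have hm'2 : ∀ q ∈ π', q.Prime → ¬ q ∣ Nat.card G / m' := by
      intro q hq hqp hqd
      have h1 : Nat.card G / m' = Nat.card P * (Nat.card G / m) := by
        obtain ⟨k, hk⟩ := hm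
        rw [hk, hm']
        have h2 : Nat.card P * m' * k / m' = Nat.card P * k := by
          rw [show Nat.card P * m' * k = m' * (Nat.card P * k) by ring]
          exact Nat.mul_div_cancel_left _ (Nat.pos_of_ne_zero hm'0)
        have h3 : Nat.card P * m' * k / (Nat.card P * m') = k :=
          Nat.mul_div_cancel_left _ (Nat.pos_of_ne_zero (by
            rw [← hm']
            exact hm0))
        rw [h2, h3]
      rw [h1] at hqd
      rcases (Nat.Prime.dvd_mul hqp).mp hqd with h2 | h2
      · rw [hPa] at h2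
        have h3 := hqp.dvd_of_dvd_pow h2
        have h4 := (Nat.prime_dvd_prime_iff_eq hqp hp).mp h3
        exact hq.2 h4
      · exact hm2 q hq.1 hqp h2
    have key : ∀ u : P, Nat.card {C : ConjClasses (Subgroup.centralizer {(u : G)}) //
        IsPiClass π' C} ≤ m' := by
      intro u
      obtain ⟨mK, h1, h2, h3⟩ := exists_pi_part (Nat.card (Subgroup.centralizer {(u : G)}))
        Nat.card_pos.ne' π'
      have hmKm' : mK ∣ m' := pi_part_dvd (Subgroup.card_subgroup_dvd_card _) h1 h2 hm'N hm'2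
      have hle := Nat.le_of_dvd (Nat.pos_of_ne_zero hm'0) hmKm'
      exact (ih mK (by omega) _ π' h1 h2 h3).trans hle
    -- The surjection.
    let rep : ∀ {K : Type u} [Group K], ConjClasses K → K := fun C =>
      Function.surjInv ConjClasses.mk_surjective C
    have hrep : ∀ {K : Type u} [Group K] (C : ConjClasses K), ConjClasses.mk (rep C) = C := by
      intro K _ C
      exact Function.surjInv_eq _ C
    have hΨ : ∀ x : (Σ u : P, {C : ConjClasses (Subgroup.centralizer {(u : G)}) //
        IsPiClass π' C}), IsPiClass π (ConjClasses.mk ((x.1 : G) * ((rep x.2.1 : _) : G))) := by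
      rintro ⟨u, C, hC⟩ q hq ⟨g, hg, hqd⟩
      set v := rep C with hv
      have hcomm : Commute (u : G) (v : G) := by
        have := v.2
        rw [Subgroup.mem_centralizer_singleton_iff] at this
        exact this.symm
      have h1 : orderOf g = orderOf ((u : G) * (v : G)) := by
        have h2 : IsConj g ((u : G) * (v : G)) := ConjClasses.mk_eq_mk_iff_isConj.mp hg
        obtain ⟨c, hc⟩ := isConj_iff.mp h2
        rw [← hc]
        exact ((MulAut.conj c).orderOf_eq g).symm
      rw [h1] at hqd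
      have h3 := hqd.trans hcomm.orderOf_mul_dvd_mul_orderOf
      rcases (Nat.Prime.dvd_mul hq).mp h3 with h4 | h4
      · have h5 : orderOf (u : G) ∣ Nat.card P := by
          rw [Subgroup.orderOf_coe]
          exact orderOf_dvd_natCard u
        have h6 := h4.trans h5
        rw [hPa] at h6
        have h7 := (Nat.prime_dvd_prime_iff_eq hq hp).mp (hq.dvd_of_dvd_pow h6)
        rw [h7]
        exact hpπ
      · have h5 : q ∣ orderOf v := by
          rwa [Subgroup.orderOf_coe] at h4
        exact (hC q hq ⟨v, hrep C, h5⟩).1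
    let Ψ : (Σ u : P, {C : ConjClasses (Subgroup.centralizer {(u : G)}) //
        IsPiClass π' C}) → {C : ConjClasses G // IsPiClass π C} := fun x => ⟨_, hΨ x⟩
    have hsurj : Function.Surjective Ψ := by
      rintro ⟨C, hC⟩
      obtain ⟨x, rfl⟩ := ConjClasses.mk_surjective C
      obtain ⟨s, t, hs, ht, hx, hst, ⟨k, hk⟩, htc⟩ := exists_primary_decomp p hp x
      -- conjugate `s` into `P`.
      have hspg : IsPGroup p (Subgroup.zpowers s) := by
        rw [IsPGroup.iff_card, Nat.card_zpowers]
        exact ⟨k, hk⟩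
      obtain ⟨Q, hQ⟩ := hspg.exists_le_sylow
      obtain ⟨g, hg⟩ := MulAction.exists_smul_eq G Q P
      have hsQ : s ∈ Q := hQ (Subgroup.mem_zpowers s)
      have hu : g * s * g⁻¹ ∈ P := by
        have h1 : MulAut.conj g • s ∈ (g • Q) := Subgroup.smul_mem_pointwise_smul _ _ _ hsQ
        rw [hg] at h1
        exact h1
      let u : P := ⟨g * s * g⁻¹, hu⟩
      have ht' : g * t * g⁻¹ ∈ Subgroup.centralizer {(u : G)} := by
        rw [Subgroup.mem_centralizer_singleton_iff]
        show g * t * g⁻¹ * (g * s * g⁻¹) = g * s * g⁻¹ * (g * t * g⁻¹)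
        have h1 : t * s = s * t := hst.symm
        calc g * t * g⁻¹ * (g * s * g⁻¹) = g * (t * s) * g⁻¹ := by group
          _ = g * (s * t) * g⁻¹ := by rw [h1]
          _ = g * s * g⁻¹ * (g * t * g⁻¹) := by group
      let t0 : Subgroup.centralizer {(u : G)} := ⟨_, ht'⟩
      have hC0 : IsPiClass π' (ConjClasses.mk t0) := by
        rintro q hq ⟨y, hy, hqd⟩
        have h1 : orderOf y = orderOf t0 := by
          obtain ⟨c, hc⟩ := isConj_iff.mp (ConjClasses.mk_eq_mk_iff_isConj.mp hy)
          rw [← hc]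
          exact ((MulAut.conj c).orderOf_eq y).symm
        have h2 : orderOf t0 = orderOf t := by
          rw [← Subgroup.orderOf_coe]
          exact (MulAut.conj g).orderOf_eq t
        rw [h1, h2] at hqd
        have h3 : q ∣ orderOf x := hqd.trans (orderOf_dvd_of_mem_zpowers ht)
        refine ⟨hC q hq ⟨x, rfl, h3⟩, ?_⟩
        intro hqp
        have h4 : q = p := hqp
        rw [h4] at hqd
        have h5 := Nat.Coprime.eq_one_of_dvd htc.symm hqd
        exact hp.one_lt.ne' h5
      refine ⟨⟨u, ⟨_, hC0⟩⟩, Subtype.ext ?_⟩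
      show ConjClasses.mk ((u : G) * ((rep (ConjClasses.mk t0) : _) : G)) = ConjClasses.mk x
      have hy := hrep (ConjClasses.mk t0)
      obtain ⟨c, hc⟩ := isConj_iff.mp (ConjClasses.mk_eq_mk_iff_isConj.mp hy)
      apply ConjClasses.mk_eq_mk_iff_isConj.mpr
      rw [isConj_iff]
      refine ⟨g⁻¹ * (c : G), ?_⟩
      have hcu : (c : G) * (u : G) = (u : G) * (c : G) := by
        have := c.2
        rwa [Subgroup.mem_centralizer_singleton_iff] at this
      have h6 : ((rep (ConjClasses.mk t0) : _) : G) = (c : G)⁻¹ * ((t0 : G)) * (c : G) := by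
        have h7 := congrArg (fun z : Subgroup.centralizer {(u : G)} => (z : G)) hc
        simp only [Subgroup.coe_mul, Subgroup.coe_inv] at h7
        rw [← h7]
        group
      rw [h6]
      have h8 : (u : G) * ((c : G)⁻¹ * (t0 : G) * (c : G)) =
          (c : G)⁻¹ * ((u : G) * (t0 : G)) * (c : G) := by
        have h9 : (c : G)⁻¹ * (u : G) = (u : G) * (c : G)⁻¹ := by
          rw [inv_mul_eq_iff_eq_mul, ← mul_assoc, hcu, mul_assoc, mul_inv_cancel, mul_one]
        calc (u : G) * ((c : G)⁻¹ * (t0 : G) * (c : G))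
            = ((u : G) * (c : G)⁻¹) * ((t0 : G) * (c : G)) := by simp only [mul_assoc]
          _ = ((c : G)⁻¹ * (u : G)) * ((t0 : G) * (c : G)) := by rw [h9]
          _ = _ := by simp only [mul_assoc]
      rw [h8]
      show g⁻¹ * (c : G) * ((c : G)⁻¹ * ((g * s * g⁻¹) * (g * t * g⁻¹)) * (c : G)) *
        (g⁻¹ * (c : G))⁻¹ = x
      rw [hx]
      group
    have hcard := Nat.card_le_card_of_surjective Ψ hsurj
    haveI : Fintype P := Fintype.ofFinite _
    rw [Nat.card_sigma] at hcard
    have h2 : ∑ u : P, Nat.card {C : ConjClasses (Subgroup.centralizer {(u : G)}) //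
        IsPiClass π' C} ≤ Nat.card P * m' := by
      calc _ ≤ ∑ _u : P, m' := Finset.sum_le_sum (fun u _ => key u)
        _ = Nat.card P * m' := by
          rw [Finset.sum_const, Finset.card_univ, Nat.card_eq_fintype_card, smul_eq_mul]
    rw [hm']
    exact hcard.trans h2

end CfsgLib.FGS
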