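import Cfsg.Agent.Lib.FGS.Lift
import Cfsg.Agent.Lib.Invol.BSCor
import Cfsg.Agent.Lib.Solv.SZ
import Cfsg.Agent.Lib.Solv.Core
import Cfsg.Agent.Lib.PLocal.CardSup

/-!
Groups without real elements of odd order have normal Sylow 2-subgroups.
-/

set_option autoImplicit false
set_option linter.unusedSectionVars false

namespace CfsgLib.FGS

open Subgroup

universe u

variable {G : Type u} [Group G] [Finite G]

/-- A real element of odd order in the quotient by a normal 2-subgroup lifts. -/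
theorem real_lift {M : Subgroup G} [hMn : M.Normal] (hM : IsPGroup 2 M) {y g : G}
    (hy : Odd (orderOf y))
    (h : ((g * y * g⁻¹ : G) : G ⧸ M) = ((y⁻¹ : G) : G ⧸ M)) : ∃ c : G, c * y * c⁻¹ = y⁻¹ := by
  classical
  haveI : Fact (Nat.Prime 2) := ⟨Nat.prime_two⟩
  obtain ⟨a, ha⟩ := (IsPGroup.iff_card).1 hM
  have hYM : Subgroup.zpowers y ⊓ M = ⊥ := by
    rw [eq_bot_iff]
    intro x hx
    obtain ⟨⟨k, rfl⟩, hxM⟩ := hx
    have h1 : orderOf (y ^ k) ∣ orderOf y := by
      apply orderOf_dvd_of_pow_eq_one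
      rw [← zpow_natCast, ← zpow_mul, mul_comm, zpow_mul, zpow_natCast, pow_orderOf_eq_one, one_zpow]
    have h2 : orderOf (y ^ k) ∣ 2 ^ a := by
      have := Subgroup.orderOf_dvd_natCard M hxM
      rwa [ha] at this
    have h3 : (orderOf y).Coprime (2 ^ a) := Nat.Coprime.pow_right a (Nat.coprime_two_right.2 hy)
    have h4 : orderOf (y ^ k) = 1 := Nat.dvd_one.1 (by
      have := Nat.dvd_gcd h1 h2
      rwa [h3] at this)
    exact Subgroup.mem_bot.2 (orderOf_eq_one_iff.1 h4)
  have hcardY : Nat.card (Subgroup.zpowers y) = orderOf y := Nat.card_zpowers y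
  have hcardL : Nat.card ↥(Subgroup.zpowers y ⊔ M) = orderOf y * Nat.card M := by
    have := CfsgLib.PLocal.card_sup_mul_card_inf (Subgroup.zpowers y) M (fun x _ => by
      rw [Subgroup.normalizer_eq_top M]; trivial)
    rw [hYM, hcardY] at this
    simpa using this
  obtain ⟨L, hL⟩ : ∃ L : Subgroup G, L = Subgroup.zpowers y ⊔ M := ⟨_, rfl⟩
  rw [← hL] at hcardL
  have hYL : Subgroup.zpowers y ≤ L := by rw [hL]; exact le_sup_left
  have hML : M ≤ L := by rw [hL]; exact le_sup_right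
  have hgy : g * y * g⁻¹ ∈ L := by
    have h1 : (y⁻¹)⁻¹ * (g * y * g⁻¹) ∈ M := QuotientGroup.eq.1 h.symm
    have h2 : g * y * g⁻¹ = y⁻¹ * ((y⁻¹)⁻¹ * (g * y * g⁻¹)) := by group
    rw [h2]
    exact L.mul_mem (hYL (Subgroup.inv_mem _ (Subgroup.mem_zpowers y))) (hML h1)
  have hY2L : Subgroup.zpowers (g * y * g⁻¹) ≤ L := (Subgroup.zpowers_le).2 hgy
  haveI hN' : (M.subgroupOf L).Normal := Subgroup.Normal.subgroupOf hMn L
  have hcN : Nat.card (M.subgroupOf L) = Nat.card M := CfsgLib.Solv.card_subgroupOf_of_le hML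
  have hcH : Nat.card ((Subgroup.zpowers y).subgroupOf L) = orderOf y := by
    rw [CfsgLib.Solv.card_subgroupOf_of_le hYL, hcardY]
  have hordg : orderOf (g * y * g⁻¹) = orderOf y := by
    have := orderOf_injective (MulAut.conj g).toMonoidHom (MulAut.conj g).injective y
    simpa [MulAut.conj_apply] using this
  have hcK : Nat.card ((Subgroup.zpowers (g * y * g⁻¹)).subgroupOf L) = orderOf y := by
    rw [CfsgLib.Solv.card_subgroupOf_of_le hY2L, Nat.card_zpowers, hordg]
  have hcop : (Nat.card M).Coprime (orderOf y) := by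
    rw [ha]
    exact Nat.Coprime.pow_left a (Nat.coprime_two_left.2 hy)
  have hC1 : IsComplement' (M.subgroupOf L) ((Subgroup.zpowers y).subgroupOf L) := by
    apply Subgroup.isComplement'_of_coprime
    · rw [hcN, hcH, hcardL]; ring
    · rw [hcN, hcH]; exact hcop
  have hC2 : IsComplement' (M.subgroupOf L) ((Subgroup.zpowers (g * y * g⁻¹)).subgroupOf L) := by
    apply Subgroup.isComplement'_of_coprime
    · rw [hcN, hcK, hcardL]; ring
    · rw [hcN, hcK]; exact hcop
  have hindex : (M.subgroupOf L).index = orderOf y := by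
    have h1 := (M.subgroupOf L).card_mul_index
    rw [hcN, hcardL, mul_comm] at h1
    exact Nat.eq_of_mul_eq_mul_right (Nat.card_pos (α := M)) h1
  haveI : Group.IsNilpotent M := hM.isNilpotent
  have hsolv : Group.IsSolvable (M.subgroupOf L) := by
    have : IsPGroup 2 (M.subgroupOf L) := by
      obtain ⟨b, hb⟩ := (IsPGroup.iff_card).1 hM
      exact IsPGroup.of_card (n := b) (by rw [hcN, hb])
    haveI : Group.IsNilpotent (M.subgroupOf L) := this.isNilpotent
    infer_instance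
  obtain ⟨l, hl⟩ := CfsgLib.Solv.schur_conj_of_solvable_normal _ L (M.subgroupOf L) rfl hsolv
    (by rw [hindex, hcN]; exact hcop) _ _ hC1 hC2
  have hl2 := CfsgLib.Solv.conj_of_subgroupOf hYL hY2L l hl
  -- `l y l⁻¹` lies in the conjugate
  have hl3 : (l : G) * y * (l : G)⁻¹ ∈ Subgroup.zpowers (g * y * g⁻¹) := by
    rw [← hl2, CfsgLib.Solv.mem_conj_smul]
    have : (l : G)⁻¹ * ((l : G) * y * (l : G)⁻¹) * (l : G) = y := by group
    rw [this]
    exact Subgroup.mem_zpowers y
  obtain ⟨k, hk⟩ := hl3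
  simp only at hk
  -- modulo `M`, `l` commutes with `y`
  have hlL : (l : G) ∈ Subgroup.zpowers y ⊔ M := by rw [← hL]; exact l.2
  rw [← SetLike.mem_coe, Subgroup.mul_normal, Set.mem_mul] at hlL
  obtain ⟨v, ⟨j, hj⟩, m, hm, hvm⟩ := hlL
  simp only at hj
  have hπm : ((m : G) : G ⧸ M) = 1 := (QuotientGroup.eq_one_iff m).2 hm
  have hπ : (((l : G) * y * (l : G)⁻¹ : G) : G ⧸ M) = (y : G ⧸ M) := by
    rw [← hvm, ← hj]
    have e : ((y ^ j * m * y * (y ^ j * m)⁻¹ : G) : G ⧸ M) =
        ((y ^ j : G) : G ⧸ M) * (m : G ⧸ M) * (y : G ⧸ M) * ((m : G ⧸ M))⁻¹ * ((y ^ j : G) : G ⧸ M)⁻¹ := by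
      simp [mul_assoc]
    rw [e, hπm]
    simp only [mul_one, one_mul, inv_one]
    have hc : Commute ((y ^ j : G) : G ⧸ M) (y : G ⧸ M) := by
      have : Commute (y ^ j) y := (Commute.refl y).zpow_left j
      exact this.map (QuotientGroup.mk' M)
    rw [hc.eq]; group
  have hπ2 : ((y ^ (-k) : G) : G ⧸ M) = (y : G ⧸ M) := by
    rw [← hπ, ← hk]
    have e2 : (((g * y * g⁻¹) ^ k : G) : G ⧸ M) = ((g * y * g⁻¹ : G) : G ⧸ M) ^ k := rfl
    rw [e2, h]
    have e3 : ((y ^ (-k) : G) : G ⧸ M) = ((y : G ⧸ M)) ^ (-k) := rfl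
    have e4 : ((y⁻¹ : G) : G ⧸ M) = (y : G ⧸ M)⁻¹ := rfl
    rw [e3, e4, inv_zpow, zpow_neg]
  have hkey : y ^ (k + 1) = 1 := by
    have h1 : (y ^ (-k))⁻¹ * y ∈ M := QuotientGroup.eq.1 hπ2
    have h2 : (y ^ (-k))⁻¹ * y = y ^ (k + 1) := by
      rw [zpow_neg, inv_inv, zpow_add_one]
    rw [h2] at h1
    have h3 : y ^ (k + 1) ∈ Subgroup.zpowers y ⊓ M := ⟨⟨_, rfl⟩, h1⟩
    rw [hYM] at h3
    exact Subgroup.mem_bot.1 h3
  have hyk : y ^ k = y⁻¹ := by
    rw [zpow_add_one] at hkey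
    exact eq_inv_of_mul_eq_one_left hkey
  refine ⟨g⁻¹ * l, ?_⟩
  have e1 : ((g * y * g⁻¹) ^ k : G) = g * y ^ k * g⁻¹ := conj_zpow
  calc g⁻¹ * (l : G) * y * (g⁻¹ * (l : G))⁻¹ = g⁻¹ * ((l : G) * y * (l : G)⁻¹) * g := by group
    _ = g⁻¹ * (g * y ^ k * g⁻¹) * g := by rw [← hk, e1]
    _ = y⁻¹ := by rw [hyk]; group

/-- No nontrivial real elements of odd order implies normal Sylow 2-subgroups. -/
theorem sylow_two_normal_of_no_real : ∀ (n : ℕ) (G : Type u) [Group G] [Finite G], Nat.card G = n →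
    (∀ x : G, x ≠ 1 → Odd (orderOf x) → ¬ IsConj x x⁻¹) → ∀ P : Sylow 2 G, (P : Subgroup G).Normal := by
  intro n
  induction n using Nat.strong_induction_on with
  | _ n ih =>
    intro G _ _ hG hreal P
    classical
    haveI : Fact (Nat.Prime 2) := ⟨Nat.prime_two⟩
    have hinv : ∀ t : G, orderOf t = 2 → t ∈ Cfsg.pCore 2 G := by
      intro t ht
      by_contra hnt
      obtain ⟨h, h1, h2, h3⟩ := CfsgLib.Invol.exists_inverted_odd t ht (by
        intro N hN hN2 htN
        haveI := hN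
        exact hnt (CfsgLib.Solv.le_pCore' N hN2 htN))
      exact hreal h h1 h2 (isConj_iff.2 ⟨t, h3⟩)
    haveI hMn : (Cfsg.pCore 2 G).Normal := CfsgLib.Solv.pCore_normal' 2
    have hMp : IsPGroup 2 (Cfsg.pCore 2 G) := CfsgLib.Solv.pCore_isPGroup 2
    by_cases hM : Cfsg.pCore 2 G = ⊥
    · have hP : (P : Subgroup G) = ⊥ := by
        by_contra hne
        have h1 := Subgroup.one_lt_card_iff_ne_bot _ |>.2 hne
        obtain ⟨a, ha⟩ := (IsPGroup.iff_card).1 P.isPGroup'
        have h2 : 2 ∣ Nat.card G := by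
          refine Dvd.dvd.trans ?_ (Subgroup.card_subgroup_dvd_card (P : Subgroup G))
          rw [ha]
          apply dvd_pow_self
          rintro rfl
          simp [ha] at h1
        obtain ⟨t, ht⟩ := exists_prime_orderOf_dvd_card' 2 h2
        have := hinv t ht
        rw [hM, Subgroup.mem_bot] at this
        rw [this, orderOf_one] at ht
        omega
      rw [hP]
      infer_instance
    · have hlt : Nat.card (G ⧸ Cfsg.pCore 2 G) < n := by
        rw [← hG, Subgroup.card_eq_card_quotient_mul_card_subgroup (Cfsg.pCore 2 G)]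
        have h1 : 1 < Nat.card (Cfsg.pCore 2 G) := Subgroup.one_lt_card_iff_ne_bot _ |>.2 hM
        have h2 : 0 < Nat.card (G ⧸ Cfsg.pCore 2 G) := Nat.card_pos
        nlinarith
      have hQ := ih _ hlt (G ⧸ Cfsg.pCore 2 G) rfl (by
        intro x hx1 hxo hxr
        obtain ⟨g0, hg0⟩ := QuotientGroup.mk_surjective x
        obtain ⟨y, hy, hyo⟩ := CfsgLib.FGS.exists_pi_lift {r : ℕ | r ≠ 2} (Cfsg.pCore 2 G) x (by
          intro r hr hrd
          show r ≠ 2
          rintro rfl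
          exact (Nat.not_even_iff_odd.2 hxo) (even_iff_two_dvd.2 hrd)) _ g0 rfl hg0
        have hyodd : Odd (orderOf y) := by
          rw [← Nat.not_even_iff_odd, even_iff_two_dvd]
          intro hd
          exact hyo 2 Nat.prime_two hd rfl
        obtain ⟨c, hc⟩ := isConj_iff.1 hxr
        obtain ⟨g, rfl⟩ := QuotientGroup.mk_surjective c
        obtain ⟨c', hc'⟩ := CfsgLib.FGS.real_lift (M := Cfsg.pCore 2 G) hMp (y := y) (g := g) hyodd (by
          rw [← hy] at hc
          exact hc)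
        have hy1 : y ≠ 1 := by
          rintro rfl
          apply hx1
          rw [← hy]
          rfl
        exact hreal y hy1 hyodd (isConj_iff.2 ⟨c', hc'⟩)) (P.mapSurjective (QuotientGroup.mk'_surjective (Cfsg.pCore 2 G)))
      have hle : Cfsg.pCore 2 G ≤ (P : Subgroup G) := hMp.le_sylow_of_normal P
      have h1 : (P : Subgroup G) = ((P : Subgroup G).map (QuotientGroup.mk' (Cfsg.pCore 2 G))).comap (QuotientGroup.mk' (Cfsg.pCore 2 G)) := by
        rw [Subgroup.comap_map_eq_self]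
        rw [QuotientGroup.ker_mk']
        exact hle
      rw [h1]
      exact Subgroup.Normal.comap hQ _

end CfsgLib.FGS
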