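import Cfsg.Agent.Lib.FGS.Syl
import Cfsg.Agent.Lib.FGS.FrobDiv

/-!
Groups in which `p` divides no class size of a `p`-regular element.
-/

set_option autoImplicit false
set_option linter.unusedSectionVars false

open Pointwise

namespace CfsgLib.FGS

open Subgroup

universe u

variable {G : Type u} [Group G] [Finite G] {p : ℕ} [hp : Fact p.Prime]

/-- `p`-elements commuting with a `p'`-element `k` cannot be combined. -/
theorem eq_one_of_commute_of_coprime {w k : G} (hw : ∃ n : ℕ, w ^ p ^ n = 1) (hc : Commute w k)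
    (hk : (orderOf k).Coprime p) (hk' : (orderOf (w * k)).Coprime p) : w = 1 := by
  obtain ⟨n, hn⟩ := hw
  have h1 : orderOf w ∣ p ^ n := orderOf_dvd_of_pow_eq_one hn
  obtain ⟨j, _, hj⟩ := (Nat.dvd_prime_pow hp.out).mp h1
  have hcop : (orderOf w).Coprime (orderOf k) := by
    rw [hj]
    exact Nat.Coprime.pow_left _ hk.symm
  have h2 := hc.orderOf_mul_eq_mul_orderOf_of_coprime hcop
  rw [h2, hj] at hk'
  have h3 : (p ^ j).Coprime p := Nat.Coprime.coprime_mul_right hk'
  rcases Nat.eq_zero_or_pos j with h0 | h0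
  · rw [h0, pow_zero] at hj
    exact orderOf_eq_one_iff.mp hj
  · exfalso
    have h4 : p ∣ Nat.gcd (p ^ j) p := Nat.dvd_gcd (dvd_pow_self p h0.ne') dvd_rfl
    rw [h3] at h4
    exact hp.out.one_lt.ne' (Nat.dvd_one.mp h4)

/-- The set of `p'`-elements centralizing `Q`. -/
noncomputable def regCent (p : ℕ) (Q : Subgroup G) : Finset G := by
  classical
  haveI := Fintype.ofFinite G
  exact Finset.univ.filter (fun x => (orderOf x).Coprime p ∧ ∀ y ∈ Q, x * y = y * x)

theorem mem_regCent {Q : Subgroup G} {x : G} :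
    x ∈ regCent p Q ↔ (orderOf x).Coprime p ∧ ∀ y ∈ Q, x * y = y * x := by
  classical
  haveI := Fintype.ofFinite G
  simp [regCent]

theorem card_regCent_mul_le (Q : Sylow p G) :
    (regCent p (Q : Subgroup G)).card * Nat.card (Q : Subgroup G) ≤
      Nat.card (normalizer ((Q : Subgroup G) : Set G)) := by
  classical
  haveI := Fintype.ofFinite G
  let f : (↥(regCent p (Q : Subgroup G))) × (Q : Subgroup G) → normalizer ((Q : Subgroup G) : Set G) :=
    fun a => ⟨a.2.1 * a.1.1, by
      refine Subgroup.mul_mem _ (Subgroup.le_normalizer a.2.2) ?_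
      apply (Subgroup.centralizer_le_normalizer _)
      show a.1.1 ∈ centralizer ((Q : Subgroup G) : Set G)
      rw [Subgroup.mem_centralizer_iff]
      intro y hy
      exact ((mem_regCent.mp a.1.2).2 y hy).symm⟩
  have hf : Function.Injective f := by
    rintro ⟨⟨k, hk⟩, ⟨u, hu⟩⟩ ⟨⟨k', hk'⟩, ⟨u', hu'⟩⟩ he
    have he' : u * k = u' * k' := congrArg Subtype.val he
    have hk1 := mem_regCent.mp hk
    have hk2 := mem_regCent.mp hk'
    have hw : u'⁻¹ * u ∈ (Q : Subgroup G) := Subgroup.mul_mem _ (Subgroup.inv_mem _ hu') hu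
    have hk3 : k' = (u'⁻¹ * u) * k := by
      rw [mul_assoc, he']; group
    have hw1 : u'⁻¹ * u = 1 := by
      refine eq_one_of_commute_of_coprime (p := p) ?_ ?_ hk1.1 ?_
      · obtain ⟨n, hn⟩ := Q.isPGroup' ⟨_, hw⟩
        exact ⟨n, by simpa [Subtype.ext_iff] using hn⟩
      · exact (hk1.2 _ hw).symm
      · rw [← hk3]; exact hk2.1
    have h1 : u = u' := by
      have := mul_eq_one_iff_eq_inv.mp hw1
      simpa using this.symm
    subst h1
    have h2 : k = k' := mul_left_cancel he'
    subst h2
    rfl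
  have h := Nat.card_le_card_of_injective f hf
  rw [Nat.card_prod] at h
  simpa using h

/-- Main counting: the Sylow subgroup is normal when all `p`-regular classes have `p'`-size. -/
theorem sylow_normal_of_regular
    (h : ∀ x : G, (orderOf x).Coprime p → ¬ p ∣ (centralizer ({x} : Set G)).index) :
    Nat.card (Sylow p G) = 1 := by
  classical
  haveI := Fintype.ofFinite G
  haveI := Fintype.ofFinite (Sylow p G)
  set n := Nat.card (Sylow p G) with hn
  let P0 : Sylow p G := default
  set m := (P0 : Subgroup G).index with hm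
  have hcardG : m * Nat.card (P0 : Subgroup G) = Nat.card G := (P0 : Subgroup G).index_mul_card
  have hpos : 0 < Nat.card (P0 : Subgroup G) := Nat.card_pos
  have hm0 : 0 < m := by
    rcases Nat.eq_zero_or_pos m with h0 | h0
    · rw [h0, zero_mul] at hcardG
      exact absurd hcardG.symm Nat.card_pos.ne'
    · exact h0
  have hnpos : 0 < n := Nat.card_pos
  have hmcop : m.Coprime p := ((Nat.Prime.coprime_iff_not_dvd hp.out).mpr P0.not_dvd_index).symm
  -- each Sylow bound
  have hbound : ∀ Q : Sylow p G, n * (regCent p (Q : Subgroup G)).card ≤ m := by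
    intro Q
    have h1 := card_regCent_mul_le Q
    have h2 : n = (normalizer ((Q : Subgroup G) : Set G)).index := Sylow.card_eq_index_normalizer Q
    have h3 : Nat.card (Q : Subgroup G) = Nat.card (P0 : Subgroup G) := by
      rw [Sylow.card_eq_multiplicity Q, Sylow.card_eq_multiplicity P0]
    have h4 := (normalizer ((Q : Subgroup G) : Set G)).index_mul_card
    rw [h3] at h1
    have h5 : n * ((regCent p (Q : Subgroup G)).card * Nat.card (P0 : Subgroup G)) ≤ m * Nat.card (P0 : Subgroup G) := by
      rw [hcardG, ← h4, ← h2]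
      exact Nat.mul_le_mul_left _ h1
    rw [← mul_assoc] at h5
    exact Nat.le_of_mul_le_mul_right h5 hpos
  -- the set of solutions
  let X : Finset G := Finset.univ.filter (fun x => x ^ m = 1)
  have hXcard : Nat.card {x : G // x ^ m = 1} = X.card := by
    rw [Nat.card_eq_fintype_card, Fintype.card_subtype]
  have hdvd : m ∣ X.card := by
    rw [← hXcard]
    exact dvd_card_pow_eq_one m ⟨_, hcardG.symm⟩
  have hXpos : 0 < X.card := Finset.card_pos.mpr ⟨1, by simp [X]⟩
  have hmle : m ≤ X.card := Nat.le_of_dvd hXpos hdvd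
  -- cover
  have hcover : X.erase 1 ⊆ (Finset.univ : Finset (Sylow p G)).biUnion
      (fun Q => (regCent p (Q : Subgroup G)).erase 1) := by
    intro x hx
    rw [Finset.mem_erase] at hx
    have hx1 : x ^ m = 1 := by simpa [X] using hx.2
    have hxcop : (orderOf x).Coprime p := Nat.Coprime.coprime_dvd_left (orderOf_dvd_of_pow_eq_one hx1) hmcop
    obtain ⟨g, hg⟩ := exists_conj_sylow_le (centralizer ({x} : Set G)) (h x hxcop) P0
    rw [Finset.mem_biUnion]
    refine ⟨(MulAut.conj g) • P0, Finset.mem_univ _, ?_⟩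
    rw [Finset.mem_erase]
    refine ⟨hx.1, ?_⟩
    rw [mem_regCent]
    refine ⟨hxcop, ?_⟩
    intro y hy
    have hy' : y ∈ (MulAut.conj g) • (P0 : Subgroup G) := hy
    obtain ⟨s, hs, rfl⟩ := Subgroup.mem_smul_pointwise_iff_exists _ _ _ |>.mp hy'
    have := hg s hs
    rw [Subgroup.mem_centralizer_singleton_iff] at this
    simpa [MulAut.smul_def, MulAut.conj_apply] using this.symm
  have hle1 : (X.erase 1).card ≤ ∑ Q : Sylow p G, ((regCent p (Q : Subgroup G)).erase 1).card :=
    (Finset.card_le_card hcover).trans Finset.card_biUnion_le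
  have hone : ∀ Q : Sylow p G, (1 : G) ∈ regCent p (Q : Subgroup G) := by
    intro Q
    rw [mem_regCent]
    simp
  have herase : ∀ Q : Sylow p G, ((regCent p (Q : Subgroup G)).erase 1).card + 1 = (regCent p (Q : Subgroup G)).card :=
    fun Q => Finset.card_erase_add_one (hone Q)
  -- sum bound
  have hsum : n * ∑ Q : Sylow p G, ((regCent p (Q : Subgroup G)).erase 1).card ≤ n * (m - n) := by
    have : n * ∑ Q : Sylow p G, ((regCent p (Q : Subgroup G)).erase 1).card
        = ∑ Q : Sylow p G, n * ((regCent p (Q : Subgroup G)).erase 1).card := Finset.mul_sum _ _ _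
    rw [this]
    have hc : ∀ Q ∈ (Finset.univ : Finset (Sylow p G)), n * ((regCent p (Q : Subgroup G)).erase 1).card ≤ m - n := by
      intro Q _
      have h1 := hbound Q
      rw [← herase Q, mul_add, mul_one] at h1
      omega
    have h2 := Finset.sum_le_card_nsmul _ _ _ hc
    rw [Finset.card_univ, ← Nat.card_eq_fintype_card, smul_eq_mul] at h2
    exact h2
  have hsum' : ∑ Q : Sylow p G, ((regCent p (Q : Subgroup G)).erase 1).card ≤ m - n :=
    Nat.le_of_mul_le_mul_left hsum hnpos
  have hXe : (X.erase 1).card + 1 = X.card := Finset.card_erase_add_one (by simp [X])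
  have hnm : n ≤ m := by
    have := hbound P0
    have h1 : 0 < (regCent p (P0 : Subgroup G)).card := Finset.card_pos.mpr ⟨1, hone P0⟩
    nlinarith
  omega

/-- With the same hypothesis, all `p'`-elements centralize the Sylow subgroup and it has a central
normal complement. -/
theorem direct_of_regular
    (h : ∀ x : G, (orderOf x).Coprime p → ¬ p ∣ (centralizer ({x} : Set G)).index) (P : Sylow p G) :
    (P : Subgroup G).Normal ∧ ∃ H : Subgroup G, H.Normal ∧ ¬ p ∣ Nat.card H ∧
      (P : Subgroup G) ⊓ H = ⊥ ∧ (P : Subgroup G) ⊔ H = ⊤ ∧ ∀ x ∈ H, ∀ y ∈ (P : Subgroup G), x * y = y * x := by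
  classical
  have hcard := sylow_normal_of_regular (p := p) h
  haveI hsub : Subsingleton (Sylow p G) := (Nat.card_eq_one_iff_unique.mp hcard).1
  have hPn : (P : Subgroup G).Normal := Sylow.normal_of_subsingleton P
  haveI := hPn
  refine ⟨hPn, ?_⟩
  have hcop : Nat.Coprime (Nat.card (P : Subgroup G)) (P : Subgroup G).index := by
    obtain ⟨k, hk⟩ := IsPGroup.iff_card.mp P.isPGroup'
    rw [hk]
    exact Nat.Coprime.pow_left _ ((Nat.Prime.coprime_iff_not_dvd hp.out).mpr P.not_dvd_index)
  obtain ⟨H, hH⟩ := Subgroup.exists_right_complement'_of_coprime hcop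
  have hHcard : Nat.card H = (P : Subgroup G).index := by
    have h1 := hH.card_mul_card
    have h2 := (P : Subgroup G).card_mul_index
    have h3 : 0 < Nat.card (P : Subgroup G) := Nat.card_pos
    exact Nat.eq_of_mul_eq_mul_left h3 (h1.trans h2.symm)
  have hHcop : ¬ p ∣ Nat.card H := by rw [hHcard]; exact P.not_dvd_index
  have hcomm : ∀ x ∈ H, ∀ y ∈ (P : Subgroup G), x * y = y * x := by
    intro x hx y hy
    have hxo : (orderOf x).Coprime p := by
      have h1 : orderOf x ∣ Nat.card H := by
        have := Subgroup.orderOf_dvd_natCard H hx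
        exact this
      refine Nat.Coprime.coprime_dvd_left h1 ?_
      exact ((Nat.Prime.coprime_iff_not_dvd hp.out).mpr hHcop).symm
    obtain ⟨g, hg⟩ := exists_conj_sylow_le (centralizer ({x} : Set G)) (h x hxo) P
    have h2 : g⁻¹ * y * g ∈ (P : Subgroup G) := by
      have := hPn.conj_mem y hy g⁻¹
      simpa using this
    have h3 := hg _ h2
    rw [Subgroup.mem_centralizer_singleton_iff] at h3
    have h4 : g * (g⁻¹ * y * g) * g⁻¹ = y := by group
    rw [h4] at h3
    exact h3.symm
  have hsup : (P : Subgroup G) ⊔ H = ⊤ := hH.sup_eq_top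
  refine ⟨H, ?_, hHcop, hH.disjoint.eq_bot, hsup, hcomm⟩
  constructor
  intro x hx g
  have hg : g ∈ (((P : Subgroup G) ⊔ H : Subgroup G) : Set G) := by rw [hsup]; trivial
  rw [Subgroup.normal_mul] at hg
  obtain ⟨u, hu, v, hv, rfl⟩ := Set.mem_mul.mp hg
  have hv2 : v * x * v⁻¹ ∈ H := H.mul_mem (H.mul_mem hv hx) (H.inv_mem hv)
  have h5 := hcomm _ hv2 u hu
  have h6 : u * v * x * (u * v)⁻¹ = v * x * v⁻¹ := by
    have : u * v * x * (u * v)⁻¹ = u * (v * x * v⁻¹) * u⁻¹ := by group
    rw [this, ← h5]; group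
  rw [h6]
  exact hv2

end CfsgLib.FGS
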