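import Cfsg.Agent.Lib.FGS.Mod
import Cfsg.Agent.Lib.PLocal.CardSup

/-!
# Numbers of Sylow subgroups of quotients.
-/

set_option autoImplicit false
set_option linter.unusedSectionVars false
set_option linter.style.haveILetI false

namespace CfsgLib.FGS

open scoped Pointwise

variable {G : Type*} [Group G] [Finite G] {p : ℕ} [hp : Fact p.Prime]

/-- The number of Sylow subgroups of a quotient. -/
theorem card_sylow_quotient_eq (M : Subgroup G) [M.Normal] (P : Sylow p G) :
    Nat.card (Sylow p (G ⧸ M)) =
      (Subgroup.normalizer ((P : Subgroup G) : Set G) ⊔ M).index := by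
  classical
  set K := Subgroup.normalizer ((P : Subgroup G) : Set G) with hK
  let π := QuotientGroup.mk' M
  have hπs : Function.Surjective π := QuotientGroup.mk'_surjective M
  let Pb : Sylow p (G ⧸ M) := P.mapSurjective hπs
  have hPb : (Pb : Subgroup (G ⧸ M)) = (P : Subgroup G).map π := rfl
  rw [Sylow.card_eq_index_normalizer Pb]
  have hcomap : (Subgroup.normalizer ((Pb : Subgroup (G ⧸ M)) : Set (G ⧸ M))).comap π = K ⊔ M := by
    apply le_antisymm
    · intro g hg
      have hg' : π g ∈ Subgroup.normalizer ((Pb : Subgroup (G ⧸ M)) : Set (G ⧸ M)) := hg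
      set L := (P : Subgroup G) ⊔ M with hL
      have hker : π.ker = M := QuotientGroup.ker_mk' M
      have hLc : ((P : Subgroup G).map π).comap π = L := by
        rw [Subgroup.comap_map_eq, hker]
      have hconjL : ∀ x ∈ (P : Subgroup G), g * x * g⁻¹ ∈ L := by
        intro x hx
        rw [← hLc]
        show π (g * x * g⁻¹) ∈ (P : Subgroup G).map π
        rw [map_mul, map_mul, map_inv]
        rw [← hPb]
        exact (Subgroup.mem_normalizer_iff.mp hg' (π x)).mp
          (by rw [hPb]; exact ⟨x, hx, rfl⟩)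
      have hA : (P : Subgroup G).map (MulAut.conj g).toMonoidHom ≤ L := by
        rintro _ ⟨x, hx, rfl⟩
        exact hconjL x hx
      have hB : (P : Subgroup G) ≤ L := le_sup_left
      have hApg : IsPGroup p ((P : Subgroup G).map (MulAut.conj g).toMonoidHom) :=
        P.isPGroup'.map _
      have hcA : Nat.card ((P : Subgroup G).map (MulAut.conj g).toMonoidHom) =
          Nat.card (P : Subgroup G) :=
        Subgroup.card_map_of_injective (MulAut.conj g).injective
      obtain ⟨l, hl, hlc⟩ := conj_in_of_card hA hB hApg hcA (by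
        intro m hm
        rw [hcA] at hm
        intro hdvd
        apply P.not_dvd_index
        have h1 : (P : Subgroup G).relIndex L = m := by
          have h2 := Subgroup.card_mul_index ((P : Subgroup G).subgroupOf L)
          have h3 : Nat.card ((P : Subgroup G).subgroupOf L) = Nat.card (P : Subgroup G) :=
            Nat.card_congr (Subgroup.subgroupOfEquivOfLe hB).toEquiv
          rw [h3, ← hm] at h2
          exact Nat.eq_of_mul_eq_mul_left Nat.card_pos h2
        rw [← Subgroup.relIndex_mul_index hB, h1]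
        exact Dvd.dvd.mul_right hdvd _)
      have hlg : l * g ∈ K := by
        apply mem_normalizer_of_conj_le
        intro x hx
        have h1 := hlc (g * x * g⁻¹) ⟨x, hx, rfl⟩
        have h2 : l * g * x * (l * g)⁻¹ = l * (g * x * g⁻¹) * l⁻¹ := by group
        rw [h2]
        exact h1
      have hle : L ≤ K ⊔ M := sup_le_sup_right Subgroup.le_normalizer M
      have h3 : g = l⁻¹ * (l * g) := by group
      rw [h3]
      exact Subgroup.mul_mem _ (Subgroup.inv_mem _ (hle hl)) ((le_sup_left : K ≤ K ⊔ M) hlg)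
    · apply sup_le
      · intro g hg
        show π g ∈ Subgroup.normalizer ((Pb : Subgroup (G ⧸ M)) : Set (G ⧸ M))
        apply mem_normalizer_of_conj_le
        rintro _ ⟨x, hx, rfl⟩
        refine ⟨g * x * g⁻¹, (Subgroup.mem_normalizer_iff.mp hg x).mp hx, ?_⟩
        simp
      · intro m hm
        show π m ∈ Subgroup.normalizer ((Pb : Subgroup (G ⧸ M)) : Set (G ⧸ M))
        have h1 : π m = 1 := by
          show ((m : G) : G ⧸ M) = 1
          exact (QuotientGroup.eq_one_iff m).mpr hm
        rw [h1]
        exact Subgroup.one_mem _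
  rw [← hcomap, Subgroup.index_comap_of_surjective _ hπs]
  rfl

/-- An element of `PM ∩ PN` with `M ∩ N = 1`, `P` Sylow, lies in `P`. -/
theorem mem_of_mem_sup_inf_sup (M N : Subgroup G) [M.Normal] [N.Normal] (hMN : M ⊓ N = ⊥)
    (P : Sylow p G) : ((P : Subgroup G) ⊔ M) ⊓ ((P : Subgroup G) ⊔ N) ≤ P := by
  classical
  have hX : IsPGroup p ↥(((P : Subgroup G) ⊔ M) ⊓ ((P : Subgroup G) ⊔ N)) := by
    rintro ⟨z, hz1, hz2⟩
    have hstep : ∀ (R : Subgroup G) [R.Normal], z ∈ (P : Subgroup G) ⊔ R →
        ∃ k, z ^ p ^ k ∈ R := by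
      intro R _ hzR
      have h1 : (z : G ⧸ R) ∈ (P : Subgroup G).map (QuotientGroup.mk' R) := by
        have h2 : (P : Subgroup G) ⊔ R = ((P : Subgroup G).map (QuotientGroup.mk' R)).comap
            (QuotientGroup.mk' R) := by
          rw [Subgroup.comap_map_eq, QuotientGroup.ker_mk']
        rw [h2] at hzR
        exact hzR
      have hq : IsPGroup p ((P : Subgroup G).map (QuotientGroup.mk' R)) :=
        P.isPGroup'.map _
      obtain ⟨k, hk⟩ := hq ⟨_, h1⟩
      refine ⟨k, ?_⟩
      have hk' : (z : G ⧸ R) ^ p ^ k = 1 := by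
        simpa using congrArg
          (fun w : ((P : Subgroup G).map (QuotientGroup.mk' R)) => (w : G ⧸ R)) hk
      rw [← QuotientGroup.mk_pow, QuotientGroup.eq_one_iff] at hk'
      exact hk'
    obtain ⟨a, ha⟩ := hstep M hz1
    obtain ⟨b, hb⟩ := hstep N hz2
    refine ⟨a + b, ?_⟩
    apply Subtype.ext
    have h1 : z ^ p ^ (a + b) ∈ M ⊓ N := by
      constructor
      · rw [pow_add, pow_mul]
        exact pow_mem ha _
      · rw [pow_add, mul_comm, pow_mul]
        exact pow_mem hb _
    rw [hMN, Subgroup.mem_bot] at h1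
    simpa using h1
  have h := P.3 hX (le_inf le_sup_left le_sup_left)
  exact h.le

/-- The index of `H` in `H ⊔ M`. -/
theorem relIndex_sup_mul_card_inf (H M : Subgroup G) [M.Normal] :
    H.relIndex (H ⊔ M) * Nat.card ↥(H ⊓ M) = Nat.card M := by
  have h1 := CfsgLib.PLocal.card_sup_mul_card_inf H M (by
    rw [Subgroup.normalizer_eq_top_iff.mpr ‹_›]
    exact le_top)
  have h2 : Nat.card ↥(H.subgroupOf (H ⊔ M)) * H.relIndex (H ⊔ M) = Nat.card ↥(H ⊔ M) :=
    Subgroup.card_mul_index _
  have h3 : Nat.card ↥(H.subgroupOf (H ⊔ M)) = Nat.card H :=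
    Nat.card_congr (Subgroup.subgroupOfEquivOfLe le_sup_left).toEquiv
  rw [h3] at h2
  apply Nat.eq_of_mul_eq_mul_left (Nat.card_pos (α := H))
  rw [← h1, ← h2]
  ring

end CfsgLib.FGS
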