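import Cfsg.Agent.Lib.SS.Sub2

/-!
The zipper lemma in a form with a unique maximal overgroup.
-/

set_option autoImplicit false
set_option linter.unusedSectionVars false

open scoped Pointwise

namespace CfsgLib.FGS

open Subgroup CfsgLib.Solv CfsgLib.SS

universe u

variable {G : Type u} [Group G] [Finite G]

/-- Zipper: a non-subnormal subgroup which is subnormal in proper overgroups lies in a unique
maximal subgroup. -/
theorem zipper_unique_max (A : Subgroup G) (hno : ¬ A.IsSubnormal)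
    (step1 : ∀ Y B : Subgroup G, Y ≠ ⊤ → (∃ g : G, B = MulAut.conj g • A) → B ≤ Y → (B.subgroupOf Y).IsSubnormal) :
    ∃ M : Subgroup G, M ≠ ⊤ ∧ A ≤ M ∧ ∀ V : Subgroup G, V ≠ ⊤ → A ≤ V → V ≤ M := by
  have hAtop : A ≠ ⊤ := fun h => hno (h ▸ Subgroup.IsSubnormal.top)
  have h0 : ∀ Y : Subgroup G, Y ≠ ⊤ → A ≤ Y → (A.subgroupOf Y).IsSubnormal := by
    intro Y hY hAY
    exact step1 Y A hY ⟨1, (conj_one_smul A).symm⟩ hAY
  have htrans : ∀ Y : Subgroup G, Y.Normal → Y ≠ ⊤ → A ≤ Y → False := by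
    intro Y hY hYt hAY
    exact hno (Subgroup.IsSubnormal.trans hAY (h0 Y hYt hAY) hY.isSubnormal)
  set U : Set (Subgroup G) := {V | V ≠ ⊤ ∧ A ≤ V} with hU
  set S : Subgroup G → Set (Subgroup G) := fun V =>
    {B | (∃ g : G, B = MulAut.conj g • A) ∧ B ≤ V ∧ (B.subgroupOf V).IsSubnormal} with hSdef
  obtain ⟨M, hM, hgreat⟩ := zipper_greatest A U ⟨A, hAtop, le_rfl⟩ S (fun V B => Iff.rfl)
    (by
      intro V hV
      exact ⟨⟨1, (conj_one_smul A).symm⟩, hV.2, h0 V hV.1 hV.2⟩)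
    (by
      rintro V hV W hW B ⟨⟨g, hg⟩, -, -⟩ hBV
      exact ⟨⟨g, hg⟩, hBV, step1 V B hV.1 ⟨g, hg⟩ hBV⟩)
    (by
      intro V hV W hW
      set T := sSup (S V ∩ S W) with hT
      have hAT : A ≤ T := le_sSup
        ⟨⟨⟨1, (conj_one_smul A).symm⟩, hV.2, h0 V hV.1 hV.2⟩,
          ⟨⟨1, (conj_one_smul A).symm⟩, hW.2, h0 W hW.1 hW.2⟩⟩
      have hTV : T ≤ V := sSup_le (fun B hB => hB.1.2.1)
      have hTtop : T ≠ ⊤ := fun h => hV.1 (by rw [eq_top_iff, ← h]; exact hTV)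
      by_cases hN : normalizer (T : Set G) = ⊤
      · exact (htrans T (Subgroup.normalizer_eq_top_iff.1 hN) hTtop hAT).elim
      · exact ⟨normalizer (T : Set G), ⟨hN, hAT.trans Subgroup.le_normalizer⟩, le_rfl⟩)
  exact ⟨M, hM.1, hM.2, fun V hV hAV => hgreat V ⟨hV, hAV⟩⟩

/-- In the situation of the zipper lemma, a conjugating element taking `A` into `M` lies in `M`,
provided `A` is not subnormal. -/
theorem zipper_mem_of_conj_le {A M : Subgroup G} (hno : ¬ A.IsSubnormal) (hM : M ≠ ⊤) (hAM : A ≤ M)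
    (hgreat : ∀ V : Subgroup G, V ≠ ⊤ → A ≤ V → V ≤ M)
    (hsn : (A.subgroupOf M).IsSubnormal) {y : G} (hy : ∀ a ∈ A, y * a * y⁻¹ ∈ M) : y ∈ M := by
  classical
  -- `y⁻¹ M y` contains `A`
  have h1 : A ≤ MulAut.conj y⁻¹ • M := by
    intro a ha
    rw [mem_conj_smul]
    simpa using hy a ha
  have h2 : MulAut.conj y⁻¹ • M ≠ ⊤ := by
    intro h
    apply hM
    have h3 : Nat.card (MulAut.conj y⁻¹ • M : Subgroup G) = Nat.card M := card_conj_smul y⁻¹ M
    rw [h] at h3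
    rw [eq_top_iff]
    intro x _
    have : M = ⊤ := Subgroup.eq_top_of_card_eq M (by rw [← h3]; simp)
    rw [this]; trivial
  have h3 := hgreat _ h2 h1
  have h4 : MulAut.conj y⁻¹ • M = M := Subgroup.eq_of_le_of_card_ge h3 (by
    rw [card_conj_smul])
  have hyN : y⁻¹ ∈ normalizer (M : Set G) := by
    apply CfsgLib.Solv.mem_normalizer_of_conj_eq
    exact h4
  have hNM : normalizer (M : Set G) ≠ ⊤ := by
    intro h
    have hMn : M.Normal := Subgroup.normalizer_eq_top_iff.1 h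
    exact hno (Subgroup.IsSubnormal.trans hAM hsn hMn.isSubnormal)
  have h5 := hgreat _ hNM (hAM.trans Subgroup.le_normalizer)
  have h6 := h5 hyN
  simpa using M.inv_mem h6

end CfsgLib.FGS
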